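import Cfsg.Agent.Mrg.Omega.IId.Ns.Defs
import Cfsg.Agent.Mrg.Omega.NO3b.UMethod
import Cfsg.Agent.Mrg.Omega.IId.Cv.HalfGen
import Cfsg.Agent.Mrg.Omega.Half.Basic
import Mathlib.FieldTheory.Finite.Basic
import Cfsg.Agent.Lib.GoldschmidtFusion
import Cfsg.Agent.Lib.ProductSet

-- merged: Cfsg.Agent.Mrg.Omega.IId.Ns.HFac
section

section


/-!
# II.d, `k = 2`, nonsplit: the action of the `i`-th factor

`M : NatK F S P V D k`, `V = zl S P`, `D = cv S P`, `Al M i x B` : `x ∈ P` acts as `B` on the `i`-th factor of `V / D`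
only and centralises `D`.

* `same_V`, `same_A` : elements of `P` with the same matrices act in the same way on `V` and on `Ω₁(Z(O₂(P)))`;
* `fix_ker` : `|F| ≥ 4` ==> `Al M i x B` centralises every `v ∈ V` without `i`-th coordinate;
* `fix_line` : `Al M i x (up c)` centralises every `v ∈ V` whose `i`-th coordinate is on the line;
* `Mv M g i j` : `g` maps the `i`-th factor to the `j`-th; `conj_Al`, `conj_line`.
-/

set_option autoImplicit false
set_option linter.unusedSectionVars false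

namespace Cfsg.Agent.Omega.IId.Ns

open Subgroup Cfsg Cfsg.Agent.ZN Cfsg.Agent.ZN.ChoiceSit Cfsg.Agent.ZN.ChoiceBase Cfsg.Agent.Omega.MinPar
open Cfsg.Agent.Omega.FrameFF Cfsg.Agent.Omega.FFThm Cfsg.Agent.Lib.SL2Mat
open Cfsg.Agent.Omega.NatPair (ap ap_add ap_mul ap_one ap_inj ext2 ap_zero' ap_one' ap_inv_ap ap_ap_inv)
open Cfsg.Agent.Omega.HOne (cv_le conj_mem_zl conj_mem_cv)
open Cfsg.Agent.Omega.IId.Cv
open Cfsg.Agent.MinSimple.VModule (zc_comm zc_sq zc_le mem_zc le_normalizer_o2)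

universe u

variable {G : Type u} [Group G] {F : Type} [Field F]

theorem ap_zero2 (A : Matrix.SpecialLinearGroup (Fin 2) F) : ap A (0 : Fin 2 → F) = 0 := by
  apply ext2
  · rw [ap_zero']; simp
  · rw [ap_one']; simp

theorem ap_up2 (a : F) (x : Fin 2 → F) : ap (up a) x = ![x 0 + a * x 1, x 1] := by
  apply ext2
  · rw [ap_zero']; simp
  · rw [ap_one']; simp

theorem ap_eq_zero {A : Matrix.SpecialLinearGroup (Fin 2) F} {x : Fin 2 → F} : ap A x = 0 ↔ x = 0 := by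
  constructor
  · intro h
    rw [← ap_inv_ap A x, h, ap_zero2]
  · rintro rfl
    exact ap_zero2 A

theorem exists_omega [Finite F] (hF : 4 ≤ Nat.card F) : ∃ ω : F, ω ≠ 0 ∧ ω ≠ 1 := by
  classical
  by_contra hcon
  push Not at hcon
  have h1 : Nat.card F ≤ 2 := by
    have := Fintype.ofFinite F
    rw [Nat.card_eq_fintype_card]
    calc Fintype.card F = (Finset.univ : Finset F).card := rfl
      _ ≤ ({0, 1} : Finset F).card := Finset.card_le_card fun x _ => by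
          by_cases h0 : x = 0
          · simp [h0]
          · simp [hcon x h0]
      _ ≤ 2 := Finset.card_le_two
  omega

section gen

variable {S P : Subgroup G} {k : ℕ} (M : NatK F S P (zl S P) (cv S P) k)

/-- `x` acts as `B` on the `i`-th factor only. -/
def Al (i : Fin k) (x : G) (B : Matrix.SpecialLinearGroup (Fin 2) F) : Prop :=
  x ∈ P ∧ ActsSL M.e (zl S P) (cv S P) x (one1 i B)

theorem exists_Al (i : Fin k) (B : Matrix.SpecialLinearGroup (Fin 2) F) : ∃ x, Al M i x B := by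
  obtain ⟨g, hg, h⟩ := M.lift (one1 i B)
  exact ⟨g, hg, h⟩

variable {M}

theorem Al.mem_Fc {i : Fin k} {x : G} {B : Matrix.SpecialLinearGroup (Fin 2) F} (h : Al M i x B) : x ∈ Fc M i :=
  ⟨h.1, B, h.2⟩

theorem exists_of_Fc {i : Fin k} {x : G} (h : x ∈ Fc M i) : ∃ B, Al M i x B := by
  obtain ⟨h1, B, h2⟩ := h
  exact ⟨B, h1, h2⟩

theorem Al.mul {i : Fin k} {x y : G} {A B : Matrix.SpecialLinearGroup (Fin 2) F} (hx : Al M i x A) (hy : Al M i y B) :
    Al M i (x * y) (A * B) := by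
  refine ⟨mul_mem hx.1 hy.1, ?_⟩
  have h := acts_mul M hx.1 hy.1 hx.2 hy.2
  rwa [show (fun j => one1 i A j * one1 i B j) = one1 i (A * B) from funext (one1_mul i A B)] at h

theorem one1_inv {i : Fin k} (A : Matrix.SpecialLinearGroup (Fin 2) F) : (fun j => (one1 i A j)⁻¹) = one1 i A⁻¹ := by
  funext j
  by_cases h : j = i
  · subst h; rw [one1_same, one1_same]
  · rw [one1_ne h, one1_ne h, inv_one]

theorem Al.inv {i : Fin k} {x : G} {A : Matrix.SpecialLinearGroup (Fin 2) F} (hx : Al M i x A) :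
    Al M i x⁻¹ A⁻¹ := by
  refine ⟨inv_mem hx.1, ?_⟩
  have h := acts_inv M hx.1 hx.2
  rwa [one1_inv] at h

theorem Al.one (i : Fin k) : Al M i 1 1 := by
  refine ⟨one_mem _, ?_⟩
  rw [one1_one]; exact acts_one M

theorem Al.of_eq {i : Fin k} {x : G} {A B : Matrix.SpecialLinearGroup (Fin 2) F} (hx : Al M i x A) (h : A = B) :
    Al M i x B := h ▸ hx

theorem Al.same {i : Fin k} {x : G} {B : Matrix.SpecialLinearGroup (Fin 2) F} (hx : Al M i x B) {v : G}
    (hv : v ∈ zl S P) : M.e (x * v * x⁻¹) i = ap B (M.e v i) := by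
  rw [hx.2.1 v hv i, one1_same]

theorem Al.ne {i : Fin k} {x : G} {B : Matrix.SpecialLinearGroup (Fin 2) F} (hx : Al M i x B) {v : G}
    (hv : v ∈ zl S P) {j : Fin k} (hj : j ≠ i) : M.e (x * v * x⁻¹) j = M.e v j := by
  rw [hx.2.1 v hv j, one1_ne hj, ap_one]

theorem Al.D {i : Fin k} {x : G} {B : Matrix.SpecialLinearGroup (Fin 2) F} (hx : Al M i x B) {d : G}
    (hd : d ∈ cv S P) : x * d = d * x := hx.2.2 d hd

theorem Al.V {i : Fin k} {x : G} {B : Matrix.SpecialLinearGroup (Fin 2) F} (hx : Al M i x B) {v : G}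
    (hv : v ∈ zl S P) : x * v * x⁻¹ ∈ zl S P := conj_mem_zl hx.1 hv

/-- `[x, v] ∈ D` if `v` has no `i`-th coordinate -/
theorem Al.comm_mem {i : Fin k} {x : G} {B : Matrix.SpecialLinearGroup (Fin 2) F} (hx : Al M i x B) {v : G}
    (hv : v ∈ zl S P) (h0 : M.e v i = 0) : x * v * x⁻¹ * v⁻¹ ∈ cv S P := by
  rw [← eq_iff M (hx.V hv) hv]
  funext j
  by_cases hj : j = i
  · rw [hj, hx.same hv, h0, ap_zero2]
  · rw [hx.ne hv hj]

/-- `[x, v]` has no `j`-th coordinate, `j ≠ i` -/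
theorem Al.comm_ne {i : Fin k} {x : G} {B : Matrix.SpecialLinearGroup (Fin 2) F} (hx : Al M i x B) {v : G}
    (hv : v ∈ zl S P) {j : Fin k} (hj : j ≠ i) : M.e (x * v * x⁻¹ * v⁻¹) j = 0 := by
  rw [e_div M (hx.V hv) hv, Pi.sub_apply, hx.ne hv hj, sub_self]

theorem Al.comm_same {i : Fin k} {x : G} {B : Matrix.SpecialLinearGroup (Fin 2) F} (hx : Al M i x B) {v : G}
    (hv : v ∈ zl S P) : M.e (x * v * x⁻¹ * v⁻¹) i = ap B (M.e v i) - M.e v i := by
  rw [e_div M (hx.V hv) hv, Pi.sub_apply, hx.same hv]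

/-- a group computation -/
theorem commute_of_two {a b v d₁ d₂ : G} (h1 : a * v * a⁻¹ = d₁ * v) (h2 : b * v * b⁻¹ = d₂ * v)
    (c1 : a * d₂ = d₂ * a) (c2 : b * d₁ = d₁ * b) (c3 : d₁ * d₂ = d₂ * d₁) :
    a⁻¹ * b⁻¹ * a * b * v = v * (a⁻¹ * b⁻¹ * a * b) := by
  have e1 : a * (b * v * b⁻¹) * a⁻¹ = d₂ * (d₁ * v) := by
    rw [h2, ← h1]
    calc a * (d₂ * v) * a⁻¹ = (a * d₂) * v * a⁻¹ := by group
      _ = _ := by rw [c1]; group
  have e2 : b * (a * v * a⁻¹) * b⁻¹ = d₁ * (d₂ * v) := by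
    rw [h1, ← h2]
    calc b * (d₁ * v) * b⁻¹ = (b * d₁) * v * b⁻¹ := by group
      _ = _ := by rw [c2]; group
  have e3 : a * (b * v * b⁻¹) * a⁻¹ = b * (a * v * a⁻¹) * b⁻¹ := by
    rw [e1, e2, ← mul_assoc, ← mul_assoc, c3]
  have e4 : a⁻¹ * b⁻¹ * a * b * v * (a⁻¹ * b⁻¹ * a * b)⁻¹ = v := by
    calc a⁻¹ * b⁻¹ * a * b * v * (a⁻¹ * b⁻¹ * a * b)⁻¹ = a⁻¹ * b⁻¹ * (a * (b * v * b⁻¹) * a⁻¹) * b * a := by group
      _ = a⁻¹ * b⁻¹ * (b * (a * v * a⁻¹) * b⁻¹) * b * a := by rw [e3]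
      _ = v := by group
  exact mul_inv_eq_iff_eq_mul.1 e4

variable (M)

/-- `g` maps the `i`-th factor to the `j`-th. -/
def Mv (g : G) (i j : Fin k) : Prop := ∀ v ∈ zl S P, M.e (g * v * g⁻¹) j = 0 ↔ M.e v i = 0

variable {M}

theorem Mv.mul {g g' : G} {i j l : Fin k} (h : Mv M g j l) (h' : Mv M g' i j) (hg' : g' ∈ P) : Mv M (g * g') i l := by
  intro v hv
  have e : g * g' * v * (g * g')⁻¹ = g * (g' * v * g'⁻¹) * g⁻¹ := by group
  rw [e, h _ (conj_mem_zl hg' hv), h' v hv]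

theorem Mv.inv {g : G} {i j : Fin k} (h : Mv M g i j) (hg : g ∈ P) : Mv M g⁻¹ j i := by
  intro v hv
  have h1 := h _ (conj_mem_zl (inv_mem hg) hv)
  have e : g * (g⁻¹ * v * g⁻¹⁻¹) * g⁻¹ = v := by group
  rw [e] at h1
  exact h1.symm

theorem exists_single (i : Fin k) (y : Fin 2 → F) : ∃ v ∈ zl S P, M.e v i = y ∧ ∀ j, j ≠ i → M.e v j = 0 := by
  classical
  obtain ⟨v, hv, h⟩ := M.surj (fun j => if j = i then y else 0)
  refine ⟨v, hv, by rw [h]; simp, fun j hj => by rw [h]; simp [hj]⟩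

theorem Mv.unique {g : G} {i j j' : Fin k} (h : Mv M g i j) (h' : Mv M g i j') (hg : g ∈ P) : j = j' := by
  by_contra hne
  obtain ⟨u, hu, h1, h2⟩ := exists_single (M := M) j ![1, 0]
  have hv : g⁻¹ * u * g ∈ zl S P := by
    have := conj_mem_zl (inv_mem hg) hu
    rwa [inv_inv] at this
  have e : g * (g⁻¹ * u * g) * g⁻¹ = u := by group
  have h3 := h _ hv
  have h4 := h' _ hv
  rw [e] at h3 h4
  have h5 := h3.2 (h4.1 (h2 j' (Ne.symm hne)))
  rw [h1] at h5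
  have := congrFun h5 0
  simp at this

theorem Mv.unique' {g : G} {i i' j : Fin k} (h : Mv M g i j) (h' : Mv M g i' j) (hg : g ∈ P) : i = i' :=
  (h.inv hg).unique (h'.inv hg) (inv_mem hg)

theorem exists_Mv {g : G} (hg : g ∈ P) (i : Fin k) : ∃ j, Mv M g i j := by
  obtain ⟨σ, hσ⟩ := M.perm g hg
  exact ⟨σ i, fun v hv => hσ v hv i⟩

theorem exists_Mv' {g : G} (hg : g ∈ P) (j : Fin k) : ∃ i, Mv M g i j := by
  obtain ⟨i, hi⟩ := exists_Mv (M := M) (inv_mem hg) j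
  refine ⟨i, ?_⟩
  have := hi.inv (inv_mem hg)
  rwa [inv_inv] at this

/-- `g x g⁻¹` acts on the `j`-th factor only -/
theorem conj_Al {g x : G} {i j : Fin k} (hg : g ∈ P) (hm : Mv M g i j) {B : Matrix.SpecialLinearGroup (Fin 2) F}
    (hx : Al M i x B) : ∃ B', Al M j (g * x * g⁻¹) B' := by
  obtain ⟨C, hC⟩ := M.norm g hg x hx.1 _ hx.2.1
  refine ⟨C j, mul_mem (mul_mem hg hx.1) (inv_mem hg), fun v hv m => ?_, fun d hd => ?_⟩
  · by_cases hmj : m = j
    · subst hmj; rw [one1_same]; exact hC v hv m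
    · rw [one1_ne hmj, ap_one]
      obtain ⟨l, hl⟩ := exists_Mv' (M := M) hg m
      have hli : l ≠ i := by
        rintro rfl
        exact hmj (hl.unique hm hg)
      have hu : g⁻¹ * v * g ∈ zl S P := by
        have := conj_mem_zl (inv_mem hg) hv
        rwa [inv_inv] at this
      have h1 := hx.comm_ne hu hli
      have h2 := (hl _ (mul_mem (hx.V hu) (inv_mem hu))).2 h1
      have hgx : g * x * g⁻¹ ∈ P := mul_mem (mul_mem hg hx.1) (inv_mem hg)
      have e : g * (x * (g⁻¹ * v * g) * x⁻¹ * (g⁻¹ * v * g)⁻¹) * g⁻¹ =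
          (g * x * g⁻¹ * v * (g * x * g⁻¹)⁻¹) * v⁻¹ := by group
      rw [e, e_div M (conj_mem_zl hgx hv) hv, Pi.sub_apply, sub_eq_zero] at h2
      exact h2
  · have hd' : g⁻¹ * d * g ∈ cv S P := by
      have := conj_mem_cv (inv_mem hg) hd
      rwa [inv_inv] at this
    have h1 := hx.D hd'
    calc g * x * g⁻¹ * d = g * (x * (g⁻¹ * d * g)) * g⁻¹ := by group
      _ = g * ((g⁻¹ * d * g) * x) * g⁻¹ := by rw [h1]
      _ = d * (g * x * g⁻¹) := by group

/-- `S` preserves the lines -/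
theorem conj_line (hSP : S ≤ P) {g : G} (hg : g ∈ S) {i j : Fin k} (hm : Mv M g i j) {v : G} (hv : v ∈ zl S P) :
    M.e (g * v * g⁻¹) j 1 = 0 ↔ M.e v i 1 = 0 := by
  obtain ⟨σ, hσ⟩ := M.line g hg
  have hgP := hSP hg
  have h1 : σ i = j := by
    by_contra hne
    obtain ⟨u, hu, h1, h2⟩ := exists_single (M := M) (σ i) ![0, 1]
    have hv : g⁻¹ * u * g ∈ zl S P := by
      have := conj_mem_zl (inv_mem hgP) hu
      rwa [inv_inv] at this
    have e : g * (g⁻¹ * u * g) * g⁻¹ = u := by group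
    have h3 := hm _ hv
    have h4 := hσ _ hv i
    rw [e] at h3 h4
    rw [h3.1 (h2 j (Ne.symm hne)), h1] at h4
    simp at h4
  rw [← h1]
  exact hσ v hv i

/-- an upper triangular element of `SL₂(F)` -/
theorem exists_dg_up {B : Matrix.SpecialLinearGroup (Fin 2) F} (h : ent B 1 0 = 0) :
    ∃ (m : Fˣ) (c : F), B = dg (m : F) m.ne_zero * up c := by
  have hd := det_eq B
  rw [h, mul_zero, sub_zero] at hd
  have h0 : ent B 0 0 ≠ 0 := fun h0 => by rw [h0, zero_mul] at hd; exact zero_ne_one hd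
  have h11 : ent B 1 1 = (ent B 0 0)⁻¹ := by
    field_simp
    rw [mul_comm]; exact hd
  refine ⟨Units.mk0 _ h0, (ent B 0 0)⁻¹ * ent B 0 1, ext_ent ?_ ?_ ?_ ?_⟩
  · simp [ent_mul]
  · simp [ent_mul, h0]
  · simp [ent_mul, h]
  · simp [ent_mul, h11]

/-- for `g ∈ S` and `B` upper triangular, `g x g⁻¹` acts as an upper triangular matrix -/
theorem conj_Al_line (hSP : S ≤ P) {g x : G} {i j : Fin k} (hg : g ∈ S) (hm : Mv M g i j)
    {B : Matrix.SpecialLinearGroup (Fin 2) F} (hB : ent B 1 0 = 0) (hx : Al M i x B) :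
    ∃ (m : Fˣ) (c : F), Al M j (g * x * g⁻¹) (dg (m : F) m.ne_zero * up c) := by
  have hgP := hSP hg
  obtain ⟨B', hB'⟩ := conj_Al hgP hm hx
  have h1 : ent B' 1 0 = 0 := by
    obtain ⟨u, hu, h1, -⟩ := exists_single (M := M) j ![1, 0]
    have hv : g⁻¹ * u * g ∈ zl S P := by
      have := conj_mem_zl (inv_mem hgP) hu
      rwa [inv_inv] at this
    have e : g * (g⁻¹ * u * g) * g⁻¹ = u := by group
    have h2 := conj_line hSP hg hm hv
    rw [e, h1] at h2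
    have h3 : M.e (g⁻¹ * u * g) i 1 = 0 := h2.1 rfl
    have h4 : M.e (x * (g⁻¹ * u * g) * x⁻¹) i 1 = 0 := by
      rw [hx.same hv, ap_one', hB, h3]; ring
    have h5 := (conj_line hSP hg hm (hx.V hv)).2 h4
    have e2 : g * (x * (g⁻¹ * u * g) * x⁻¹) * g⁻¹ = (g * x * g⁻¹) * u * (g * x * g⁻¹)⁻¹ := by group
    rw [e2, hB'.same hu, h1, ap_one'] at h5
    simpa using h5
  obtain ⟨m, c, h2⟩ := exists_dg_up h1
  exact ⟨m, c, hB'.of_eq h2⟩

end gen

/-! ### Rigidity -/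

section rigid

variable [Finite G] [CharP F 2] (hG : IsCharacteristicTwoType G) (S : Sylow 2 G) {P : Subgroup G}
  (h : IsParS (S : Subgroup G) P) {k : ℕ} (hk : 0 < k)
  (M : NatK F (S : Subgroup G) P (zl (S : Subgroup G) P) (cv (S : Subgroup G) P) k)

include hG h hk

/-- elements with the same matrices act in the same way on `V` -/
theorem same_V {x y : G} (hx : x ∈ P) (hy : y ∈ P) {A : Fin k → Matrix.SpecialLinearGroup (Fin 2) F}
    (hxA : ActsSL M.e (zl (S : Subgroup G) P) (cv (S : Subgroup G) P) x A)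
    (hyA : ActsSL M.e (zl (S : Subgroup G) P) (cv (S : Subgroup G) P) y A) :
    ∀ v ∈ zl (S : Subgroup G) P, x * v * x⁻¹ = y * v * y⁻¹ := by
  intro v hv
  have h1 := acts_mul M (inv_mem hx) hy (acts_inv M hx hxA) hyA
  have h2 : x⁻¹ * y ∈ kern M := by
    refine ⟨mul_mem (inv_mem hx) hy, fun w hw => funext fun i => ?_⟩
    rw [h1.1 w hw i]
    show ap ((A i)⁻¹ * A i) (M.e w i) = _
    rw [inv_mul_cancel, ap_one]
  have h3 := comm_of_kern hG S h M hk h2 h1.2 v hv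
  calc x * v * x⁻¹ = x * (v * (x⁻¹ * y)) * y⁻¹ := by group
    _ = x * ((x⁻¹ * y) * v) * y⁻¹ := by rw [h3]
    _ = _ := by group

omit hk in
/-- elements of `P` which act in the same way on `V` act in the same way on `Ω₁(Z(O₂(P)))` -/
theorem same_of_V {x y : G} (hx : x ∈ P) (hy : y ∈ P)
    (hxy : ∀ v ∈ zl (S : Subgroup G) P, x * v * x⁻¹ = y * v * y⁻¹) {a : G} (ha : a ∈ zc (o2 P)) :
    x * a * x⁻¹ = y * a * y⁻¹ := by
  have h1 : x⁻¹ * y ∈ P ⊓ centralizer (zl (S : Subgroup G) P : Set G) := by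
    refine mem_inf.2 ⟨mul_mem (inv_mem hx) hy, mem_centralizer_iff.2 fun v hv => ?_⟩
    have h2 := hxy v hv
    calc v * (x⁻¹ * y) = x⁻¹ * (x * v * x⁻¹) * y := by group
      _ = x⁻¹ * (y * v * y⁻¹) * y := by rw [h2]
      _ = _ := by group
  have h3 := mem_centralizer_iff.1 (LFour.le_centralizer_zc_o2 hG S h h1) a ha
  calc x * a * x⁻¹ = x * (a * (x⁻¹ * y)) * y⁻¹ := by group
    _ = x * ((x⁻¹ * y) * a) * y⁻¹ := by rw [h3]
    _ = _ := by group

/-- elements with the same matrices act in the same way on `Ω₁(Z(O₂(P)))` -/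
theorem same_A {x y : G} (hx : x ∈ P) (hy : y ∈ P) {A : Fin k → Matrix.SpecialLinearGroup (Fin 2) F}
    (hxA : ActsSL M.e (zl (S : Subgroup G) P) (cv (S : Subgroup G) P) x A)
    (hyA : ActsSL M.e (zl (S : Subgroup G) P) (cv (S : Subgroup G) P) y A) {a : G} (ha : a ∈ zc (o2 P)) :
    x * a * x⁻¹ = y * a * y⁻¹ :=
  same_of_V hG S h hx hy (same_V hG S h hk M hx hy hxA hyA) ha

variable {M}

theorem Al.eq_V {i : Fin k} {x y : G} {B : Matrix.SpecialLinearGroup (Fin 2) F} (hx : Al M i x B) (hy : Al M i y B)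
    {v : G} (hv : v ∈ zl (S : Subgroup G) P) : x * v * x⁻¹ = y * v * y⁻¹ :=
  same_V hG S h hk M hx.1 hy.1 hx.2 hy.2 v hv

theorem Al.eq_A {i : Fin k} {x y : G} {B : Matrix.SpecialLinearGroup (Fin 2) F} (hx : Al M i x B) (hy : Al M i y B)
    {a : G} (ha : a ∈ zc (o2 P)) : x * a * x⁻¹ = y * a * y⁻¹ :=
  same_A hG S h hk M hx.1 hy.1 hx.2 hy.2 ha

/-- factors commute on `Ω₁(Z(O₂(P)))` -/
theorem Al.comm_A {i j : Fin k} (hij : i ≠ j) {x y : G} {A B : Matrix.SpecialLinearGroup (Fin 2) F}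
    (hx : Al M i x A) (hy : Al M j y B) {a : G} (ha : a ∈ zc (o2 P)) :
    x * (y * a * y⁻¹) * x⁻¹ = y * (x * a * x⁻¹) * y⁻¹ := by
  have h1 := acts_mul M hx.1 hy.1 hx.2 hy.2
  have h2 := acts_mul M hy.1 hx.1 hy.2 hx.2
  have e : (fun m => one1 i A m * one1 j B m) = fun m => one1 j B m * one1 i A m := by
    funext m
    by_cases hm : m = i
    · subst hm; rw [one1_ne hij, mul_one, one_mul]
    · rw [one1_ne hm, mul_one, one_mul]
  rw [e] at h1
  have h3 := same_A hG S h hk M (mul_mem hx.1 hy.1) (mul_mem hy.1 hx.1) h1 h2 ha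
  calc x * (y * a * y⁻¹) * x⁻¹ = x * y * a * (x * y)⁻¹ := by group
    _ = y * x * a * (y * x)⁻¹ := h3
    _ = _ := by group

omit hk in
theorem zl_le_A : zl (S : Subgroup G) P ≤ zc (o2 P) := h.isLoc.zl_le S hG

omit hG h hk in
theorem sq_A {a : G} (ha : a ∈ zc (o2 P)) : a * a = 1 := by
  rw [← pow_two]; exact zc_sq _ a ha

variable (M) in
/-- the elements `B` such that the lifts of `one1 i B` centralise the vectors without `i`-th coordinate -/
def Gd (i : Fin k) (B : Matrix.SpecialLinearGroup (Fin 2) F) : Prop :=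
  ∀ x, Al M i x B → ∀ v ∈ zl (S : Subgroup G) P, M.e v i = 0 → x * v = v * x

omit hk in
omit hG h in
theorem Gd.conj {i : Fin k} {B : Matrix.SpecialLinearGroup (Fin 2) F} (hB : Gd S M i B)
    (A : Matrix.SpecialLinearGroup (Fin 2) F) : Gd S M i (A * B * A⁻¹) := by
  intro x hx v hv h0
  obtain ⟨n, hn⟩ := exists_Al M i A
  have h1 : Al M i (n⁻¹ * x * n) B := ((hn.inv.mul hx).mul hn).of_eq (by group)
  have hu : n⁻¹ * v * n⁻¹⁻¹ ∈ zl (S : Subgroup G) P := hn.inv.V hv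
  have h2 : M.e (n⁻¹ * v * n⁻¹⁻¹) i = 0 := by rw [hn.inv.same hv, h0, ap_zero2]
  have h3 := hB _ h1 _ hu h2
  calc x * v = n * (n⁻¹ * x * n * (n⁻¹ * v * n⁻¹⁻¹)) * n⁻¹ := by group
    _ = n * ((n⁻¹ * v * n⁻¹⁻¹) * (n⁻¹ * x * n)) * n⁻¹ := by rw [h3]
    _ = _ := by group

theorem Gd.mul {i : Fin k} {A B : Matrix.SpecialLinearGroup (Fin 2) F} (hA : Gd S M i A) (hB : Gd S M i B) :
    Gd S M i (A * B) := by
  intro x hx v hv h0
  obtain ⟨y, hy⟩ := exists_Al M i A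
  obtain ⟨z, hz⟩ := exists_Al M i B
  have h1 := Al.eq_V hG S h hk hx (hy.mul hz) hv
  have h2 := hA y hy v hv h0
  have h3 := hB z hz v hv h0
  have h4 : y * z * v * (y * z)⁻¹ = v := by
    calc y * z * v * (y * z)⁻¹ = y * (z * v) * z⁻¹ * y⁻¹ := by group
      _ = y * v * y⁻¹ := by rw [h3]; group
      _ = v := by rw [h2]; group
  rw [h4] at h1
  exact mul_inv_eq_iff_eq_mul.1 h1

theorem Gd_up [Finite F] (hF : 4 ≤ Nat.card F) (i : Fin k) (c : F) : Gd S M i (up c) := by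
  obtain ⟨ω, h0, h1⟩ := exists_omega hF
  have htwo : (2 : F) = 0 := CharTwo.two_eq_zero
  have hne : ω⁻¹ ^ 2 + 1 ≠ 0 := by
    intro h2
    have h3 : (ω⁻¹ + 1) ^ 2 = 0 := by linear_combination h2 + ω⁻¹ * htwo
    have h4 := pow_eq_zero_iff two_ne_zero |>.1 h3
    apply h1
    have h5 : ω⁻¹ = 1 := by linear_combination h4 - htwo
    rw [← inv_inv ω, h5, inv_one]
  obtain ⟨c', hc'⟩ : ∃ c', (ω⁻¹ ^ 2 + 1) * c' = c := ⟨c / (ω⁻¹ ^ 2 + 1), mul_div_cancel₀ _ hne⟩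
  have e1 : (dg ω h0)⁻¹ * (up c')⁻¹ * dg ω h0 * up c' = up c := by
    have e2 := dg_up ω (ω⁻¹ ^ 2 * -c') h0
    have e3 : ω ^ 2 * (ω⁻¹ ^ 2 * -c') = -c' := by field_simp
    rw [e3] at e2
    rw [up_inv, mul_assoc (dg ω h0)⁻¹, ← e2, inv_mul_cancel_left, up_mul]
    congr 1
    linear_combination hc' - (ω⁻¹ ^ 2 * c') * htwo
  intro x hx v hv hv0
  obtain ⟨a, ha⟩ := exists_Al M i (dg ω h0)
  obtain ⟨b, hb⟩ := exists_Al M i (up c')
  have h3 : Al M i (a⁻¹ * b⁻¹ * a * b) (up c) := (((ha.inv.mul hb.inv).mul ha).mul hb).of_eq e1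
  have h4 := Al.eq_V hG S h hk hx h3 hv
  have d1 := ha.comm_mem hv hv0
  have d2 := hb.comm_mem hv hv0
  have h5 := commute_of_two (a := a) (b := b) (v := v) (d₁ := a * v * a⁻¹ * v⁻¹) (d₂ := b * v * b⁻¹ * v⁻¹)
    (by group) (by group) (ha.D d2) (hb.D d1)
    (zc_comm _ _ (zl_le_A hG S h (cv_le _ _ d1)) _ (zl_le_A hG S h (cv_le _ _ d2)))
  rw [h5, mul_inv_cancel_right] at h4
  exact mul_inv_eq_iff_eq_mul.1 h4

theorem Gd_all [Finite F] (hF : 4 ≤ Nat.card F) (i : Fin k) (B : Matrix.SpecialLinearGroup (Fin 2) F) :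
    Gd S M i B := by
  have hlo : ∀ c : F, Gd S M i (lo c) := by
    intro c
    have h1 := (Gd_up hG S h hk (M := M) hF i (-c)).conj S (wm 1 one_ne_zero)
    have h2 : wm (1 : F) one_ne_zero * up (-c) * (wm 1 one_ne_zero)⁻¹ = lo c := by
      rw [wm_up, mul_inv_cancel_right]
      congr 1
      simp
    rwa [h2] at h1
  obtain ⟨a, b, c, d, rfl⟩ := exists_up_lo B
  exact Gd.mul hG S h hk (Gd.mul hG S h hk (Gd.mul hG S h hk (Gd_up hG S h hk hF i a) (hlo b))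
    (Gd_up hG S h hk hF i c)) (hlo d)

/-- `Fc i` centralises the vectors without `i`-th coordinate -/
theorem fix_ker [Finite F] (hF : 4 ≤ Nat.card F) {i : Fin k} {x : G} {B : Matrix.SpecialLinearGroup (Fin 2) F}
    (hx : Al M i x B) {v : G} (hv : v ∈ zl (S : Subgroup G) P) (h0 : M.e v i = 0) : x * v * x⁻¹ = v :=
  mul_inv_eq_iff_eq_mul.2 (Gd_all hG S h hk hF i B x hx v hv h0)

/-- an element acting as `up c` centralises the vectors on the line -/
theorem fix_line [Finite F] (hF : 4 ≤ Nat.card F) {i : Fin k} {x : G} {c : F}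
    (hx : Al M i x (up c)) {v : G} (hv : v ∈ zl (S : Subgroup G) P) (h0 : M.e v i 1 = 0) : x * v * x⁻¹ = v := by
  have hsq : Al M i (x * x) 1 := (hx.mul hx).of_eq (by rw [up_mul, CharTwo.add_self_eq_zero, up_zero])
  have hfix : ∀ u ∈ zl (S : Subgroup G) P, x * (x * u * x⁻¹) * x⁻¹ = u := by
    intro u hu
    have h1 := Al.eq_V hG S h hk hsq (Al.one i) hu
    calc x * (x * u * x⁻¹) * x⁻¹ = x * x * u * (x * x)⁻¹ := by group
      _ = 1 * u * 1⁻¹ := h1
      _ = u := by group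
  by_cases hc : c = 0
  · have h1 := Al.eq_V hG S h hk (hx.of_eq (by rw [hc, up_zero])) (Al.one i) hv
    rw [h1]; group
  obtain ⟨u, hu, hui, huj⟩ := exists_single (M := M) i ![0, M.e v i 0 / c]
  set w := x * u * x⁻¹ * u⁻¹ with hw
  have hwV : w ∈ zl (S : Subgroup G) P := mul_mem (hx.V hu) (inv_mem hu)
  have hcomm : ∀ a ∈ zl (S : Subgroup G) P, ∀ b ∈ zl (S : Subgroup G) P, a * b = b * a := fun a ha b hb =>
    zc_comm _ _ (zl_le_A hG S h ha) _ (zl_le_A hG S h hb)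
  have h1 : x * w * x⁻¹ = w := by
    have e1 : x * w * x⁻¹ = (x * (x * u * x⁻¹) * x⁻¹) * (x * u * x⁻¹)⁻¹ := by rw [hw]; group
    have e2 : u * (x * u * x⁻¹)⁻¹ = w⁻¹ := by rw [hw]; group
    rw [e1, hfix u hu, e2]
    exact inv_eq_of_mul_eq_one_left (sq_zl hG S h hwV)
  have h2 : M.e (v * w⁻¹) i = 0 := by
    rw [e_div M hv hwV, Pi.sub_apply, hw, hx.comm_same hu, hui, ap_up2]
    apply ext2
    · simp
      field_simp
      ring
    · simp [h0]
  have h3 := fix_ker hG S h hk hF hx (mul_mem hv (inv_mem hwV)) h2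
  have e : x * v * x⁻¹ = (x * (v * w⁻¹) * x⁻¹) * (x * w * x⁻¹) := by group
  rw [e, h3, h1, inv_mul_cancel_right]

end rigid

end Cfsg.Agent.Omega.IId.Ns

end

section


/-!
# II.d, `k = 2`, nonsplit: averaging over the tori

`A = Ω₁(Z(O₂(P)))`, `rh M i B : A → A` the action of the `i`-th factor, `eA M i` the average over the torus of the
`i`-th factor.

* `eA_idem`, `eA_comm`, `eA_conj` (`g ∈ S` maps the `i`-th factor to the `j`-th ==> `g (e_i a) = e_j (g a)` for `g a`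
  fixed by the `j`-th root group), `eA_V` : `(1 - e_i) (1 - e_j) = 0` on `V`;
* `claim` : `k = 2`, `f ∈ Ω₁(Z(T_i))` with `e_i f = 1` lies in `V`.
-/

set_option autoImplicit false
set_option linter.unusedSectionVars false

namespace Cfsg.Agent.Omega.IId.Ns

open Subgroup Cfsg Cfsg.Agent.ZN Cfsg.Agent.Omega.MinPar
open Cfsg.Agent.Omega.FrameFF Cfsg.Agent.Omega.FFThm Cfsg.Agent.Lib.SL2Mat
open Cfsg.Agent.Omega.NatPair (ap ap_add ap_mul ap_one ap_inj ext2 ap_zero' ap_one' ap_inv_ap ap_ap_inv)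
open Cfsg.Agent.Omega.HOne (cv_le conj_mem_zl conj_mem_cv)
open Cfsg.Agent.Omega.IId.Cv
open Cfsg.Agent.MinSimple.VModule (zc_comm zc_sq zc_le mem_zc le_normalizer_o2 normalizer_le_normalizer_zc zc_le_zl)

universe u

variable {G : Type u} [Group G] {F : Type} [Field F]

theorem dg_mul_dg (a b : F) (ha : a ≠ 0) (hb : b ≠ 0) : dg a ha * dg b hb = dg (a * b) (mul_ne_zero ha hb) := by
  refine ext_ent ?_ ?_ ?_ ?_ <;> simp [ent_mul]
  rw [mul_comm]

theorem A_mem {P : Subgroup G} {g z : G} (hg : g ∈ P) (hz : z ∈ zc (o2 P)) : g * z * g⁻¹ ∈ zc (o2 P) :=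
  (mem_normalizer_iff.1 (((Cfsg.Agent.MinSimple.VModule.le_normalizer_o2 P).trans (normalizer_le_normalizer_zc _)) hg) z).1 hz

/-- `A` is commutative -/
@[reducible] def aqComm (P : Subgroup G) : CommGroup ↥(zc (o2 P)) :=
  { (inferInstance : Group ↥(zc (o2 P))) with
    mul_comm := fun a b => Subtype.ext (zc_comm _ _ a.2 _ b.2) }

attribute [local instance] aqComm

/-- conjugation on `A` -/
def cA {P : Subgroup G} {x : G} (hx : x ∈ P) : ↥(zc (o2 P)) →* ↥(zc (o2 P)) where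
  toFun a := ⟨x * a * x⁻¹, A_mem hx a.2⟩
  map_one' := Subtype.ext (by show x * 1 * x⁻¹ = 1; group)
  map_mul' a b := Subtype.ext (by show x * (a * b) * x⁻¹ = x * a * x⁻¹ * (x * b * x⁻¹); group)

theorem cA_val {P : Subgroup G} {x : G} (hx : x ∈ P) (a : ↥(zc (o2 P))) : ((cA hx a : ↥(zc (o2 P))) : G) = x * a * x⁻¹ :=
  rfl

theorem A_sq {P : Subgroup G} (a : ↥(zc (o2 P))) : a * a = 1 := by
  apply Subtype.ext
  show (a : G) * a = 1
  rw [← pow_two]; exact zc_sq _ _ a.2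

theorem A_inv {P : Subgroup G} (a : ↥(zc (o2 P))) : a⁻¹ = a := inv_eq_of_mul_eq_one_left (A_sq a)

section avg

variable [Finite G] [CharP F 2] (hG : IsCharacteristicTwoType G) (S : Sylow 2 G) {P : Subgroup G}
  (h : IsParS (S : Subgroup G) P) {k : ℕ} (hk : 0 < k)
  (M : NatK F (S : Subgroup G) P (zl (S : Subgroup G) P) (cv (S : Subgroup G) P) k)

/-- a lift -/
noncomputable def lf (i : Fin k) (B : Matrix.SpecialLinearGroup (Fin 2) F) : G := Classical.choose (exists_Al M i B)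

theorem lf_spec (i : Fin k) (B : Matrix.SpecialLinearGroup (Fin 2) F) : Al M i (lf S M i B) B :=
  Classical.choose_spec (exists_Al M i B)

/-- the action of the `i`-th factor on `A` -/
noncomputable def rh (i : Fin k) (B : Matrix.SpecialLinearGroup (Fin 2) F) : ↥(zc (o2 P)) →* ↥(zc (o2 P)) :=
  cA (lf_spec S M i B).1

include hG h hk in
theorem rh_val {i : Fin k} {x : G} {B : Matrix.SpecialLinearGroup (Fin 2) F} (hx : Al M i x B) (a : ↥(zc (o2 P))) :
    ((rh S M i B a : ↥(zc (o2 P))) : G) = x * a * x⁻¹ :=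
  Al.eq_A hG S h hk (lf_spec S M i B) hx a.2

include hG h hk in
theorem rh_mul (i : Fin k) (B C : Matrix.SpecialLinearGroup (Fin 2) F) (a : ↥(zc (o2 P))) :
    rh S M i (B * C) a = rh S M i B (rh S M i C a) := by
  apply Subtype.ext
  rw [rh_val hG S h hk M ((lf_spec S M i B).mul (lf_spec S M i C)), rh_val hG S h hk M (lf_spec S M i B),
    rh_val hG S h hk M (lf_spec S M i C)]
  group

include hG h hk in
theorem rh_one (i : Fin k) (a : ↥(zc (o2 P))) : rh S M i 1 a = a := by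
  apply Subtype.ext
  rw [rh_val hG S h hk M (Al.one i)]
  group

include hG h hk in
theorem rh_comm {i j : Fin k} (hij : i ≠ j) (B C : Matrix.SpecialLinearGroup (Fin 2) F) (a : ↥(zc (o2 P))) :
    rh S M i B (rh S M j C a) = rh S M j C (rh S M i B a) := by
  apply Subtype.ext
  rw [rh_val hG S h hk M (lf_spec S M i B), rh_val hG S h hk M (lf_spec S M j C),
    rh_val hG S h hk M (lf_spec S M j C), rh_val hG S h hk M (lf_spec S M i B)]
  exact Al.comm_A hG S h hk hij (lf_spec S M i B) (lf_spec S M j C) a.2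

/-- `V` as a subgroup of `A` -/
def VA (P : Subgroup G) : Subgroup ↥(zc (o2 P)) := (zl (S : Subgroup G) P).subgroupOf (zc (o2 P))

theorem mem_VA {a : ↥(zc (o2 P))} : a ∈ VA S P ↔ (a : G) ∈ zl (S : Subgroup G) P := mem_subgroupOf

theorem cA_VA {x : G} (hx : x ∈ P) {a : ↥(zc (o2 P))} (ha : a ∈ VA S P) : cA hx a ∈ VA S P :=
  (mem_VA S).2 (conj_mem_zl hx ((mem_VA S).1 ha))

theorem rh_VA (i : Fin k) (B : Matrix.SpecialLinearGroup (Fin 2) F) {a : ↥(zc (o2 P))} (ha : a ∈ VA S P) :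
    rh S M i B a ∈ VA S P := cA_VA S _ ha

variable [Fintype F] [DecidableEq F]

/-- the average over the torus of the `i`-th factor -/
noncomputable def eA (i : Fin k) : ↥(zc (o2 P)) →* ↥(zc (o2 P)) := ∏ l : Fˣ, rh S M i (dg (l : F) l.ne_zero)

theorem eA_apply (i : Fin k) (a : ↥(zc (o2 P))) : eA S M i a = ∏ l : Fˣ, rh S M i (dg (l : F) l.ne_zero) a := by
  rw [eA, MonoidHom.finsetProd_apply]

omit [Finite G] [CharP F 2] in
theorem odd_units [CharP F 2] : Odd (Fintype.card Fˣ) := by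
  have h1 : 2 ∣ Fintype.card F := by
    rw [← CharP.cast_eq_zero_iff F 2]
    exact FiniteField.cast_card_eq_zero F
  have h2 : 0 < Fintype.card F := Fintype.card_pos
  rw [Fintype.card_units]
  obtain ⟨m, hm⟩ := h1
  rw [Nat.odd_iff]
  omega

omit [Finite G] in
theorem prod_const_A (a : ↥(zc (o2 P))) : ∏ _l : Fˣ, a = a := by
  rw [Finset.prod_const, Finset.card_univ]
  obtain ⟨m, hm⟩ := odd_units (F := F)
  rw [hm, pow_succ, pow_mul, pow_two, A_sq, one_pow, one_mul]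

theorem eA_of_fix {i : Fin k} {a : ↥(zc (o2 P))} (ha : ∀ B, rh S M i B a = a) : eA S M i a = a := by
  rw [eA_apply]
  calc ∏ l : Fˣ, rh S M i (dg (l : F) l.ne_zero) a = ∏ _l : Fˣ, a := Finset.prod_congr rfl fun l _ => ha _
    _ = a := prod_const_A a

theorem eA_VA {i : Fin k} {a : ↥(zc (o2 P))} (ha : a ∈ VA S P) : eA S M i a ∈ VA S P := by
  rw [eA_apply]
  exact Subgroup.prod_mem _ fun l _ => rh_VA S M i _ ha

include hG h hk in
theorem eA_tor (i : Fin k) (m : Fˣ) (a : ↥(zc (o2 P))) : rh S M i (dg (m : F) m.ne_zero) (eA S M i a) = eA S M i a := by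
  rw [eA_apply, map_prod]
  refine Fintype.prod_equiv (Equiv.mulLeft m) _ _ fun l => ?_
  rw [← rh_mul hG S h hk, dg_mul_dg]
  rfl

include hG h hk in
theorem eA_idem (i : Fin k) (a : ↥(zc (o2 P))) : eA S M i (eA S M i a) = eA S M i a := by
  conv_lhs => rw [eA_apply]
  calc ∏ l : Fˣ, rh S M i (dg (l : F) l.ne_zero) (eA S M i a) = ∏ _l : Fˣ, eA S M i a :=
        Finset.prod_congr rfl fun l _ => eA_tor hG S h hk M i l a
    _ = _ := prod_const_A _

include hG h hk in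
theorem eA_comm {i j : Fin k} (hij : i ≠ j) (a : ↥(zc (o2 P))) : eA S M i (eA S M j a) = eA S M j (eA S M i a) := by
  have h1 : eA S M i (eA S M j a) =
      ∏ m : Fˣ, ∏ l : Fˣ, rh S M i (dg (l : F) l.ne_zero) (rh S M j (dg (m : F) m.ne_zero) a) := by
    rw [eA_apply S M j, map_prod]
    exact Finset.prod_congr rfl fun m _ => eA_apply S M i _
  have h2 : eA S M j (eA S M i a) =
      ∏ m : Fˣ, ∏ l : Fˣ, rh S M j (dg (m : F) m.ne_zero) (rh S M i (dg (l : F) l.ne_zero) a) := by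
    rw [eA_apply S M j]
    refine Finset.prod_congr rfl fun m _ => ?_
    rw [eA_apply S M i, map_prod]
  rw [h1, h2]
  exact Finset.prod_congr rfl fun m _ => Finset.prod_congr rfl fun l _ => rh_comm hG S h hk M hij _ _ a

include hG h hk in
/-- `g (e_i a) = e_j (g a)` -/
theorem eA_conj {g : G} (hg : g ∈ (S : Subgroup G)) {i j : Fin k} (hm : Mv M g i j) {a : ↥(zc (o2 P))}
    (ha : ∀ c, rh S M j (up c) (cA (h.le hg) a) = cA (h.le hg) a) :
    cA (h.le hg) (eA S M i a) = eA S M j (cA (h.le hg) a) := by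
  have hgP := h.le hg
  have key : ∀ l : Fˣ, ∃ (m : Fˣ) (c : F),
      Al M j (g * lf S M i (dg (l : F) l.ne_zero) * g⁻¹) (dg (m : F) m.ne_zero * up c) := fun l =>
    conj_Al_line h.le hg hm (by simp) (lf_spec S M i (dg (l : F) l.ne_zero))
  choose μ c hμ using key
  have hinj : Function.Injective μ := by
    intro l l' hll
    set x := lf S M i (dg (l : F) l.ne_zero) with hx
    set x' := lf S M i (dg (l' : F) l'.ne_zero) with hx'
    have hAx : Al M i x (dg (l : F) l.ne_zero) := lf_spec S M i _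
    have hAx' : Al M i x' (dg (l' : F) l'.ne_zero) := lf_spec S M i _
    set z := x * x'⁻¹ * (x * x'⁻¹) with hz
    have h1 : Al M i z (dg (l : F) l.ne_zero * (dg (l' : F) l'.ne_zero)⁻¹ *
        (dg (l : F) l.ne_zero * (dg (l' : F) l'.ne_zero)⁻¹)) :=
      (hAx.mul hAx'.inv).mul (hAx.mul hAx'.inv)
    have h2 : Al M j (g * z * g⁻¹) 1 := by
      have h3 := ((hμ l).mul (hμ l').inv).mul ((hμ l).mul (hμ l').inv)
      have e1 : g * x * g⁻¹ * (g * x' * g⁻¹)⁻¹ * (g * x * g⁻¹ * (g * x' * g⁻¹)⁻¹) = g * z * g⁻¹ := by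
        rw [hz]; group
      rw [← hx, ← hx', e1, ← hll] at h3
      refine h3.of_eq ?_
      have e2 : dg (μ l : F) (μ l).ne_zero * up (c l) * (dg (μ l : F) (μ l).ne_zero * up (c l'))⁻¹ =
          dg (μ l : F) (μ l).ne_zero * up (c l - c l') * (dg (μ l : F) (μ l).ne_zero)⁻¹ := by
        rw [mul_inv_rev, up_inv, sub_eq_add_neg, ← up_mul]
        group
      rw [e2]
      have e3 : up (c l - c l') * up (c l - c l') = 1 := by
        rw [up_mul, CharTwo.add_self_eq_zero, up_zero]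
      calc dg (μ l : F) (μ l).ne_zero * up (c l - c l') * (dg (μ l : F) (μ l).ne_zero)⁻¹ *
            (dg (μ l : F) (μ l).ne_zero * up (c l - c l') * (dg (μ l : F) (μ l).ne_zero)⁻¹)
          = dg (μ l : F) (μ l).ne_zero * (up (c l - c l') * up (c l - c l')) * (dg (μ l : F) (μ l).ne_zero)⁻¹ := by
            group
        _ = 1 := by rw [e3]; group
    obtain ⟨v, hv, hvi, -⟩ := exists_single (M := M) i ![1, 0]
    have h3 := Al.eq_V hG S h hk h2 (Al.one j) (conj_mem_zl hgP hv)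
    have h4 : z * v * z⁻¹ = v := by
      calc z * v * z⁻¹ = g⁻¹ * (g * z * g⁻¹ * (g * v * g⁻¹) * (g * z * g⁻¹)⁻¹) * g := by group
        _ = g⁻¹ * (1 * (g * v * g⁻¹) * 1⁻¹) * g := by rw [h3]
        _ = v := by group
    have h5 := h1.same hv
    rw [h4, hvi, ap_mul, ap_mul, ap_mul] at h5
    have h6 : ∀ (y : Fin 2 → F), ap (dg (l' : F) l'.ne_zero)⁻¹ y = ![(l' : F)⁻¹ * y 0, (l' : F) * y 1] := by
      intro y
      apply ext2
      · rw [ap_zero']; simp [ent_inv]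
      · rw [ap_one']; simp [ent_inv]
    have h7 := congrFun h5 0
    rw [ap_zero', h6, ap_zero', h6] at h7
    simp at h7
    have h8 : ((l : F) * (l' : F)⁻¹ + 1) ^ 2 = 0 := by
      have htwo : (2 : F) = 0 := CharTwo.two_eq_zero
      linear_combination (-h7 + (1 + (l : F) * (l' : F)⁻¹) * htwo)
    have h9 := pow_eq_zero_iff two_ne_zero |>.1 h8
    have h10 : (l : F) * (l' : F)⁻¹ = 1 := by
      have htwo : (2 : F) = 0 := CharTwo.two_eq_zero
      linear_combination h9 - htwo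
    apply Units.ext
    have hl' := l'.ne_zero
    field_simp at h10
    exact h10
  rw [eA_apply, eA_apply, map_prod]
  have h1 : ∀ l : Fˣ, cA hgP (rh S M i (dg (l : F) l.ne_zero) a) =
      rh S M j (dg (μ l : F) (μ l).ne_zero) (cA hgP a) := by
    intro l
    have h2 : cA hgP (rh S M i (dg (l : F) l.ne_zero) a) = rh S M j (dg (μ l : F) (μ l).ne_zero * up (c l)) (cA hgP a) := by
      apply Subtype.ext
      rw [rh_val hG S h hk M (hμ l), cA_val, cA_val, rh_val hG S h hk M (lf_spec S M i _)]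
      group
    rw [h2, rh_mul hG S h hk, ha]
  calc ∏ l : Fˣ, cA hgP (rh S M i (dg (l : F) l.ne_zero) a)
      = ∏ l : Fˣ, rh S M j (dg (μ l : F) (μ l).ne_zero) (cA hgP a) := Finset.prod_congr rfl fun l _ => h1 l
    _ = _ := (Finite.injective_iff_bijective.1 hinj).prod_comp
        (fun m : Fˣ => rh S M j (dg (m : F) m.ne_zero) (cA hgP a))

include hG h hk in
/-- `(1 - e_i) (1 - e_j) = 0` on `V` -/
theorem eA_V (hF : 4 ≤ Nat.card F) {i j : Fin k} (hij : i ≠ j) {v : ↥(zc (o2 P))} (hv : v ∈ VA S P) :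
    v * eA S M j v * (eA S M i v * eA S M i (eA S M j v)) = 1 := by
  have h1 : v * eA S M j v = ∏ m : Fˣ, (v * rh S M j (dg (m : F) m.ne_zero) v) := by
    rw [Finset.prod_mul_distrib, prod_const_A, eA_apply]
  have h2 : ∀ m : Fˣ, eA S M i (v * rh S M j (dg (m : F) m.ne_zero) v) = v * rh S M j (dg (m : F) m.ne_zero) v := by
    intro m
    apply eA_of_fix
    intro B
    have hV : ((v * rh S M j (dg (m : F) m.ne_zero) v : ↥(zc (o2 P))) : G) ∈ zl (S : Subgroup G) P :=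
      (mem_VA S).1 (mul_mem hv (rh_VA S M j _ hv))
    apply Subtype.ext
    rw [rh_val hG S h hk M (lf_spec S M i B)]
    refine fix_ker hG S h hk hF (lf_spec S M i B) hV ?_
    show M.e ((v : G) * (rh S M j (dg (m : F) m.ne_zero) v : ↥(zc (o2 P)))) i = 0
    rw [rh_val hG S h hk M (lf_spec S M j _), M.mul _ ((mem_VA S).1 hv) _
      ((lf_spec S M j _).V ((mem_VA S).1 hv)), Pi.add_apply, (lf_spec S M j _).ne ((mem_VA S).1 hv) hij]
    funext x
    exact CharTwo.add_self_eq_zero _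
  have h3 : eA S M i (v * eA S M j v) = v * eA S M j v := by
    rw [h1, map_prod]
    exact Finset.prod_congr rfl fun m _ => h2 m
  rw [← map_mul, h3, A_sq]

end avg

/-! ### Two factors -/

section two

variable [Finite G] [CharP F 2] (hG : IsCharacteristicTwoType G) (S : Sylow 2 G) {P : Subgroup G}
  (h : IsParS (S : Subgroup G) P)
  (M : NatK F (S : Subgroup G) P (zl (S : Subgroup G) P) (cv (S : Subgroup G) P) 2)

omit [Finite G] [CharP F 2] in
theorem two_cases {i j : Fin 2} (hij : i ≠ j) (m : Fin 2) : m = i ∨ m = j := by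
  revert i j m
  decide

include h

theorem mem_Tc_iff {g : G} (hg : g ∈ (S : Subgroup G)) (i : Fin 2) : g ∈ Tc M i ↔ Mv M g i i :=
  ⟨fun h1 => h1.2, fun h1 => ⟨⟨hg, h.le hg⟩, h1⟩⟩

variable {M} {i j : Fin 2} (hij : i ≠ j)

omit h in
include hij in
theorem Mv_other {g : G} (hg : g ∈ P) (h1 : Mv M g i i) : Mv M g j j := by
  obtain ⟨m, hm⟩ := exists_Mv (M := M) hg j
  rcases two_cases hij m with rfl | rfl
  · exact absurd (h1.unique' hm hg) hij
  · exact hm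

omit h in
include hij in
theorem Mv_swap {g : G} (hg : g ∈ P) (h1 : ¬ Mv M g i i) : Mv M g i j ∧ Mv M g j i := by
  obtain ⟨m, hm⟩ := exists_Mv (M := M) hg i
  obtain ⟨n, hn⟩ := exists_Mv (M := M) hg j
  rcases two_cases hij m with rfl | rfl
  · exact absurd hm h1
  refine ⟨hm, ?_⟩
  rcases two_cases hij n with rfl | rfl
  · exact hn
  · exact absurd (hm.unique' hn hg) hij

include hij in
theorem exists_swap : ∃ s ∈ (S : Subgroup G), s ∉ Tc M i ∧ Mv M s i j ∧ Mv M s j i := by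
  obtain ⟨s, hs, h1⟩ := M.trans i j
  have h2 : ¬ Mv M s i i := fun h3 => hij (Mv.unique (M := M) h3 h1 (h.le hs))
  exact ⟨s, hs, fun h3 => h2 h3.2, Mv_swap S hij (h.le hs) h2⟩

include hij in
theorem Tc_eq : Tc M i = Tc M j := by
  ext g
  constructor
  · rintro ⟨⟨h1, h2⟩, h3⟩
    exact ⟨⟨h1, h2⟩, Mv_other S hij h2 h3⟩
  · rintro ⟨⟨h1, h2⟩, h3⟩
    exact ⟨⟨h1, h2⟩, Mv_other S hij.symm h2 h3⟩

omit h in
theorem Tc_le_S (i : Fin 2) : Tc M i ≤ (S : Subgroup G) := fun _ h => h.1.1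

omit h in
theorem Tc_le_P (i : Fin 2) : Tc M i ≤ P := fun _ h => h.1.2

include hij in
theorem Tc_cosets : ∀ a ∈ (S : Subgroup G), ∀ b ∈ (S : Subgroup G), a ∉ Tc M i → b ∉ Tc M i → a⁻¹ * b ∈ Tc M i := by
  intro a ha b hb ha1 hb1
  have h1 := Mv_swap S hij (h.le ha) fun h1 => ha1 ((mem_Tc_iff S h M ha i).2 h1)
  have h2 := Mv_swap S hij (h.le hb) fun h1 => hb1 ((mem_Tc_iff S h M hb i).2 h1)
  exact (mem_Tc_iff S h M (mul_mem (inv_mem ha) hb) i).2 ((h1.1.inv (h.le ha)).mul h2.1 (h.le hb))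

include hij in
theorem card_Tc : Nat.card (S : Subgroup G) = 2 * Nat.card (Tc M i) := by
  obtain ⟨s, hs, hs1, -⟩ := exists_swap S h (M := M) hij
  have hco := Tc_cosets S h (M := M) hij
  have hidx : ((Tc M i).subgroupOf (S : Subgroup G)).index = 2 := by
    rw [Subgroup.index_eq_two_iff]
    refine ⟨⟨s, hs⟩, fun b => ?_⟩
    change Xor ((b : G) * s ∈ Tc M i) ((b : G) ∈ Tc M i)
    by_cases hb : (b : G) ∈ Tc M i
    · right
      exact ⟨hb, fun h3 => hs1 ((mul_mem_cancel_left hb).1 h3)⟩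
    · left
      refine ⟨?_, hb⟩
      have h3 := hco (b : G)⁻¹ (inv_mem b.2) s hs (fun h4 => hb (inv_mem_iff.1 h4)) hs1
      rwa [inv_inv] at h3
  have h1 := Half.card_mul_relIndex (Tc_le_S S (M := M) i)
  rw [relIndex, hidx] at h1
  rw [← h1, mul_comm]

include hij in
theorem S_norm_Tc : (S : Subgroup G) ≤ normalizer (Tc M i : Set G) :=
  Two.le_normalizer_of fun _ hs _ ht => Two.conj_mem_of_two (Tc_le_S S i) (Tc_cosets S h hij) hs ht

theorem exists_unip (i : Fin 2) (c : F) : ∃ t ∈ Tc M i, Al M i t (up c) := by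
  classical
  obtain ⟨t, ht, h1⟩ := M.unip (Function.update 0 i c)
  have e : (fun m => up ((Function.update (0 : Fin 2 → F) i c) m)) = one1 i (up c) := by
    funext m
    by_cases hm : m = i
    · subst hm; rw [Function.update_self, one1_same]
    · rw [Function.update_of_ne hm, one1_ne hm, Pi.zero_apply, up_zero]
  rw [e] at h1
  refine ⟨t, ⟨⟨ht, h.le ht⟩, fun v hv => ?_⟩, h.le ht, h1⟩
  rw [h1.1 v hv i, ap_eq_zero]

include hG in
theorem V_le_Tc (i : Fin 2) : zl (S : Subgroup G) P ≤ Tc M i := by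
  intro x hx
  have hxS : x ∈ (S : Subgroup G) := (h.isLoc.o2_le S) (zc_le _ (zl_le_A hG S h hx))
  refine ⟨⟨hxS, h.le hxS⟩, fun v hv => ?_⟩
  have h1 : x * v = v * x := zc_comm _ _ (zl_le_A hG S h hx) _ (zl_le_A hG S h hv)
  rw [h1, mul_inv_cancel_right]

include hG in
theorem o2_le_Tc (i : Fin 2) : o2 P ≤ Tc M i := by
  intro x hx
  have hxS : x ∈ (S : Subgroup G) := (h.isLoc.o2_le S) hx
  refine ⟨⟨hxS, h.le hxS⟩, fun v hv => ?_⟩
  have h1 : x * v = v * x := (mem_zc.1 (zl_le_A hG S h hv)).2.1 x hx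
  rw [h1, mul_inv_cancel_right]

include hG in
theorem zc_Tc_le (i : Fin 2) : zc (Tc M i) ≤ zc (o2 P) := by
  intro f hf
  obtain ⟨h1, h2, h3⟩ := mem_zc.1 hf
  have h4 : f ∈ o2 P :=
    h.isLoc.char2 S hG (mem_inf.2 ⟨Tc_le_P S i h1, mem_centralizer_iff.2 fun x hx => h2 x (o2_le_Tc hG S h i hx)⟩)
  exact mem_zc.2 ⟨h4, fun x hx => h2 x (o2_le_Tc hG S h i hx), h3⟩

include hij in
/-- `S = T ∪ s T` -/
theorem S_cases {s : G} (hs : s ∈ (S : Subgroup G)) (hs1 : s ∉ Tc M i) {g : G} (hg : g ∈ (S : Subgroup G)) :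
    g ∈ Tc M i ∨ ∃ t ∈ Tc M i, g = s * t := by
  by_cases h1 : g ∈ Tc M i
  · exact Or.inl h1
  · exact Or.inr ⟨s⁻¹ * g, Tc_cosets S h hij s hs g hg hs1 h1, by group⟩

include hG hij in
theorem unip_fix {f : ↥(zc (o2 P))} (hf : (f : G) ∈ zc (Tc M i)) (m : Fin 2) (c : F) : rh S M m (up c) f = f := by
  have hT : Tc M m = Tc M i := by
    rcases two_cases hij m with rfl | rfl
    · rfl
    · exact (Tc_eq S h hij).symm
  obtain ⟨t, ht, hA⟩ := exists_unip S h (M := M) m c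
  apply Subtype.ext
  rw [rh_val hG S h two_pos M hA, (mem_zc.1 hf).2.1 t (hT ▸ ht), mul_inv_cancel_right]

variable [Fintype F] [DecidableEq F]

include hG hij in
/-- **CLAIM** -/
theorem claim (hF : 4 ≤ Nat.card F) {f : ↥(zc (o2 P))} (hf : (f : G) ∈ zc (Tc M i)) (he : eA S M i f = 1) :
    f ∈ VA S P := by
  obtain ⟨s, hs, hs1, hsij, hsji⟩ := exists_swap S h (M := M) hij
  have hsP := h.le hs
  have hk : 0 < 2 := two_pos
  have hnT := S_norm_Tc S h (M := M) hij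
  -- `s f`
  set sf := cA hsP f with hsf
  have hsfT : (sf : G) ∈ zc (Tc M i) := (mem_normalizer_iff.1 (normalizer_le_normalizer_zc _ (hnT hs)) _).1 hf
  have hfu := unip_fix hG S h hij hf
  have hsu := unip_fix hG S h hij hsfT
  have hcj : cA hsP (eA S M j f) = eA S M i sf := eA_conj hG S h hk M hs hsji (fun c => hsu i c)
  have hci : cA hsP (eA S M i f) = eA S M j sf := eA_conj hG S h hk M hs hsij (fun c => hsu j c)
  rw [he, map_one] at hci
  -- an element of `A` fixed by `T` and `s` lies in `V`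
  have hfix : ∀ a : ↥(zc (o2 P)), (∀ t ∈ Tc M i, t * (a : G) = a * t) → cA hsP a = a → a ∈ VA S P := by
    intro a h1 h2
    rw [mem_VA]
    apply zc_le_zl
    rw [mem_zc]
    refine ⟨(h.isLoc.o2_le S) (zc_le _ a.2), fun g hg => ?_, zc_sq _ _ a.2⟩
    have h3 : s * (a : G) = a * s := by
      have := congrArg Subtype.val h2
      rw [cA_val] at this
      exact mul_inv_eq_iff_eq_mul.1 this
    rcases S_cases S h hij hs hs1 hg with h4 | ⟨t, ht, rfl⟩
    · exact h1 g h4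
    · rw [mul_assoc, h1 t ht, ← mul_assoc, h3, mul_assoc]
  have hTf : ∀ t ∈ Tc M i, t * (f : G) = f * t := fun t ht => (mem_zc.1 hf).2.1 t ht
  have hTsf : ∀ t ∈ Tc M i, t * (sf : G) = sf * t := fun t ht => (mem_zc.1 hsfT).2.1 t ht
  -- `s (s f) = f`
  have hss : cA hsP sf = f := by
    have h1 : s * s ∈ Tc M i := by
      have := Tc_cosets S h hij s⁻¹ (inv_mem hs) s hs (fun h4 => hs1 (inv_mem_iff.1 h4)) hs1
      rwa [inv_inv] at this
    apply Subtype.ext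
    rw [cA_val, hsf, cA_val]
    calc s * (s * (f : G) * s⁻¹) * s⁻¹ = (s * s) * f * (s * s)⁻¹ := by group
      _ = f := by rw [hTf _ h1, mul_inv_cancel_right]
  -- `p = f · s f`
  have hp : f * sf ∈ VA S P := by
    apply hfix
    · intro t ht
      show t * ((f : G) * sf) = (f : G) * sf * t
      rw [← mul_assoc, hTf t ht, mul_assoc, hTsf t ht, ← mul_assoc]
    · rw [map_mul, hss, ← hsf, mul_comm]
  have hpe := eA_V hG S h hk M hF hij hp
  have hejp : eA S M j (f * sf) = eA S M j f := by rw [map_mul, ← hci, mul_one]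
  have hij1 : eA S M i (eA S M j f) = 1 := by rw [eA_comm hG S h hk M hij, he, map_one]
  rw [hejp, hij1, mul_one, map_mul, he, one_mul] at hpe
  -- `c = f · e_j f`
  have hc : f * eA S M j f ∈ VA S P := by
    apply hfix
    · intro t ht
      have htS := Tc_le_S S i ht
      have htf : cA (h.le htS) f = f := by
        apply Subtype.ext
        rw [cA_val, hTf t ht, mul_inv_cancel_right]
      have h1 := eA_conj hG S h hk M htS (Mv_other S hij (h.le htS) ht.2) (a := f) (fun c => by rw [htf]; exact hfu j c)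
      rw [htf] at h1
      have h2 : t * ((eA S M j f : ↥(zc (o2 P))) : G) = (eA S M j f : ↥(zc (o2 P))) * t := by
        have := congrArg Subtype.val h1
        rw [cA_val] at this
        exact mul_inv_eq_iff_eq_mul.1 this
      show t * ((f : G) * (eA S M j f : ↥(zc (o2 P)))) = (f : G) * (eA S M j f : ↥(zc (o2 P))) * t
      rw [← mul_assoc, hTf t ht, mul_assoc, h2, ← mul_assoc]
    · rw [map_mul, hcj, ← hsf]
      -- `(f e_j f) (s f e_i (s f)) = 1`
      have h1 : (f * eA S M j f) * (sf * eA S M i sf) = 1 := by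
        rw [← hpe]
        simp only [mul_comm, mul_left_comm]
      rw [← A_inv (f * eA S M j f)]
      exact eq_inv_of_mul_eq_one_right h1
  have hce := eA_V hG S h hk M hF hij hc
  have hejc : eA S M j (f * eA S M j f) = 1 := by rw [map_mul, eA_idem hG S h hk, A_sq]
  rw [hejc, map_one, mul_one, mul_one, map_mul, he, hij1, mul_one, mul_one] at hce
  -- `f = e_j f`
  have hfe : f = eA S M j f := by
    rw [← A_inv (eA S M j f)]
    exact eq_inv_of_mul_eq_one_left hce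
  rw [hfe, ← hejp]
  exact eA_VA S M hp

end two

end Cfsg.Agent.Omega.IId.Ns

end

end

-- merged: Cfsg.Agent.Mrg.Omega.IId.Ns.Half
section

/-!
# II.d, `k = 2`, nonsplit: (1) HALF*

`half_of_lifts` : `Tc M i ≤ H`, `H` contains for every `B` a lift of `one1 i B`, `C_H(O₂(H)) ≤ O₂(H)` ==>
`Nc M i ≤ Ω₁(Z(O₂(H)))`.
`half_Lc` : `Half (Lc M i) (Nc M i)`.
`exists_Ec` : `Ec M i` covers `Fc M i` modulo `C(V)`; `Uc_eq` : `Uc M i = C_{Nc M i}(Fc M i)`.
-/

set_option autoImplicit false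
set_option linter.unusedSectionVars false

namespace Cfsg.Agent.Omega.IId.Ns

open Subgroup Cfsg Cfsg.Agent.ZN Cfsg.Agent.Omega.MinPar
open Cfsg.Agent.Omega.FrameFF Cfsg.Agent.Omega.FFThm Cfsg.Agent.Lib.SL2Mat
open Cfsg.Agent.Omega.NatPair (ap ap_add ap_mul ap_one ap_inj ext2 ap_zero' ap_one' ap_inv_ap ap_ap_inv)
open Cfsg.Agent.Omega.HOne (cv_le conj_mem_zl conj_mem_cv)
open Cfsg.Agent.Omega.IId.Cv
open Cfsg.Agent.MinSimple.VModule (zc_comm zc_sq zc_le mem_zc le_normalizer_o2 normalizer_le_normalizer_zc zc_le_zl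
  o2_isPGroup o2_le mem_normalizer_of_map_le)

universe u

variable {G : Type u} [Group G] {F : Type} [Field F]

attribute [local instance] aqComm

theorem dg_e {ω : F} {h0 : ω ≠ 0} : ap (dg ω h0) ![1, 0] = ![ω, 0] := by
  apply ext2
  · rw [ap_zero']; simp
  · rw [ap_one']; simp

section gen

variable {S P : Subgroup G} {k : ℕ} {M : NatK F S P (zl S P) (cv S P) k}

theorem Al.mv {i : Fin k} {x : G} {B : Matrix.SpecialLinearGroup (Fin 2) F} (hx : Al M i x B) : Mv M x i i := by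
  intro v hv
  rw [hx.same hv, ap_eq_zero]

theorem mem_Nc {i : Fin k} {x : G} {B : Matrix.SpecialLinearGroup (Fin 2) F} (hx : Al M i x B) {v : G}
    (hv : v ∈ zl S P) : x * v * x⁻¹ * v⁻¹ ∈ Nc M i :=
  subset_closure ⟨x, hx.mem_Fc, v, hv, rfl⟩

theorem Nc_le_zl (i : Fin k) : Nc M i ≤ zl S P := by
  rw [Nc, closure_le]
  rintro _ ⟨x, hx, v, hv, rfl⟩
  exact mul_mem (conj_mem_zl hx.1 hv) (inv_mem hv)

/-- `N_i` has no `j`-th coordinate -/
theorem Nc_ne {i j : Fin k} (hj : j ≠ i) {n : G} (hn : n ∈ Nc M i) : M.e n j = 0 := by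
  induction hn using closure_induction with
  | mem x hx =>
    obtain ⟨y, hy, v, hv, rfl⟩ := hx
    obtain ⟨B, hB⟩ := exists_of_Fc hy
    exact hB.comm_ne hv hj
  | one => rw [e_one M]; rfl
  | mul x y hx hy h1 h2 => rw [M.mul _ (Nc_le_zl i hx) _ (Nc_le_zl i hy), Pi.add_apply, h1, h2, add_zero]
  | inv x hx h1 => rw [e_inv M (Nc_le_zl i hx), Pi.neg_apply, h1, neg_zero]

/-- elements of `P` which fix the `i`-th factor normalise `N_i` -/
theorem Nc_norm {i : Fin k} {g : G} (hg : g ∈ P) (hm : Mv M g i i) {n : G} (hn : n ∈ Nc M i) :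
    g * n * g⁻¹ ∈ Nc M i := by
  induction hn using closure_induction with
  | mem x hx =>
    obtain ⟨y, hy, v, hv, rfl⟩ := hx
    obtain ⟨B, hB⟩ := exists_of_Fc hy
    obtain ⟨B', hB'⟩ := conj_Al hg hm hB
    have e : g * (y * v * y⁻¹ * v⁻¹) * g⁻¹ = (g * y * g⁻¹) * (g * v * g⁻¹) * (g * y * g⁻¹)⁻¹ * (g * v * g⁻¹)⁻¹ := by
      group
    rw [e]
    exact mem_Nc hB' (conj_mem_zl hg hv)
  | one => rw [mul_one, mul_inv_cancel]; exact one_mem _
  | mul x y hx hy h1 h2 =>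
    have e : g * (x * y) * g⁻¹ = (g * x * g⁻¹) * (g * y * g⁻¹) := by group
    rw [e]; exact mul_mem h1 h2
  | inv x hx h1 =>
    have e : g * x⁻¹ * g⁻¹ = (g * x * g⁻¹)⁻¹ := by group
    rw [e]; exact inv_mem h1

end gen

section rigid

variable [Finite G] [CharP F 2] (hG : IsCharacteristicTwoType G) (S : Sylow 2 G) {P : Subgroup G}
  (h : IsParS (S : Subgroup G) P) {k : ℕ} (hk : 0 < k)
  {M : NatK F (S : Subgroup G) P (zl (S : Subgroup G) P) (cv (S : Subgroup G) P) k}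

/-- `w` acts trivially on the `i`-th factor ==> `w x w⁻¹` acts as `x` -/
theorem conj_triv {w : G} (hw : w ∈ P) {i : Fin k}
    (ht : ∀ v ∈ zl (S : Subgroup G) P, M.e (w * v * w⁻¹) i = M.e v i) {x : G}
    {B : Matrix.SpecialLinearGroup (Fin 2) F} (hx : Al M i x B) : Al M i (w * x * w⁻¹) B := by
  have hm : Mv M w i i := fun v hv => by rw [ht v hv]
  obtain ⟨C, hC⟩ := conj_Al hw hm hx
  refine hC.of_eq (ap_inj fun y => ?_)
  obtain ⟨v, hv, hvi, -⟩ := exists_single (M := M) i y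
  have hu : w⁻¹ * v * w ∈ zl (S : Subgroup G) P := by
    have := conj_mem_zl (inv_mem hw) hv
    rwa [inv_inv] at this
  have e : w * (w⁻¹ * v * w) * w⁻¹ = v := by group
  have h1 := ht _ hu
  rw [e, hvi] at h1
  have h2 := hC.same hv
  have e2 : w * x * w⁻¹ * v * (w * x * w⁻¹)⁻¹ = w * (x * (w⁻¹ * v * w) * x⁻¹) * w⁻¹ := by group
  rw [e2, ht _ (hx.V hu), hx.same hu, ← h1, hvi] at h2
  exact h2.symm

include hG h in
theorem V_comm {a b : G} (ha : a ∈ zl (S : Subgroup G) P) (hb : b ∈ zl (S : Subgroup G) P) : a * b = b * a :=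
  zc_comm _ _ (zl_le_A hG S h ha) _ (zl_le_A hG S h hb)

include hG h hk in
/-- `[x, v] = [x, v']` if `v`, `v'` have the same `i`-th coordinate -/
theorem comm_eq [Finite F] (hF : 4 ≤ Nat.card F) {i : Fin k} {x : G} {B : Matrix.SpecialLinearGroup (Fin 2) F}
    (hx : Al M i x B) {v v' : G} (hv : v ∈ zl (S : Subgroup G) P) (hv' : v' ∈ zl (S : Subgroup G) P)
    (he : M.e v i = M.e v' i) : x * v * x⁻¹ * v⁻¹ = x * v' * x⁻¹ * v'⁻¹ := by
  have hkV : v * v'⁻¹ ∈ zl (S : Subgroup G) P := mul_mem hv (inv_mem hv')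
  have h0 : M.e (v * v'⁻¹) i = 0 := by rw [e_div M hv hv', Pi.sub_apply, he, sub_self]
  have h1 := fix_ker hG S h hk hF hx hkV h0
  have h2 : x * v' * x⁻¹ * v'⁻¹ ∈ zl (S : Subgroup G) P := mul_mem (hx.V hv') (inv_mem hv')
  calc x * v * x⁻¹ * v⁻¹ = (x * (v * v'⁻¹) * x⁻¹) * (x * v' * x⁻¹ * v'⁻¹) * (v * v'⁻¹)⁻¹ := by group
    _ = (v * v'⁻¹) * (x * v' * x⁻¹ * v'⁻¹) * (v * v'⁻¹)⁻¹ := by rw [h1]
    _ = x * v' * x⁻¹ * v'⁻¹ := by rw [V_comm hG S h hkV h2, mul_inv_cancel_right]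

include hG h hk in
/-- an element of `P` which acts trivially on the `i`-th factor centralises `N_i` -/
theorem cent_Nc [Finite F] (hF : 4 ≤ Nat.card F) {w : G} (hw : w ∈ P) {i : Fin k}
    (ht : ∀ v ∈ zl (S : Subgroup G) P, M.e (w * v * w⁻¹) i = M.e v i) : w ∈ centralizer (Nc M i : Set G) := by
  have key : ∀ n ∈ Nc M i, w * n * w⁻¹ = n := by
    intro n hn
    induction hn using closure_induction with
    | mem y hy =>
      obtain ⟨x, hx, v, hv, rfl⟩ := hy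
      obtain ⟨B, hB⟩ := exists_of_Fc hx
      have hwv := conj_mem_zl hw hv
      have h1 := Al.eq_V hG S h hk (conj_triv S hw ht hB) hB hwv
      calc w * (x * v * x⁻¹ * v⁻¹) * w⁻¹
          = ((w * x * w⁻¹) * (w * v * w⁻¹) * (w * x * w⁻¹)⁻¹) * (w * v * w⁻¹)⁻¹ := by group
        _ = x * (w * v * w⁻¹) * x⁻¹ * (w * v * w⁻¹)⁻¹ := by rw [h1]
        _ = x * v * x⁻¹ * v⁻¹ := comm_eq hG S h hk hF hB hwv hv (ht v hv)
    | one => group
    | mul x y hx hy h1 h2 =>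
      calc w * (x * y) * w⁻¹ = (w * x * w⁻¹) * (w * y * w⁻¹) := by group
        _ = x * y := by rw [h1, h2]
    | inv x hx h1 =>
      calc w * x⁻¹ * w⁻¹ = (w * x * w⁻¹)⁻¹ := by group
        _ = x⁻¹ := by rw [h1]
  exact mem_centralizer_iff.2 fun n hn => (mul_inv_eq_iff_eq_mul.1 (key n hn)).symm

/-- the action on the `i`-th coordinate -/
theorem coord_congr {w : G} (hw : w ∈ P) {i : Fin k} (hm : Mv M w i i) {u v : G}
    (hu : u ∈ zl (S : Subgroup G) P) (hv : v ∈ zl (S : Subgroup G) P) (he : M.e u i = M.e v i) :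
    M.e (w * u * w⁻¹) i = M.e (w * v * w⁻¹) i := by
  have h0 : M.e (u * v⁻¹) i = 0 := by rw [e_div M hu hv, Pi.sub_apply, he, sub_self]
  have h1 := (hm _ (mul_mem hu (inv_mem hv))).2 h0
  have e : w * (u * v⁻¹) * w⁻¹ = (w * u * w⁻¹) * (w * v * w⁻¹)⁻¹ := by group
  rw [e, e_div M (conj_mem_zl hw hu) (conj_mem_zl hw hv), Pi.sub_apply, sub_eq_zero] at h1
  exact h1

theorem two_dvd_card [Finite F] : 2 ∣ Nat.card F := by
  have := Fintype.ofFinite F
  rw [Nat.card_eq_fintype_card, ← CharP.cast_eq_zero_iff F 2]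
  exact FiniteField.cast_card_eq_zero F

/-- a 2-group fixing the `i`-th factor fixes a nonzero vector of it -/
theorem exists_fixed_coord [Finite F] {K : Subgroup G} (hK : IsPGroup 2 K) (hP : K ≤ P) {i : Fin k}
    (hm : ∀ w ∈ K, Mv M w i i) :
    ∃ v ∈ zl (S : Subgroup G) P, M.e v i ≠ 0 ∧ ∀ w ∈ K, M.e (w * v * w⁻¹) i = M.e v i := by
  have : Fact (Nat.Prime 2) := ⟨Nat.prime_two⟩
  choose s hs using fun y : Fin 2 → F => exists_single (M := M) i y
  let f : K → (Fin 2 → F) → (Fin 2 → F) := fun w y => M.e (w * s y * (w : G)⁻¹) i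
  have hf : ∀ (w : K) (v : G), v ∈ zl (S : Subgroup G) P → f w (M.e v i) = M.e (w * v * (w : G)⁻¹) i := fun w v hv =>
    coord_congr S (hP w.2) (hm w w.2) (hs _).1 hv (hs _).2.1
  let _act : MulAction K (Fin 2 → F) :=
    { smul := f
      one_smul := fun y => by
        show M.e ((1 : G) * s y * (1 : G)⁻¹) i = y
        rw [one_mul, inv_one, mul_one]; exact (hs y).2.1
      mul_smul := fun a b y => by
        show f (a * b) y = f a (f b y)
        have h1 : f b y = M.e ((b : G) * s y * (b : G)⁻¹) i := rfl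
        rw [h1, hf a _ (conj_mem_zl (hP b.2) (hs y).1)]
        have e : (a * b : G) * s y * (a * b : G)⁻¹ = (a : G) * ((b : G) * s y * (b : G)⁻¹) * (a : G)⁻¹ := by group
        show M.e ((a * b : G) * s y * (a * b : G)⁻¹) i = _
        rw [e] }
  have h1 := hK.card_modEq_card_fixedPoints (Fin 2 → F)
  have h2 : 2 ∣ Nat.card (Fin 2 → F) := by
    rw [Nat.card_fun, Nat.card_eq_fintype_card (α := Fin 2), Fintype.card_fin, pow_two]
    exact (two_dvd_card (F := F)).mul_right _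
  have h3 : 2 ∣ Nat.card (MulAction.fixedPoints K (Fin 2 → F)) :=
    (Nat.modEq_zero_iff_dvd.mp ((h1.symm.trans (Nat.modEq_zero_iff_dvd.mpr h2))))
  have h4 : (0 : Fin 2 → F) ∈ MulAction.fixedPoints K (Fin 2 → F) := by
    intro w
    show f w 0 = 0
    have h5 := hf w 1 (one_mem _)
    rw [e_one M] at h5
    have h6 : (w : G) * 1 * (w : G)⁻¹ = 1 := by group
    rw [h6, e_one M] at h5
    exact h5
  have : Nonempty (MulAction.fixedPoints K (Fin 2 → F)) := ⟨⟨0, h4⟩⟩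
  have h5 : 1 < Nat.card (MulAction.fixedPoints K (Fin 2 → F)) :=
    lt_of_lt_of_le one_lt_two (Nat.le_of_dvd Nat.card_pos h3)
  obtain ⟨a, b, hab⟩ := (Finite.one_lt_card_iff_nontrivial.mp h5).exists_pair_ne
  have key : ∃ c : MulAction.fixedPoints K (Fin 2 → F), (c : Fin 2 → F) ≠ 0 := by
    by_contra hc
    push Not at hc
    exact hab (Subtype.ext ((hc a).trans (hc b).symm))
  obtain ⟨c, hc⟩ := key
  refine ⟨s c, (hs _).1, by rw [(hs _).2.1]; exact hc, fun w hw => ?_⟩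
  rw [(hs _).2.1]
  exact c.2 ⟨w, hw⟩

/-- a 2-group normalised by the lifts acts trivially on the `i`-th factor -/
theorem triv_of_norm [Finite F] {K : Subgroup G} (hK : IsPGroup 2 K) (hP : K ≤ P) {i : Fin k}
    (hm : ∀ w ∈ K, Mv M w i i) (hX : ∀ B, ∃ x, Al M i x B ∧ ∀ w ∈ K, x⁻¹ * w * x ∈ K) :
    ∀ w ∈ K, ∀ v ∈ zl (S : Subgroup G) P, M.e (w * v * w⁻¹) i = M.e v i := by
  obtain ⟨u, hu, hu0, huf⟩ := exists_fixed_coord S hK hP hm
  intro w hw v hv
  by_cases h0 : M.e v i = 0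
  · rw [h0]; exact (hm w hw v hv).2 h0
  obtain ⟨B, hB⟩ := NatPair.exists_ap hu0 h0
  obtain ⟨x, hx, hxK⟩ := hX B
  have h1 : M.e v i = M.e (x * u * x⁻¹) i := by rw [hx.same hu, hB]
  have h2 := coord_congr S (hP hw) (hm w hw) hv (hx.V hu) h1
  have e : w * (x * u * x⁻¹) * w⁻¹ = x * ((x⁻¹ * w * x) * u * (x⁻¹ * w * x)⁻¹) * x⁻¹ := by group
  rw [h2, e, hx.same (conj_mem_zl (hP (hxK w hw)) hu), huf _ (hxK w hw), hB]

end rigid

/-! ### HALF* -/

section two

variable [Finite G] [CharP F 2] (hG : IsCharacteristicTwoType G) (S : Sylow 2 G) {P : Subgroup G}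
  (h : IsParS (S : Subgroup G) P)
  {M : NatK F (S : Subgroup G) P (zl (S : Subgroup G) P) (cv (S : Subgroup G) P) 2}
  {i j : Fin 2} (hij : i ≠ j) [Fintype F] [DecidableEq F] (hF : 4 ≤ Nat.card F)

variable (M) in
/-- `A₀ = {y ∈ Ω₁Z(T_i) ∩ V | e_i y = 1}` -/
noncomputable def A0 (i : Fin 2) : Subgroup ↥(zc (o2 P)) :=
  (VA S P ⊓ (zc (Tc M i)).subgroupOf (zc (o2 P))) ⊓ (eA S M i).ker

theorem mem_A0 {i : Fin 2} {y : ↥(zc (o2 P))} : y ∈ A0 S M i ↔
    ((y : G) ∈ zl (S : Subgroup G) P ∧ (y : G) ∈ zc (Tc M i)) ∧ eA S M i y = 1 := by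
  rw [A0, mem_inf, mem_inf, mem_VA, mem_subgroupOf, MonoidHom.mem_ker]

include hG h hF

/-- `e_i y = 1`, `y ∈ V` ==> `y ∈ N_i` -/
theorem mem_Nc_of_eA {i : Fin 2} {y : ↥(zc (o2 P))} (hy : y ∈ VA S P) (he : eA S M i y = 1) : (y : G) ∈ Nc M i := by
  have hk : 0 < 2 := two_pos
  have h1 : y = ∏ l : Fˣ, (rh S M i (dg (l : F) l.ne_zero) y * y⁻¹) := by
    rw [Finset.prod_mul_distrib, ← eA_apply, he, one_mul]
    have := prod_const_A (F := F) (y⁻¹ : ↥(zc (o2 P)))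
    rw [this, A_inv]
  have h2 : y ∈ (Nc M i).subgroupOf (zc (o2 P)) := by
    rw [h1]
    refine Subgroup.prod_mem _ fun l _ => ?_
    rw [mem_subgroupOf]
    show ((rh S M i (dg (l : F) l.ne_zero) y : ↥(zc (o2 P))) : G) * (y : G)⁻¹ ∈ Nc M i
    rw [rh_val hG S h hk M (lf_spec S M i _)]
    exact mem_Nc (lf_spec S M i _) ((mem_VA S).1 hy)
  exact mem_subgroupOf.1 h2

/-- `e_i y = 1 ≠ y`, `y ∈ V` ==> the `i`-th coordinate of `y` is not zero -/
theorem coord_ne_of_eA {i : Fin 2} {y : ↥(zc (o2 P))} (hy : y ∈ VA S P) (he : eA S M i y = 1) (h1 : y ≠ 1) :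
    M.e (y : G) i ≠ 0 := by
  intro h0
  apply h1
  rw [← he, eA_of_fix]
  intro B
  apply Subtype.ext
  rw [rh_val hG S h two_pos M (lf_spec S M i B)]
  exact fix_ker hG S h two_pos hF (lf_spec S M i B) ((mem_VA S).1 hy) h0

include hij in
/-- `A₀ ≠ 1` -/
theorem exists_A0 : ∃ y ∈ A0 S M i, y ≠ 1 := by
  have hk : 0 < 2 := two_pos
  -- `A₁`
  obtain ⟨ω, h0, h1⟩ := exists_omega hF
  let A1 : Subgroup G :=
    { carrier := {a | ∃ ha : a ∈ zc (o2 P), a ∈ zl (S : Subgroup G) P ∧ M.e a j = 0 ∧ M.e a i 1 = 0 ∧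
        eA S M i ⟨a, ha⟩ = 1}
      one_mem' := ⟨one_mem _, one_mem _, by rw [e_one M]; rfl, by rw [e_one M]; rfl, map_one _⟩
      mul_mem' := by
        rintro a b ⟨ha, ha1, ha2, ha3, ha4⟩ ⟨hb, hb1, hb2, hb3, hb4⟩
        refine ⟨mul_mem ha hb, mul_mem ha1 hb1, ?_, ?_, ?_⟩
        · rw [M.mul _ ha1 _ hb1, Pi.add_apply, ha2, hb2, add_zero]
        · rw [M.mul _ ha1 _ hb1, Pi.add_apply, Pi.add_apply, ha3, hb3, add_zero]
        · have e : (⟨a * b, mul_mem ha hb⟩ : ↥(zc (o2 P))) = ⟨a, ha⟩ * ⟨b, hb⟩ := rfl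
          rw [e, map_mul, ha4, hb4, one_mul]
      inv_mem' := by
        rintro a ⟨ha, ha1, ha2, ha3, ha4⟩
        refine ⟨inv_mem ha, inv_mem ha1, ?_, ?_, ?_⟩
        · rw [e_inv M ha1, Pi.neg_apply, ha2, neg_zero]
        · rw [e_inv M ha1, Pi.neg_apply, Pi.neg_apply, ha3, neg_zero]
        · have e : (⟨a⁻¹, inv_mem ha⟩ : ↥(zc (o2 P))) = (⟨a, ha⟩)⁻¹ := rfl
          rw [e, map_inv, ha4, inv_one] }
  have hA1V : A1 ≤ zl (S : Subgroup G) P := fun a ha => by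
    obtain ⟨-, h2, -⟩ := ha
    exact h2
  have hT2 : IsPGroup 2 (Tc M i) := S.isPGroup'.to_le (Tc_le_S S i)
  have hA12 : IsPGroup 2 A1 := hT2.to_le (hA1V.trans (V_le_Tc hG S h i))
  -- `A₁ ≤ E_Z`
  have hfix : ∀ a ∈ A1, ∀ (ha : a ∈ zc (o2 P)) c, rh S M i (up c) ⟨a, ha⟩ = ⟨a, ha⟩ := by
    intro a ha hac c
    obtain ⟨-, ha1, -, ha3, -⟩ := ha
    apply Subtype.ext
    rw [rh_val hG S h hk M (lf_spec S M i _)]
    exact fix_line hG S h hk hF (lf_spec S M i _) ha1 ha3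
  have hA1T : Tc M i ≤ normalizer (A1 : Set G) := by
    apply Two.le_normalizer_of
    rintro t ht a ha
    have htS := Tc_le_S S i ht
    have htP := h.le htS
    obtain ⟨ha0, ha1, ha2, ha3, ha4⟩ := ha
    have hb1 : t * a * t⁻¹ ∈ zl (S : Subgroup G) P := conj_mem_zl htP ha1
    have hb3 : M.e (t * a * t⁻¹) i 1 = 0 := (conj_line h.le htS ht.2 ha1).2 ha3
    refine ⟨A_mem htP ha0, hb1, ((Mv_other S hij htP ht.2) a ha1).2 ha2, hb3, ?_⟩
    have h2 := eA_conj hG S h hk M htS ht.2 (a := ⟨a, ha0⟩) (fun c => by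
      apply Subtype.ext
      rw [rh_val hG S h hk M (lf_spec S M i _)]
      exact fix_line hG S h hk hF (lf_spec S M i _) hb1 hb3)
    rw [ha4, map_one] at h2
    exact h2.symm
  -- `A₁ ≠ 1`
  obtain ⟨u, hu, hui, huj⟩ := exists_single (M := M) i ![1, 0]
  have huA := zl_le_A hG S h hu
  set u' : ↥(zc (o2 P)) := ⟨u, huA⟩ with hu'
  have huu : ((u' * rh S M i (dg ω h0) u' : ↥(zc (o2 P))) : G) =
      u * (lf S M i (dg ω h0) * u * (lf S M i (dg ω h0))⁻¹) := rfl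
  have hLA := lf_spec S M i (dg ω h0)
  have hdu := dg_e (F := F) (ω := ω) (h0 := h0)
  have hmem : u * (lf S M i (dg ω h0) * u * (lf S M i (dg ω h0))⁻¹) ∈ A1 := by
    refine ⟨(u' * rh S M i (dg ω h0) u').2, mul_mem hu (hLA.V hu), ?_, ?_, ?_⟩
    · rw [M.mul _ hu _ (hLA.V hu), Pi.add_apply, hLA.ne hu hij.symm, huj j hij.symm, add_zero]
    · rw [M.mul _ hu _ (hLA.V hu), Pi.add_apply, hLA.same hu, hui, hdu]
      simp
    · show eA S M i (u' * rh S M i (dg ω h0) u') = 1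
      have h2 : eA S M i (rh S M i (dg ω h0) u') = eA S M i u' := by
        rw [eA_apply, eA_apply]
        refine Fintype.prod_equiv (Equiv.mulRight (Units.mk0 ω h0)) _ _ fun l => ?_
        rw [← rh_mul hG S h hk, dg_mul_dg]
        rfl
      rw [map_mul, h2, A_sq]
  have hne : u * (lf S M i (dg ω h0) * u * (lf S M i (dg ω h0))⁻¹) ≠ 1 := by
    intro h2
    have h3 : M.e (u * (lf S M i (dg ω h0) * u * (lf S M i (dg ω h0))⁻¹)) i 0 = 0 := by rw [h2, e_one M]; rfl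
    rw [M.mul _ hu _ (hLA.V hu), Pi.add_apply, hLA.same hu, hui, hdu] at h3
    simp at h3
    apply h1
    have htwo : (2 : F) = 0 := CharTwo.two_eq_zero
    linear_combination h3 - htwo
  have hA1 : A1 ≠ ⊥ := fun h2 => hne (by rw [h2, mem_bot] at hmem; exact hmem)
  obtain ⟨y, hy, hy1, hyf⟩ := Half.exists_fixed hA12 hA1 hT2 hA1T
  have hyV := hA1V hy
  obtain ⟨hyA, -, -, -, hy4⟩ := hy
  refine ⟨⟨y, hyA⟩, (mem_A0 S).2 ⟨⟨hyV, mem_zc.2 ⟨V_le_Tc hG S h i hyV, fun t ht => ?_, zc_sq _ _ hyA⟩⟩, hy4⟩,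
    fun h2 => hy1 (congrArg Subtype.val h2)⟩
  exact mul_inv_eq_iff_eq_mul.1 (hyf t ht)

include hij in
/-- **HALF***: `O₂(H)` centralises `N_i` -/
theorem o2_le_cent {H : Subgroup G} (hT : Tc M i ≤ H) (hX : ∀ B, ∃ x ∈ H, Al M i x B) :
    o2 H ≤ centralizer (Nc M i : Set G) := by
  have hk : 0 < 2 := two_pos
  have : Fact (Nat.Prime 2) := ⟨Nat.prime_two⟩
  set W := o2 H with hW
  have hHW : H ≤ normalizer (W : Set G) := le_normalizer_o2 H
  have hW2 : IsPGroup 2 W := o2_isPGroup H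
  have hnW : ∀ x ∈ H, ∀ w ∈ W, x * w * x⁻¹ ∈ W := fun x hx w hw => (mem_normalizer_iff.1 (hHW hx) w).1 hw
  have hnW' : ∀ x ∈ H, ∀ w ∈ W, x⁻¹ * w * x ∈ W := fun x hx w hw => by
    have := hnW x⁻¹ (inv_mem hx) w hw
    rwa [inv_inv] at this
  -- `K = {w ∈ W ∩ P | w fixes the i-th factor}`
  let K : Subgroup G :=
    { carrier := {w | w ∈ W ∧ w ∈ P ∧ Mv M w i i}
      one_mem' := ⟨one_mem _, one_mem _, (Al.one (M := M) i).mv⟩
      mul_mem' := fun {a b} ha hb => ⟨mul_mem ha.1 hb.1, mul_mem ha.2.1 hb.2.1, ha.2.2.mul hb.2.2 hb.2.1⟩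
      inv_mem' := fun {a} ha => ⟨inv_mem ha.1, inv_mem ha.2.1, ha.2.2.inv ha.2.1⟩ }
  have hK2 : IsPGroup 2 K := hW2.to_le fun w hw => hw.1
  have hKx : ∀ x ∈ H, ∀ B, Al M i x B → ∀ w ∈ K, x⁻¹ * w * x ∈ K := by
    intro x hx B hB w hw
    refine ⟨hnW' x hx w hw.1, mul_mem (mul_mem (inv_mem hB.1) hw.2.1) hB.1, ?_⟩
    exact ((hB.mv.inv hB.1).mul hw.2.2 hw.2.1).mul hB.mv hB.1
  have hKt := triv_of_norm S hK2 (fun w hw => hw.2.1) (fun w hw => hw.2.2) (M := M) (i := i) fun B => by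
    obtain ⟨x, hx, hB⟩ := hX B
    exact ⟨x, hB, hKx x hx B hB⟩
  have hKc : ∀ w ∈ K, w ∈ centralizer (Nc M i : Set G) := fun w hw => cent_Nc hG S h hk hF hw.2.1 (hKt w hw)
  have hWT : ∀ w ∈ W, w ∈ Tc M i → w ∈ K := fun w hw ht => ⟨hw, ht.1.2, ht.2⟩
  by_contra hcon
  obtain ⟨w, hw, hwc⟩ := SetLike.not_le_iff_exists.mp hcon
  -- `R = W T`
  have hT2 : IsPGroup 2 (Tc M i) := S.isPGroup'.to_le (Tc_le_S S i)
  set R : Subgroup G := Tc M i ⊔ W with hR
  have hR2 : IsPGroup 2 R := IsPGroup.to_sup_of_normal_right' hT2 hW2 (hT.trans hHW)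
  have hTR : Tc M i ≤ R := le_sup_left
  have hWR : W ≤ R := le_sup_right
  have hRc : Nat.card R ≤ 2 * Nat.card (Tc M i) := by
    rw [← card_Tc S h (M := M) hij]
    exact Half.card_le_sylow S hR2
  have hwT : w ∉ Tc M i := fun ht => hwc (hKc w (hWT w hw ht))
  have hco : ∀ a ∈ R, ∀ b ∈ R, a ∉ Tc M i → b ∉ Tc M i → a⁻¹ * b ∈ Tc M i := by
    apply Two.two_cosets hTR
    have h1 := Half.card_mul_relIndex hTR
    have h2 : (Tc M i).relIndex R ≠ 1 := fun h2 => hwT (relIndex_eq_one.1 h2 (hWR hw))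
    have h3 : (Tc M i).relIndex R ≠ 0 := index_ne_zero_of_finite
    have h4 : 0 < Nat.card (Tc M i) := Nat.card_pos
    have h5 : (Tc M i).relIndex R ≤ 2 := by
      by_contra hc
      push Not at hc
      have h6 : Nat.card (Tc M i) * 3 ≤ Nat.card (Tc M i) * (Tc M i).relIndex R := Nat.mul_le_mul_left _ hc
      omega
    have h6 : (Tc M i).relIndex R = 2 := by omega
    rw [← h1, h6, mul_comm]
  have hwn : ∀ t ∈ Tc M i, w * t * w⁻¹ ∈ Tc M i := fun t ht => Two.conj_mem_of_two hTR hco (hWR hw) ht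
  have hwn' : ∀ t ∈ Tc M i, w⁻¹ * t * w ∈ Tc M i := fun t ht => by
    have := Two.conj_mem_of_two hTR hco (inv_mem (hWR hw)) ht
    rwa [inv_inv] at this
  -- `w⁻¹ w^x` centralises `N_i`
  have hkc : ∀ x ∈ H, ∀ B, Al M i x B → w⁻¹ * (x * w * x⁻¹) ∈ centralizer (Nc M i : Set G) := by
    intro x hx B hB
    have h1 : x * w * x⁻¹ ∈ W := hnW x hx w hw
    have h2 : x * w * x⁻¹ ∉ Tc M i := by
      intro h2
      have h3 := hKx x hx B hB _ (hWT _ h1 h2)
      have e : x⁻¹ * (x * w * x⁻¹) * x = w := by group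
      rw [e] at h3
      exact hwc (hKc w h3)
    exact hKc _ (hWT _ (mul_mem (inv_mem hw) h1) (hco _ (hWR hw) _ (hWR h1) hwT h2))
  have heq : ∀ x ∈ H, ∀ B, Al M i x B → ∀ n ∈ Nc M i, x * (w * n * w⁻¹) * x⁻¹ = w * (x * n * x⁻¹) * w⁻¹ := by
    intro x hx B hB n hn
    have h1 := mem_centralizer_iff.1 (hkc x hx B hB) _ (Nc_norm hB.1 hB.mv hn)
    set c := w⁻¹ * (x * w * x⁻¹) with hc
    calc x * (w * n * w⁻¹) * x⁻¹ = w * (c * (x * n * x⁻¹)) * c⁻¹ * w⁻¹ := by rw [hc]; group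
      _ = w * ((x * n * x⁻¹) * c) * c⁻¹ * w⁻¹ := by rw [h1]
      _ = _ := by group
  -- `w` normalises `Ω₁Z(T)`
  have hwY : ∀ y ∈ zc (Tc M i), w * y * w⁻¹ ∈ zc (Tc M i) := by
    intro y hy
    obtain ⟨h1, h2, h3⟩ := mem_zc.1 hy
    refine mem_zc.2 ⟨hwn y h1, fun t ht => ?_, ?_⟩
    · have h4 := h2 _ (hwn' t ht)
      calc t * (w * y * w⁻¹) = w * (w⁻¹ * t * w * y) * w⁻¹ := by group
        _ = w * (y * (w⁻¹ * t * w)) * w⁻¹ := by rw [h4]
        _ = _ := by group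
    · rw [pow_two] at h3 ⊢
      calc w * y * w⁻¹ * (w * y * w⁻¹) = w * (y * y) * w⁻¹ := by group
        _ = 1 := by rw [h3]; group
  -- `w` normalises `A₀`
  have hA0 : ∀ y ∈ A0 S M i, ∃ y' ∈ A0 S M i, (y' : G) = w * y * w⁻¹ := by
    intro y hy
    obtain ⟨⟨hyV, hyT⟩, hye⟩ := (mem_A0 S).1 hy
    have hy'T := hwY _ hyT
    have hy'A := zc_Tc_le hG S h i hy'T
    have hyN := mem_Nc_of_eA hG S h hF ((mem_VA S).2 hyV) hye
    have he' : eA S M i ⟨w * y * w⁻¹, hy'A⟩ = 1 := by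
      -- the subgroup `{a ∈ A | w a w⁻¹ ∈ A}`
      let B : Subgroup ↥(zc (o2 P)) :=
        { carrier := {a | w * a * w⁻¹ ∈ zc (o2 P)}
          one_mem' := by
            show w * (1 : G) * w⁻¹ ∈ zc (o2 P)
            rw [mul_one, mul_inv_cancel]; exact one_mem _
          mul_mem' := by
            intro a b ha hb
            show w * ((a : G) * b) * w⁻¹ ∈ zc (o2 P)
            have e : w * ((a : G) * b) * w⁻¹ = (w * a * w⁻¹) * (w * b * w⁻¹) := by group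
            rw [e]; exact mul_mem ha hb
          inv_mem' := by
            intro a ha
            show w * (a : G)⁻¹ * w⁻¹ ∈ zc (o2 P)
            have e : w * (a : G)⁻¹ * w⁻¹ = (w * a * w⁻¹)⁻¹ := by group
            rw [e]; exact inv_mem ha }
      let φ : B →* ↥(zc (o2 P)) :=
        { toFun := fun a => ⟨w * ((a : ↥(zc (o2 P))) : G) * w⁻¹, a.2⟩
          map_one' := Subtype.ext (by show w * (1 : G) * w⁻¹ = 1; group)
          map_mul' := fun a b => Subtype.ext (by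
            show w * (((a : ↥(zc (o2 P))) : G) * ((b : ↥(zc (o2 P))) : G)) * w⁻¹ =
              w * ((a : ↥(zc (o2 P))) : G) * w⁻¹ * (w * ((b : ↥(zc (o2 P))) : G) * w⁻¹)
            group) }
      have hval : ∀ l : Fˣ, w * ((rh S M i (dg (l : F) l.ne_zero) y : ↥(zc (o2 P))) : G) * w⁻¹ =
          ((rh S M i (dg (l : F) l.ne_zero) ⟨w * y * w⁻¹, hy'A⟩ : ↥(zc (o2 P))) : G) := by
        intro l
        obtain ⟨x, hx, hB⟩ := hX (dg (l : F) l.ne_zero)
        rw [rh_val hG S h hk M hB, rh_val hG S h hk M hB]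
        exact (heq x hx _ hB _ hyN).symm
      have hmem : ∀ l : Fˣ, rh S M i (dg (l : F) l.ne_zero) y ∈ B := by
        intro l
        show w * ((rh S M i (dg (l : F) l.ne_zero) y : ↥(zc (o2 P))) : G) * w⁻¹ ∈ zc (o2 P)
        rw [hval l]
        exact (rh S M i (dg (l : F) l.ne_zero) ⟨w * y * w⁻¹, hy'A⟩).2
      have h1 : ∏ l : Fˣ, (⟨rh S M i (dg (l : F) l.ne_zero) y, hmem l⟩ : B) = 1 := by
        apply Subtype.ext
        rw [Subgroup.val_finsetProd]
        rw [eA_apply] at hye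
        exact hye
      have h2 : ∏ l : Fˣ, φ ⟨rh S M i (dg (l : F) l.ne_zero) y, hmem l⟩ = 1 := by
        rw [← map_prod, h1, map_one]
      rw [eA_apply, ← h2]
      refine Finset.prod_congr rfl fun l _ => Subtype.ext ?_
      exact (hval l).symm
    have hV := claim hG S h hij hF (f := ⟨w * y * w⁻¹, hy'A⟩) hy'T he'
    exact ⟨⟨w * y * w⁻¹, hy'A⟩, (mem_A0 S).2 ⟨⟨(mem_VA S).1 hV, hy'T⟩, he'⟩, rfl⟩
  -- a fixed point
  obtain ⟨y, hy, hy1, hyw⟩ : ∃ y ∈ A0 S M i, y ≠ 1 ∧ w * (y : G) * w⁻¹ = y := by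
    set B0 : Subgroup G := (A0 S M i).map (zc (o2 P)).subtype with hB0
    have hB02 : IsPGroup 2 B0 := by
      refine hT2.to_le ?_
      rintro _ ⟨y, hy, rfl⟩
      exact zc_le _ ((mem_A0 S).1 hy).1.2
    have hB0n : w ∈ normalizer (B0 : Set G) := by
      apply mem_normalizer_of_map_le
      rintro _ ⟨_, ⟨y, hy, rfl⟩, rfl⟩
      obtain ⟨y', hy', e⟩ := hA0 y hy
      exact ⟨y', hy', e⟩
    have hB0ne : B0 ≠ ⊥ := by
      obtain ⟨y, hy, hy1⟩ := exists_A0 hG S h hij hF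
      intro h1
      have h2 : (y : G) ∈ B0 := ⟨y, hy, rfl⟩
      rw [h1, mem_bot] at h2
      exact hy1 (Subtype.ext h2)
    obtain ⟨y0, hy0, hy01, hy0w⟩ := Half.exists_fixed hB02 hB0ne (hW2.to_le (zpowers_le.mpr hw)) (zpowers_le.mpr hB0n)
    obtain ⟨y, hy, rfl⟩ := hy0
    exact ⟨y, hy, fun h1 => hy01 (by rw [h1]; rfl), hy0w w (mem_zpowers w)⟩
  obtain ⟨⟨hyV, hyT⟩, hye⟩ := (mem_A0 S).1 hy
  have hyN := mem_Nc_of_eA hG S h hF ((mem_VA S).2 hyV) hye
  have hyi := coord_ne_of_eA hG S h hF ((mem_VA S).2 hyV) hye hy1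
  -- `C_{N_i}(w)` is invariant under the lifts
  have hinv : ∀ x ∈ H, ∀ B, Al M i x B → ∀ n ∈ Nc M i, w * n * w⁻¹ = n → w * (x * n * x⁻¹) * w⁻¹ = x * n * x⁻¹ := by
    intro x hx B hB n hn hwn
    rw [← heq x hx B hB n hn, hwn]
  have hcov : ∀ z : Fin 2 → F, ∃ r ∈ Nc M i, w * r * w⁻¹ = r ∧ M.e r i = z := by
    intro z
    by_cases hz : z = 0
    · exact ⟨1, one_mem _, by group, by rw [e_one M, hz]; rfl⟩
    obtain ⟨B, hB⟩ := NatPair.exists_ap hyi hz
    obtain ⟨x, hx, hxB⟩ := hX B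
    exact ⟨x * y * x⁻¹, Nc_norm hxB.1 hxB.mv hyN, hinv x hx B hxB _ hyN hyw, by rw [hxB.same hyV, hB]⟩
  apply hwc
  have key : ∀ n ∈ Nc M i, w * n * w⁻¹ = n := by
    intro n hn
    induction hn using closure_induction with
    | mem z hz =>
      obtain ⟨x', hx', v, hv, rfl⟩ := hz
      obtain ⟨B, hB'⟩ := exists_of_Fc hx'
      obtain ⟨x, hx, hB⟩ := hX B
      obtain ⟨r, hr, hrw, hre⟩ := hcov (M.e v i)
      have hrV := Nc_le_zl i hr
      have e1 : x' * v * x'⁻¹ * v⁻¹ = x * r * x⁻¹ * r⁻¹ := by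
        rw [Al.eq_V hG S h hk hB' hB hv]
        exact comm_eq hG S h hk hF hB hv hrV hre.symm
      rw [e1]
      calc w * (x * r * x⁻¹ * r⁻¹) * w⁻¹ = (w * (x * r * x⁻¹) * w⁻¹) * (w * r * w⁻¹)⁻¹ := by group
        _ = x * r * x⁻¹ * r⁻¹ := by rw [hinv x hx B hB r hr hrw, hrw]
    | one => group
    | mul a b ha hb h1 h2 =>
      calc w * (a * b) * w⁻¹ = (w * a * w⁻¹) * (w * b * w⁻¹) := by group
        _ = a * b := by rw [h1, h2]
    | inv a ha h1 =>
      calc w * a⁻¹ * w⁻¹ = (w * a * w⁻¹)⁻¹ := by group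
        _ = a⁻¹ := by rw [h1]
  exact mem_centralizer_iff.2 fun n hn => (mul_inv_eq_iff_eq_mul.1 (key n hn)).symm

end two

/-! ### `E_i` covers `F_i` -/

theorem relIndex_sup_eq [Finite G] {A C : Subgroup G} (h : A ≤ normalizer (C : Set G)) :
    A.relIndex (A ⊔ C) = (A ⊓ C).relIndex C := by
  have h1 : Nat.card (A ⊔ C : Subgroup G) * Nat.card (A ⊓ C : Subgroup G) = Nat.card A * Nat.card C := by
    rw [← Lib.ProductSet.card_mul_card_inf A C, ← coe_mul_of_left_le_normalizer_right _ _ h]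
    rfl
  have h3 := Half.card_mul_relIndex (inf_le_right : A ⊓ C ≤ C)
  have h4 := Half.card_mul_relIndex (le_sup_left : A ≤ A ⊔ C)
  have hS : 0 < Nat.card A := Nat.card_pos
  have hI : 0 < Nat.card (A ⊓ C : Subgroup G) := Nat.card_pos
  refine Nat.eq_of_mul_eq_mul_left (Nat.mul_pos hS hI) ?_
  calc Nat.card A * Nat.card (A ⊓ C : Subgroup G) * A.relIndex (A ⊔ C)
      = (Nat.card A * A.relIndex (A ⊔ C)) * Nat.card (A ⊓ C : Subgroup G) := by ring
    _ = Nat.card A * (Nat.card (A ⊓ C : Subgroup G) * (A ⊓ C).relIndex C) := by rw [h4, h1, h3]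
    _ = _ := by ring

section two'

variable [Finite G] [CharP F 2] (hG : IsCharacteristicTwoType G) (S : Sylow 2 G) {P : Subgroup G}
  (h : IsParS (S : Subgroup G) P)
  {M : NatK F (S : Subgroup G) P (zl (S : Subgroup G) P) (cv (S : Subgroup G) P) 2}
  [Finite F] (hF : 4 ≤ Nat.card F)

theorem exists_ne (i : Fin 2) : ∃ j : Fin 2, i ≠ j := by
  revert i; decide

/-- `N_i` covers the `i`-th factor -/
theorem Nc_surj (i : Fin 2) (z : Fin 2 → F) : ∃ n ∈ Nc M i, M.e n i = z := by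
  by_cases hz : z = 0
  · exact ⟨1, one_mem _, by rw [e_one M, hz]; rfl⟩
  obtain ⟨v, hv, hvi, -⟩ := exists_single (M := M) i ![0, 1]
  obtain ⟨x, hx⟩ := exists_Al M i (up (1 : F))
  have h1 := hx.comm_same hv
  have h2 : M.e (x * v * x⁻¹ * v⁻¹) i ≠ 0 := by
    rw [h1, hvi, ap_up2]
    intro h3
    have := congrFun h3 0
    simp at this
  obtain ⟨B, hB⟩ := NatPair.exists_ap h2 hz
  obtain ⟨y, hy⟩ := exists_Al M i B
  exact ⟨y * (x * v * x⁻¹ * v⁻¹) * y⁻¹, Nc_norm hy.1 hy.mv (mem_Nc hx hv), by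
    rw [hy.same (mul_mem (hx.V hv) (inv_mem hv)), hB]⟩

/-- `Q_i` acts trivially on the `i`-th factor -/
theorem Qc_triv {i : Fin 2} {q : G} (hq : q ∈ Qc M i) :
    ∀ v ∈ zl (S : Subgroup G) P, M.e (q * v * q⁻¹) i = M.e v i := by
  intro v hv
  obtain ⟨n, hn, hne⟩ := Nc_surj S (M := M) i (M.e v i)
  have hqT : q ∈ Tc M i := hq.1
  have h1 := coord_congr S (M := M) hqT.1.2 hqT.2 hv (Nc_le_zl i hn) hne.symm
  have h2 : n * q = q * n := mem_centralizer_iff.1 hq.2 n hn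
  rw [h1, ← h2, mul_inv_cancel_right, hne]

/-- `C_P(V)` -/
theorem Al_of_cent (i : Fin 2) {c : G} (hc : c ∈ P ⊓ centralizer (zl (S : Subgroup G) P : Set G)) : Al M i c 1 := by
  refine ⟨hc.1, fun v hv m => ?_, fun d hd => ?_⟩
  · have h1 : v * c = c * v := mem_centralizer_iff.1 hc.2 v hv
    rw [← h1, mul_inv_cancel_right, one1_one, ap_one]
  · exact (mem_centralizer_iff.1 hc.2 d (cv_le _ _ hd)).symm

theorem P_norm_CV : P ≤ normalizer ((P ⊓ centralizer (zl (S : Subgroup G) P : Set G) : Subgroup G) : Set G) := by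
  apply Two.le_normalizer_of
  intro g hg c hc
  refine mem_inf.2 ⟨mul_mem (mul_mem hg hc.1) (inv_mem hg), mem_centralizer_iff.2 fun v hv => ?_⟩
  have h1 : g⁻¹ * v * g ∈ zl (S : Subgroup G) P := by
    have := conj_mem_zl (inv_mem hg) hv
    rwa [inv_inv] at this
  have h2 := mem_centralizer_iff.1 hc.2 _ h1
  calc v * (g * c * g⁻¹) = g * (g⁻¹ * v * g * c) * g⁻¹ := by group
    _ = g * (c * (g⁻¹ * v * g)) * g⁻¹ := by rw [h2]
    _ = _ := by group

include h in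
/-- `C_P(V) ∩ S ≤ Q_i` -/
theorem inf_le_Qc (i : Fin 2) :
    (S : Subgroup G) ⊓ (P ⊓ centralizer (zl (S : Subgroup G) P : Set G)) ≤ Qc M i := by
  rintro c ⟨hcS, hc⟩
  refine mem_inf.2 ⟨⟨⟨hcS, h.le hcS⟩, (Al_of_cent S (M := M) i hc).mv⟩, mem_centralizer_iff.2 fun n hn => ?_⟩
  exact mem_centralizer_iff.1 hc.2 n (Nc_le_zl i hn)

include hG h in
/-- **`E_i` covers `F_i` modulo `C_P(V)`** -/
theorem exists_Ec {i : Fin 2} {x : G} {B : Matrix.SpecialLinearGroup (Fin 2) F} (hx : Al M i x B) :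
    ∃ c ∈ P ⊓ centralizer (zl (S : Subgroup G) P : Set G), c * x ∈ Ec M i ∧ Al M i (c * x) B := by
  have : Fact (Nat.Prime 2) := ⟨Nat.prime_two⟩
  set C : Subgroup G := P ⊓ centralizer (zl (S : Subgroup G) P : Set G) with hC
  set Q := Qc M i with hQ
  have hQT : Q ≤ Tc M i := inf_le_left
  have hQS : Q ≤ (S : Subgroup G) := hQT.trans (Tc_le_S S i)
  have hQ2 : IsPGroup 2 Q := S.isPGroup'.to_le hQS
  have hQC : Q ≤ normalizer (C : Set G) := (hQS.trans h.le).trans (P_norm_CV S)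
  have hi1 : Q ⊓ C = (S : Subgroup G) ⊓ C :=
    le_antisymm (inf_le_inf_right _ hQS) (le_inf (inf_le_Qc S h i) inf_le_right)
  have hodd : ¬ 2 ∣ Q.relIndex (Q ⊔ C) := by
    rw [relIndex_sup_eq hQC, hi1, ← relIndex_sup_eq (h.le.trans (P_norm_CV S))]
    exact MinSimple.Basic.not_dvd_relIndex S le_sup_left
  have hconj : ∀ q ∈ Q, x * q * x⁻¹ ∈ Q ⊔ C := by
    intro q hq
    have hqP : q ∈ P := h.le (hQS hq)
    have h1 := conj_triv S hqP (Qc_triv S hq) hx.inv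
    have h2 : Al M i (x * (q * x⁻¹ * q⁻¹)) 1 := (hx.mul h1).of_eq (mul_inv_cancel B)
    have h3 : x * (q * x⁻¹ * q⁻¹) ∈ C := by
      refine mem_inf.2 ⟨h2.1, mem_centralizer_iff.2 fun v hv => ?_⟩
      have h4 := Al.eq_V hG S h two_pos h2 (Al.one i) hv
      have h5 : (1 : G) * v * 1⁻¹ = v := by group
      rw [h5] at h4
      exact (mul_inv_eq_iff_eq_mul.1 h4).symm
    have e : x * q * x⁻¹ = x * (q * x⁻¹ * q⁻¹) * q := by group
    rw [e]
    exact mul_mem (mem_sup_right h3) (mem_sup_left hq)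
  obtain ⟨n, hn, h1⟩ := Lib.GoldschmidtFusion.exists_conj_le_in (p := 2) hQ2 hodd
    (D := Q.map (MulAut.conj x).toMonoidHom) (by
      rintro _ ⟨q, hq, rfl⟩
      exact hconj q hq) (hQ2.map _)
  have h2 : n ∈ ((Q ⊔ C : Subgroup G) : Set G) := hn
  rw [coe_mul_of_left_le_normalizer_right _ _ hQC, Set.mem_mul] at h2
  obtain ⟨q, hq, c, hc, rfl⟩ := h2
  refine ⟨c, hc, mem_inf.2 ⟨⟨mul_mem hc.1 hx.1, B, ?_⟩, ?_⟩, ?_⟩
  · exact (((Al_of_cent S (M := M) i hc).mul hx).of_eq (one_mul B)).2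
  · apply mem_normalizer_of_map_le
    rintro _ ⟨q', hq', rfl⟩
    have h3 : q * c * (x * q' * x⁻¹) * (q * c)⁻¹ ∈ Q := h1 ⟨_, ⟨q', hq', rfl⟩, rfl⟩
    have h4 := mul_mem (mul_mem (inv_mem hq) h3) hq
    have e : q⁻¹ * (q * c * (x * q' * x⁻¹) * (q * c)⁻¹) * q = c * x * q' * (c * x)⁻¹ := by group
    rw [e] at h4
    exact h4
  · exact ((Al_of_cent S (M := M) i hc).mul hx).of_eq (one_mul B)

include hG h hF

/-- **HALF*** -/
theorem half_of_lifts {i : Fin 2} {H : Subgroup G} (hT : Tc M i ≤ H) (hX : ∀ B, ∃ x ∈ H, Al M i x B)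
    (hH : H ⊓ centralizer (o2 H : Set G) ≤ o2 H) : Nc M i ≤ zc (o2 H) := by
  classical
  have := Fintype.ofFinite F
  obtain ⟨j, hij⟩ := exists_ne i
  have h1 := o2_le_cent hG S h hij hF hT hX
  intro n hn
  have hnV := Nc_le_zl i hn
  have h2 : ∀ x ∈ o2 H, x * n = n * x := fun x hx => (mem_centralizer_iff.1 (h1 hx) n hn).symm
  exact mem_zc.2 ⟨hH (mem_inf.2 ⟨hT (V_le_Tc hG S h i hnV), mem_centralizer_iff.2 h2⟩), h2,
    zc_sq _ _ (zl_le_A hG S h hnV)⟩

/-- **(1) HALF*** for `L_i` -/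
theorem half_Lc (i : Fin 2) : Half (Lc M i) (Nc M i) := by
  intro H hL hH
  refine half_of_lifts hG S h hF (le_sup_left.trans hL) (fun B => ?_) hH
  obtain ⟨x, hx⟩ := exists_Al M i B
  obtain ⟨c, -, h1, h2⟩ := exists_Ec hG S h hx
  exact ⟨c * x, hL (le_sup_right (a := Tc M i) h1), h2⟩

omit hG h hF in
/-- `U_i = C_{N_i}(F_i)` -/
theorem Uc_eq (i : Fin 2) : Uc M i = Nc M i ⊓ centralizer (Fc M i : Set G) := by
  obtain ⟨j, hij⟩ := exists_ne i
  apply le_antisymm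
  · rintro n ⟨hn, hd⟩
    refine mem_inf.2 ⟨hn, mem_centralizer_iff.2 fun x hx => ?_⟩
    obtain ⟨B, hB⟩ := exists_of_Fc hx
    exact hB.D hd
  · rintro n ⟨hn, hc⟩
    refine mem_inf.2 ⟨hn, ?_⟩
    have hnV := Nc_le_zl i hn
    rw [← M.ker n hnV]
    funext m
    rcases two_cases hij m with rfl | rfl
    · by_contra h0
      obtain ⟨y, hy, hyx⟩ : ∃ y : Fin 2 → F, y ≠ 0 ∧ y ≠ M.e n m := by
        by_cases hx0 : M.e n m 0 = 0
        · refine ⟨![1, 0], fun h => one_ne_zero (congrFun h 0), fun h => ?_⟩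
          have := congrFun h 0
          rw [hx0] at this
          exact one_ne_zero this
        · refine ⟨![0, 1], fun h => one_ne_zero (congrFun h 1), fun h => ?_⟩
          exact hx0 (congrFun h 0).symm
      obtain ⟨B, hB⟩ := NatPair.exists_ap (x := M.e n m) h0 hy
      obtain ⟨x, hx⟩ := exists_Al M m B
      have h1 : x * n = n * x := mem_centralizer_iff.1 hc x hx.mem_Fc
      have h2 := hx.same hnV
      rw [h1, mul_inv_cancel_right, hB] at h2
      exact hyx h2.symm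
    · exact Nc_ne hij.symm hn

end two'

end Cfsg.Agent.Omega.IId.Ns

end
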