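import Cfsg.Agent.Mrg.Omega.IId.Ns.Defs
import Cfsg.Agent.Mrg.Omega.HOne.NSSide
import Cfsg.Agent.Mrg.Omega.IId.Cv.HalfGen
import Cfsg.Agent.Schreier.Tools
import Cfsg.Agent.SignalizersComponents.PerfectGoingUp
import Cfsg.Agent.Mrg.Omega.HOne.TvTail
import Mathlib.GroupTheory.PGroup
import Cfsg.Agent.Lib.GoldschmidtFusion
import Cfsg.Agent.Lib.EssentialFusion

-- merged: Cfsg.Agent.Mrg.Omega.IId.Ns.NineA
section

section


/-!
# II.d, `k = 2`, nonsplit: (9a) and (9b)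

* `comm_Q` : `w ∈ C_G(U U')` normalises `T` ==> `C_T(A)` centralises `w A w⁻¹`;
* `dec` : `UU = A C_UU(X)`, `X = ⟨A', n⁻¹ A' n⟩`.
-/

set_option autoImplicit false
set_option linter.unusedSectionVars false

namespace Cfsg.Agent.Omega.IId.Ns

open Subgroup Cfsg Cfsg.Agent.ZN Cfsg.Agent.Lib.SL2Mat
open Cfsg.Agent.Omega.HOne.NSMod Cfsg.Agent.Omega.HOne.NSSide Cfsg.Agent.Omega.HOne.NSPair Cfsg.Agent.Omega.HOne.NSDat
open Cfsg.Agent.Omega.NatPair (ap ap_add ap_mul ap_one ap_inj ext2 ap_zero' ap_one' ap_inv_ap ap_ap_inv)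
open Cfsg.Agent.MinSimple.VModule (le_normalizer_o2 zc_comm zc_sq zc_le)

universe u

variable {G : Type u} [Group G] {F : Type} [Field F]
  {T T' L L' A A' U U' : Subgroup G} {π π' : G → Fin 2 → F} {e f g e' f' g' : F → G} {s : G → F}

/-! ### Basic facts -/

theorem cc_l {U U' : Subgroup G} {x : G} (hx : x ∈ CC U U') {u : G} (hu : u ∈ U) : x * u = u * x :=
  (mem_centralizer_iff.1 hx.1 u hu).symm

theorem cc_r {U U' : Subgroup G} {x : G} (hx : x ∈ CC U U') {u : G} (hu : u ∈ U') : x * u = u * x :=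
  (mem_centralizer_iff.1 hx.2 u hu).symm

theorem fix_of_comm {x y : G} (h : x * y = y * x) : x * y * x⁻¹ = y := by rw [h, mul_inv_cancel_right]

theorem fix_of_comm' {x y : G} (h : x * y = y * x) : x⁻¹ * y * x = y := by
  rw [mul_assoc, ← h, inv_mul_cancel_left]

theorem comm_of_fix {x y : G} (h : x * y * x⁻¹ = y) : x * y = y * x := mul_inv_eq_iff_eq_mul.1 h

theorem fix_inv {x y : G} (h : x * y * x⁻¹ = y) : x * y⁻¹ * x⁻¹ = y⁻¹ := by
  calc x * y⁻¹ * x⁻¹ = (x * y * x⁻¹)⁻¹ := by group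
    _ = y⁻¹ := by rw [h]

namespace Base

variable (b : Base T T' L L' A A' U U' π π' e f g e' f' g')

include b

theorem eU' (z : F) : e z ∈ U' := by
  obtain ⟨y, hy⟩ := b.c1 z
  rw [hy]; exact b.p.φ'.gD y

theorem gU (z : F) : g z ∈ U := b.p.φ.gD z

theorem eA (z : F) : e z ∈ A := b.p.φ.eV z
theorem fA (z : F) : f z ∈ A := b.p.φ.fV z
theorem gA (z : F) : g z ∈ A := b.p.s.r.DV (b.p.φ.gD z)

theorem UA : U ≤ A := b.p.s.r.DV

theorem U'A [Finite F] : U' ≤ A := by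
  intro x hx
  obtain ⟨y, rfl⟩ := b.p.φ'.ND x (b.p.s'.r.DV hx) hx
  exact b.p.symm.eg_mem.2 y

/-- `A` is commutative -/
theorem Ac {x y : G} (hx : x ∈ A) (hy : y ∈ A) : x * y = y * x := b.p.s.r.Vc x hx y hy

theorem A'c {x y : G} (hx : x ∈ A') (hy : y ∈ A') : x * y = y * x := b.p.s'.r.Vc x hx y hy

theorem Ai {x : G} (hx : x ∈ A) : x⁻¹ = x := b.p.s.r.inv hx

/-- `A' ≤ C_G(U U')` -/
theorem A'C : A' ≤ CC U U' := by
  intro n hn
  obtain ⟨β, hβ⟩ := b.p.s.typ n hn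
  exact ⟨mem_centralizer_iff.2 fun u hu => (hβ.cen u hu).symm,
    mem_centralizer_iff.2 fun u hu => b.A'c (b.p.s'.r.DV hu) hn⟩

theorem AC [Finite F] : A ≤ CC U U' := fun x hx =>
  ⟨mem_centralizer_iff.2 fun u hu => b.Ac (b.UA hu) hx, mem_centralizer_iff.2 fun u hu => b.Ac (b.U'A hu) hx⟩

theorem A'T : A' ≤ T := b.p.s.AS

theorem TL : T ≤ L := b.p.s.SP

/-- `T ∩ C` acts on `A` as `A'` -/
theorem tau {x : G} (hx : x ∈ T) (hc : x ∈ CC U U') :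
    ∃ t : F, ∀ v ∈ A, x * v * x⁻¹ = e (t ^ 2 * π v 0) * g (t * π v 0) * v :=
  act_of b.p hx fun z => cc_r hc (b.eU' z)

theorem exists_n (t : F) : ∃ n ∈ A', Is L A U π n (lo (t ^ 2)) := b.p.s.full (t ^ 2)

theorem act_n {t : F} {n : G} (hn : Is L A U π n (lo (t ^ 2))) {v : G} (hv : v ∈ A) :
    n * v * n⁻¹ = e (t ^ 2 * π v 0) * g (t * π v 0) * v := b.p.φ.act t n hn v hv

/-- `C_T(A) ≤ C_G(U U')` -/
theorem QC [Finite F] : T ⊓ centralizer (A : Set G) ≤ CC U U' := fun x hx =>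
  ⟨mem_centralizer_iff.2 fun u hu => mem_centralizer_iff.1 hx.2 u (b.UA hu),
    mem_centralizer_iff.2 fun u hu => mem_centralizer_iff.1 hx.2 u (b.U'A hu)⟩

/-- the Weyl element -/
theorem exists_wm : ∃ n, Is L A U π n (wm 1 one_ne_zero) := b.p.s.r.is_lift _

theorem pi_n {n : G} (hn : Is L A U π n (wm 1 one_ne_zero)) {v : G} (hv : v ∈ A) :
    π (n * v * n⁻¹) = ![π v 1, - π v 0] := by
  rw [hn.act v hv, ap_wm]
  apply ext2 <;> simp

theorem pi_n' {n : G} (hn : Is L A U π n (wm 1 one_ne_zero)) {v : G} (hv : v ∈ A) :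
    π (n⁻¹ * v * n) = ![- π v 1, π v 0] := by
  have h1 : n⁻¹ * v * n ∈ A := by
    have := b.p.s.r.Vn n⁻¹ (inv_mem hn.mem) v hv
    rwa [inv_inv] at this
  have h2 := b.pi_n hn h1
  have e1 : n * (n⁻¹ * v * n) * n⁻¹ = v := by group
  rw [e1] at h2
  rw [h2]
  apply ext2 <;> simp

/-- an element of `A` with `π = 0` is in `U` -/
theorem mem_U {v : G} (hv : v ∈ A) (h : π v = 0) : v ∈ U := (b.p.s.r.ker v hv).1 h

/-- `A = n e(F) n⁻¹ · e(F) · U` -/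
theorem A_le {W : Subgroup G} {n : G} (hn : Is L A U π n (wm 1 one_ne_zero)) (h1 : ∀ z, e z ∈ W)
    (h2 : ∀ z, n * e z * n⁻¹ ∈ W) (h3 : U ≤ W) : A ≤ W := by
  intro a ha
  have hne : ∀ z, n * e z * n⁻¹ ∈ A := fun z => b.p.s.r.Vn n hn.mem _ (b.eA z)
  have h4 : (n * e (π a 0) * n⁻¹)⁻¹ * (a * (e (π a 1))⁻¹) ∈ U := by
    refine b.mem_U (mul_mem (inv_mem (hne _)) (mul_mem ha (inv_mem (b.eA _)))) ?_
    rw [b.p.s.r.mul _ (inv_mem (hne _)) _ (mul_mem ha (inv_mem (b.eA _))), b.p.s.r.mul _ ha _ (inv_mem (b.eA _)),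
      b.p.s.r.map_inv (hne _), b.p.s.r.map_inv (b.eA _), b.pi_n hn (b.eA _), b.p.φ.eπ, b.p.φ.eπ]
    apply ext2 <;> simp [Matrix.vecHead, Matrix.vecTail]
  have e1 : a = (n * e (π a 0) * n⁻¹) * ((n * e (π a 0) * n⁻¹)⁻¹ * (a * (e (π a 1))⁻¹)) * e (π a 1) := by group
  rw [e1]
  exact mul_mem (mul_mem (h2 _) (h3 h4)) (h1 _)

end Base

/-! ### (9a) -/

/-- (9a) -/
theorem comm_Q [Finite G] [Finite F] (b : Base T T' L L' A A' U U' π π' e f g e' f' g')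
    (c : Core T L A A' U U' π e g s) (hA'O : A' ≤ o2 (CC U U')) {w : G} (hw : w ∈ CC U U')
    (hwT : w ∈ normalizer (T : Set G)) {h : G} (hh : h ∈ T ⊓ centralizer (A : Set G)) {v : G} (hv : v ∈ A) :
    h * (w * v * w⁻¹) = w * v * w⁻¹ * h := by
  have hhA : ∀ a ∈ A, h * a = a * h := fun a ha => (mem_centralizer_iff.1 hh.2 a ha).symm
  -- `x = w⁻¹ h w`
  set x := w⁻¹ * h * w with hx
  have hxT : x ∈ T := by
    have := (mem_normalizer_iff.1 (inv_mem hwT) h).1 hh.1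
    rwa [inv_inv] at this
  have hxC : x ∈ CC U U' := mul_mem (mul_mem (inv_mem hw) (b.QC hh)) hw
  obtain ⟨t, ht⟩ := b.tau hxT hxC
  have hwe : ∀ z, w * e z * w⁻¹ = e z := fun z => fix_of_comm (cc_r hw (b.eU' z))
  have hwg : ∀ z, w * g z * w⁻¹ = g z := fun z => fix_of_comm (cc_l hw (b.gU z))
  have hform : ∀ a ∈ A, h * (w * a * w⁻¹) * h⁻¹ = e (t ^ 2 * π a 0) * g (t * π a 0) * (w * a * w⁻¹) := by
    intro a ha
    have e1 : h * (w * a * w⁻¹) * h⁻¹ = w * (x * a * x⁻¹) * w⁻¹ := by rw [hx]; group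
    rw [e1, ht a ha]
    calc w * (e (t ^ 2 * π a 0) * g (t * π a 0) * a) * w⁻¹
        = (w * e (t ^ 2 * π a 0) * w⁻¹) * (w * g (t * π a 0) * w⁻¹) * (w * a * w⁻¹) := by group
      _ = _ := by rw [hwe, hwg]
  by_cases ht0 : t = 0
  · have h1 := hform v hv
    rw [ht0, zero_pow two_ne_zero, zero_mul, b.p.φ.e0, b.p.φ.g0, one_mul, one_mul] at h1
    exact comm_of_fix h1
  -- the case `t ≠ 0` : `A = w A w⁻¹`
  obtain ⟨n, hn⟩ := b.exists_wm
  have hnM : n ∈ centralizer (U : Set G) := mem_centralizer_iff.2 fun u hu => (hn.cen u hu).symm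
  have hnA : ∀ a ∈ A, n * a * n⁻¹ ∈ A := fun a ha => b.p.s.r.Vn n hn.mem a ha
  have hnA' : ∀ a ∈ A, n⁻¹ * a * n ∈ A := fun a ha => by
    have := b.p.s.r.Vn n⁻¹ (inv_mem hn.mem) a ha
    rwa [inv_inv] at this
  have hnQ := b.QL hn.mem
  set W : Subgroup G := Omega.BTwo.cj w A with hW
  have memW : ∀ y, y ∈ W ↔ w⁻¹ * y * w ∈ A := fun y => Omega.BTwo.mem_cj
  have hwW : ∀ a ∈ A, w * a * w⁻¹ ∈ W := fun a ha => Omega.BTwo.conj_mem_cj ha
  have heW : ∀ z, e z ∈ W := fun z => by rw [← hwe z]; exact hwW _ (b.eA z)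
  have hUW : U ≤ W := fun u hu => by
    have e1 : w * u * w⁻¹ = u := fix_of_comm (cc_l hw hu)
    rw [← e1]; exact hwW _ (b.UA hu)
  -- the main computation
  have key : ∀ k ∈ A', ∀ z : F, (n * k * n⁻¹) * (e z)⁻¹ * (n * k * n⁻¹)⁻¹ * e z ∈ W := by
    intro k hk z
    obtain ⟨β, hβ⟩ := b.p.s.typ k hk
    obtain ⟨r, rfl⟩ := b.p.sq β
    set κ := n * k * n⁻¹ with hκ
    have hkT : k ∈ T := b.A'T hk
    have hkA : ∀ a ∈ A, k * a * k⁻¹ ∈ A := fun a ha => b.p.s.r.Vn k (b.TL hkT) a ha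
    have hkA' : ∀ a ∈ A, k⁻¹ * a * k ∈ A := fun a ha => by
      have := b.p.s.r.Vn k⁻¹ (inv_mem (b.TL hkT)) a ha
      rwa [inv_inv] at this
    have hκA : ∀ a ∈ A, κ * a * κ⁻¹ ∈ A := by
      intro a ha
      have e1 : κ * a * κ⁻¹ = n * (k * (n⁻¹ * a * n) * k⁻¹) * n⁻¹ := by rw [hκ]; group
      rw [e1]; exact hnA _ (hkA _ (hnA' a ha))
    have hκA' : ∀ a ∈ A, κ⁻¹ * a * κ ∈ A := by
      intro a ha
      have e1 : κ⁻¹ * a * κ = n * (k⁻¹ * (n⁻¹ * a * n) * k) * n⁻¹ := by rw [hκ]; group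
      rw [e1]; exact hnA _ (hkA' _ (hnA' a ha))
    -- `a` with `t ^ 2 * π a 0 = z`
    set a := f (z / t ^ 2) with ha
    have haA : a ∈ A := b.fA _
    have hπa : π a 0 = z / t ^ 2 := by rw [ha, b.p.φ.fπ]; rfl
    set q := w * a * w⁻¹ with hq
    set ρ := e z * g (t * (z / t ^ 2)) with hρ
    have hρA : ρ ∈ A := mul_mem (b.eA _) (b.gA _)
    have hhq : h * q * h⁻¹ = ρ * q := by
      rw [hq, hform a haA, hπa, mul_div_cancel₀ _ (pow_ne_zero 2 ht0)]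
    have hqU : q ∈ UG A U := c.MU w hw.1 a (c.AU haA)
    -- `r' = [κ, q]`
    set r' := κ * q * κ⁻¹ * q⁻¹ with hr'
    have hr'e : r' = n * (e (r ^ 2 * s (n⁻¹ * q * n)) * g (r * s (n⁻¹ * q * n))) * n⁻¹ := by
      have h1 : n⁻¹ * q * n ∈ UG A U := by
        have := c.MU n⁻¹ (inv_mem hnM) q hqU
        rwa [inv_inv] at this
      have h2 := c.s_act r k hk hβ _ h1
      have e1 : r' = n * ((k * (n⁻¹ * q * n) * k⁻¹) * (n⁻¹ * q * n)⁻¹) * n⁻¹ := by rw [hr', hκ]; group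
      rw [e1, h2, mul_inv_cancel_right]
    have hr'A : r' ∈ A := by
      rw [hr'e]; exact hnA _ (mul_mem (b.eA _) (b.gA _))
    have hκr' : κ * r' = r' * κ := by
      have h1 : k * (e (r ^ 2 * s (n⁻¹ * q * n)) * g (r * s (n⁻¹ * q * n))) =
          (e (r ^ 2 * s (n⁻¹ * q * n)) * g (r * s (n⁻¹ * q * n))) * k := by
        have c1 := cc_r (b.A'C hk) (b.eU' (r ^ 2 * s (n⁻¹ * q * n)))
        have c2 := cc_l (b.A'C hk) (b.gU (r * s (n⁻¹ * q * n)))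
        rw [← mul_assoc, c1, mul_assoc, c2, ← mul_assoc]
      rw [hr'e, hκ]
      calc n * k * n⁻¹ * (n * (e (r ^ 2 * s (n⁻¹ * q * n)) * g (r * s (n⁻¹ * q * n))) * n⁻¹)
          = n * (k * (e (r ^ 2 * s (n⁻¹ * q * n)) * g (r * s (n⁻¹ * q * n)))) * n⁻¹ := by group
        _ = _ := by rw [h1]; group
    -- `k' = [h, κ]`
    set k' := h * κ * h⁻¹ * κ⁻¹ with hk'
    have hhκ : ∀ y ∈ A, h * (κ * y * κ⁻¹) * h⁻¹ = κ * y * κ⁻¹ := fun y hy => fix_of_comm (hhA _ (hκA y hy))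
    have hk'A : ∀ y ∈ A, k' * y = y * k' := by
      intro y hy
      apply comm_of_fix
      have h1 : h⁻¹ * (κ⁻¹ * y * κ) * h = κ⁻¹ * y * κ := fix_of_comm' (hhA _ (hκA' y hy))
      calc k' * y * k'⁻¹ = h * (κ * (h⁻¹ * (κ⁻¹ * y * κ) * h) * κ⁻¹) * h⁻¹ := by rw [hk']; group
        _ = h * y * h⁻¹ := by rw [h1]; group
        _ = y := fix_of_comm (hhA y hy)
    have hk'n : n⁻¹ * k' * n ∈ T ⊓ centralizer (A : Set G) := by
      constructor
      · apply b.OT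
        have h1 : n⁻¹ * h * n ∈ T ⊓ centralizer (A : Set G) := by
          have := (mem_normalizer_iff.1 (inv_mem hnQ) h).1 hh
          rwa [inv_inv] at this
        have h2 : k ∈ o2 (CC U U') := hA'O hk
        have h3 := (mem_normalizer_iff.1 (le_normalizer_o2 (CC U U') (b.QC h1)) k).1 h2
        have e1 : n⁻¹ * k' * n = (n⁻¹ * h * n * k * (n⁻¹ * h * n)⁻¹) * k⁻¹ := by rw [hk', hκ]; group
        rw [e1]
        exact mul_mem h3 (inv_mem h2)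
      · refine mem_centralizer_iff.2 fun y hy => ?_
        have h1 := hk'A _ (hnA y hy)
        calc y * (n⁻¹ * k' * n) = n⁻¹ * (n * y * n⁻¹ * k') * n := by group
          _ = n⁻¹ * (k' * (n * y * n⁻¹)) * n := by rw [h1]
          _ = _ := by group
    have hk'Q : k' ∈ T ⊓ centralizer (A : Set G) := by
      have h1 := (mem_normalizer_iff.1 hnQ _).1 hk'n
      have e1 : n * (n⁻¹ * k' * n) * n⁻¹ = k' := by group
      rwa [e1] at h1
    -- `k'` normalises `W`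
    have hk'W : k' * q * k'⁻¹ ∈ W := by
      rw [memW]
      have h1 : w⁻¹ * k' * w ∈ T := by
        have := (mem_normalizer_iff.1 (inv_mem hwT) k').1 hk'Q.1
        rwa [inv_inv] at this
      have h2 := b.p.s.r.Vn _ (b.TL h1) a haA
      have e1 : w⁻¹ * (k' * q * k'⁻¹) * w = w⁻¹ * k' * w * a * (w⁻¹ * k' * w)⁻¹ := by rw [hq]; group
      rw [e1]; exact h2
    -- the computation
    have hcomp : k' * q * k'⁻¹ = κ * ρ⁻¹ * κ⁻¹ * ρ * q := by
      have c1 : κ⁻¹ * q * κ = r'⁻¹ * q := by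
        have h1 : κ * (r'⁻¹ * q) * κ⁻¹ = q := by
          calc κ * (r'⁻¹ * q) * κ⁻¹ = (κ * r'⁻¹ * κ⁻¹) * (κ * q * κ⁻¹) := by group
            _ = r'⁻¹ * (r' * q) := by
              have h2 : κ * r'⁻¹ * κ⁻¹ = r'⁻¹ := fix_inv (fix_of_comm hκr')
              have h4 : κ * q * κ⁻¹ = r' * q := by rw [hr']; group
              rw [h2, h4]
            _ = q := by group
        calc κ⁻¹ * q * κ = κ⁻¹ * (κ * (r'⁻¹ * q) * κ⁻¹) * κ := by rw [h1]
          _ = _ := by group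
      have c2 : h⁻¹ * q * h = ρ⁻¹ * q := by
        have h1 : h * (ρ⁻¹ * q) * h⁻¹ = q := by
          calc h * (ρ⁻¹ * q) * h⁻¹ = (h * ρ⁻¹ * h⁻¹) * (h * q * h⁻¹) := by group
            _ = ρ⁻¹ * (ρ * q) := by rw [hhq, fix_of_comm (hhA _ (inv_mem hρA))]
            _ = q := by group
        calc h⁻¹ * q * h = h⁻¹ * (h * (ρ⁻¹ * q) * h⁻¹) * h := by rw [h1]
          _ = _ := by group
      have c3 : κ * q * κ⁻¹ = r' * q := by rw [hr']; group
      have c4 : h⁻¹ * r'⁻¹ * h = r'⁻¹ := fix_of_comm' (hhA _ (inv_mem hr'A))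
      have c5 : κ * r'⁻¹ * κ⁻¹ = r'⁻¹ := fix_inv (fix_of_comm hκr')
      have hκρ : κ * ρ⁻¹ * κ⁻¹ ∈ A := hκA _ (inv_mem hρA)
      calc k' * q * k'⁻¹ = h * (κ * (h⁻¹ * (κ⁻¹ * q * κ) * h) * κ⁻¹) * h⁻¹ := by rw [hk']; group
        _ = h * (κ * ((h⁻¹ * r'⁻¹ * h) * (h⁻¹ * q * h)) * κ⁻¹) * h⁻¹ := by rw [c1]; group
        _ = h * (κ * (r'⁻¹ * (ρ⁻¹ * q)) * κ⁻¹) * h⁻¹ := by rw [c4, c2]
        _ = h * ((κ * r'⁻¹ * κ⁻¹) * (κ * ρ⁻¹ * κ⁻¹) * (κ * q * κ⁻¹)) * h⁻¹ := by group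
        _ = h * (r'⁻¹ * (κ * ρ⁻¹ * κ⁻¹) * (r' * q)) * h⁻¹ := by rw [c5, c3]
        _ = h * (r'⁻¹ * ((κ * ρ⁻¹ * κ⁻¹) * r') * q) * h⁻¹ := by group
        _ = h * ((κ * ρ⁻¹ * κ⁻¹) * q) * h⁻¹ := by rw [b.Ac hκρ hr'A]; group
        _ = (h * (κ * ρ⁻¹ * κ⁻¹) * h⁻¹) * (h * q * h⁻¹) := by group
        _ = (κ * ρ⁻¹ * κ⁻¹) * (ρ * q) := by rw [hhq, fix_of_comm (hhA _ hκρ)]
        _ = _ := by group
    have hqW : q ∈ W := hwW a haA
    have h1 : κ * ρ⁻¹ * κ⁻¹ * ρ ∈ W := by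
      have h2 : κ * ρ⁻¹ * κ⁻¹ * ρ * q ∈ W := by rw [← hcomp]; exact hk'W
      have h3 := mul_mem h2 (inv_mem hqW)
      rwa [mul_inv_cancel_right] at h3
    -- remove the `g`-part
    have hκg : ∀ y, κ * g y * κ⁻¹ = g y := by
      intro y
      apply fix_of_comm
      have c1 := cc_l (b.A'C hk) (b.gU y)
      have c2 := hn.cen _ (b.gU y)
      have c3 : n⁻¹ * g y = g y * n⁻¹ := by
        calc n⁻¹ * g y = n⁻¹ * (g y * n) * n⁻¹ := by group
          _ = n⁻¹ * (n * g y) * n⁻¹ := by rw [c2]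
          _ = _ := by group
      rw [hκ]
      calc n * k * n⁻¹ * g y = n * k * (n⁻¹ * g y) := by group
        _ = n * (k * g y) * n⁻¹ := by rw [c3]; group
        _ = (n * g y) * k * n⁻¹ := by rw [c1]; group
        _ = _ := by rw [c2]; group
    have h2 : κ * ρ⁻¹ * κ⁻¹ * ρ = κ * (e z)⁻¹ * κ⁻¹ * e z := by
      have c1 := hκg (t * (z / t ^ 2))
      have c2 : κ * (g (t * (z / t ^ 2)))⁻¹ * κ⁻¹ = (g (t * (z / t ^ 2)))⁻¹ := fix_inv c1
      calc κ * ρ⁻¹ * κ⁻¹ * ρ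
          = (κ * (g (t * (z / t ^ 2)))⁻¹ * κ⁻¹) * (κ * (e z)⁻¹ * κ⁻¹) * (e z * g (t * (z / t ^ 2))) := by
            rw [hρ]; group
        _ = (g (t * (z / t ^ 2)))⁻¹ * ((κ * (e z)⁻¹ * κ⁻¹ * e z) * g (t * (z / t ^ 2))) := by rw [c2]; group
        _ = _ := by
          rw [b.Ac (mul_mem (hκA _ (inv_mem (b.eA z))) (b.eA z)) (b.gA _)]
          group
    rwa [h2] at h1
  -- `n e(F) n⁻¹ ≤ W`
  have hneW : ∀ z, n * e z * n⁻¹ ∈ W := by
    intro z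
    obtain ⟨k, hk, hkI⟩ := b.exists_n 1
    have h1 := key k hk z
    have hvz : n⁻¹ * (e z)⁻¹ * n ∈ A := hnA' _ (inv_mem (b.eA z))
    have h2 := b.act_n hkI hvz
    have h3 : π (n⁻¹ * (e z)⁻¹ * n) 0 = z := by
      rw [b.pi_n' hn (inv_mem (b.eA z)), b.p.s.r.map_inv (b.eA z), b.p.φ.eπ]
      simp
    rw [h3, one_pow, one_mul] at h2
    have e1 : n * k * n⁻¹ * (e z)⁻¹ * (n * k * n⁻¹)⁻¹ * e z = n * (k * (n⁻¹ * (e z)⁻¹ * n) * k⁻¹) * n⁻¹ * e z := by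
      group
    rw [e1, h2] at h1
    have e2 : n * (e z * g z * (n⁻¹ * (e z)⁻¹ * n)) * n⁻¹ * e z = (n * e z * n⁻¹) * (n * g z * n⁻¹) := by group
    have e3 : n * g z * n⁻¹ = g z := fix_of_comm (hn.cen _ (b.gU z))
    rw [e2, e3] at h1
    have h4 := mul_mem h1 (inv_mem (hUW (b.gU z)))
    rwa [mul_inv_cancel_right] at h4
  have hAW : A ≤ W := b.A_le hn heW hneW hUW
  have hAW' : A = W := Subgroup.eq_of_le_of_card_ge hAW (by rw [hW, Omega.BTwo.card_cj])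
  have h1 : w * v * w⁻¹ ∈ A := by rw [hAW']; exact hwW v hv
  exact hhA _ h1

/-! ### (9b) -/

section nineB

variable [Finite F] (b : Base T T' L L' A A' U U' π π' e f g e' f' g') (c : Core T L A A' U U' π e g s)

include b c in
/-- `ker s = C_UU(A')` -/
theorem s_zero {u : G} (hu : u ∈ UG A U) : s u = 0 ↔ ∀ k ∈ A', k * u = u * k := by
  constructor
  · intro h0 k hk
    obtain ⟨β, hβ⟩ := b.p.s.typ k hk
    obtain ⟨r, rfl⟩ := b.p.sq β
    have h1 := c.s_act r k hk hβ u hu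
    rw [h0, mul_zero, mul_zero, b.p.φ.e0, b.p.φ.g0, one_mul, one_mul] at h1
    exact comm_of_fix h1
  · intro h
    obtain ⟨k, hk, hkI⟩ := b.exists_n 1
    have h1 := c.s_act 1 k hk hkI u hu
    rw [h k hk, mul_inv_cancel_right, one_pow, one_mul] at h1
    have h2 : e 0 * g 0 = e (s u) * g (s u) := by
      rw [b.p.φ.e0, b.p.φ.g0, mul_one]
      exact (right_eq_mul.1 h1).symm
    exact (b.p.φ.eg_inj b.p.s.r h2).1.symm

/-- `C_UU(X)`, `X = ⟨A', n⁻¹ A' n⟩` -/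
def K0 (A A' U : Subgroup G) (n : G) : Subgroup G :=
  UG A U ⊓ centralizer (A' : Set G) ⊓ centralizer ((Omega.BTwo.cj n⁻¹ A' : Subgroup G) : Set G)

theorem mem_K0 {n u : G} : u ∈ K0 A A' U n ↔ u ∈ UG A U ∧ (∀ k ∈ A', k * u = u * k) ∧
    ∀ k ∈ A', (n⁻¹ * k * n) * u = u * (n⁻¹ * k * n) := by
  unfold K0
  rw [mem_inf, mem_inf, mem_centralizer_iff, mem_centralizer_iff]
  constructor
  · rintro ⟨⟨h1, h2⟩, h3⟩
    refine ⟨h1, fun k hk => h2 k hk, fun k hk => h3 _ ?_⟩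
    have := Omega.BTwo.conj_mem_cj (g := n⁻¹) hk
    rwa [inv_inv] at this
  · rintro ⟨h1, h2, h3⟩
    refine ⟨⟨h1, fun k hk => h2 k hk⟩, fun y hy => ?_⟩
    have h4 := Omega.BTwo.mem_cj.1 hy
    rw [inv_inv] at h4
    have h5 := h3 _ h4
    have e1 : n⁻¹ * (n * y * n⁻¹) * n = y := by group
    rwa [e1] at h5

include b c in
/-- `K0` by coordinates -/
theorem mem_K0_iff {n : G} (hn : Is L A U π n (wm 1 one_ne_zero)) {u : G} (hu : u ∈ UG A U) :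
    u ∈ K0 A A' U n ↔ s u = 0 ∧ s (n * u * n⁻¹) = 0 := by
  have hnM : n ∈ centralizer (U : Set G) := mem_centralizer_iff.2 fun u hu => (hn.cen u hu).symm
  rw [mem_K0, s_zero b c hu, s_zero b c (c.MU n hnM u hu)]
  constructor
  · rintro ⟨-, h1, h2⟩
    refine ⟨h1, fun k hk => ?_⟩
    have h3 := h2 k hk
    calc k * (n * u * n⁻¹) = n * (n⁻¹ * k * n * u) * n⁻¹ := by group
      _ = n * (u * (n⁻¹ * k * n)) * n⁻¹ := by rw [h3]
      _ = _ := by group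
  · rintro ⟨h1, h2⟩
    refine ⟨hu, h1, fun k hk => ?_⟩
    have h3 := h2 k hk
    calc n⁻¹ * k * n * u = n⁻¹ * (k * (n * u * n⁻¹)) * n := by group
      _ = n⁻¹ * (n * u * n⁻¹ * k) * n := by rw [h3]
      _ = _ := by group

include b c in
/-- (9b): an element of `UU` is `e x · k` modulo `A`, `k ∈ K0` -/
theorem dec_ker {n : G} (hn : Is L A U π n (wm 1 one_ne_zero)) {u : G} (hu : u ∈ UG A U) (h0 : s u = 0) :
    ∃ z : F, (e z)⁻¹ * u ∈ K0 A A' U n := by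
  have hnM : n ∈ centralizer (U : Set G) := mem_centralizer_iff.2 fun u hu => (hn.cen u hu).symm
  refine ⟨s (n * u * n⁻¹), ?_⟩
  have h1 := c.MU n hnM u hu
  set z := s (n * u * n⁻¹) with hz
  have heU : (e z)⁻¹ ∈ UG A U := c.AU (inv_mem (b.eA z))
  have h2 : (e z)⁻¹ * u ∈ UG A U := mul_mem heU hu
  rw [mem_K0_iff b c hn h2, c.s_add _ heU _ hu, h0, c.s_A _ (inv_mem (b.eA z)), b.p.s.r.map_inv (b.eA z), b.p.φ.eπ]
  refine ⟨by simp, ?_⟩
  have hne : n * (e z)⁻¹ * n⁻¹ ∈ A := b.p.s.r.Vn n hn.mem _ (inv_mem (b.eA z))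
  have e1 : n * ((e z)⁻¹ * u) * n⁻¹ = (n * (e z)⁻¹ * n⁻¹) * (n * u * n⁻¹) := by group
  rw [e1, c.s_add _ (c.AU hne) _ h1, ← hz, c.s_A _ hne, b.pi_n hn (inv_mem (b.eA z)), b.p.s.r.map_inv (b.eA z),
    b.p.φ.eπ]
  simp

end nineB

end Cfsg.Agent.Omega.IId.Ns

end

section


/-!
# II.d, `k = 2`, nonsplit: `C_T(U) = C_T(U U')`; Burnside's argument modulo a normal subgroup
-/

set_option autoImplicit false
set_option linter.unusedSectionVars false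

namespace Cfsg.Agent.Omega.IId.Ns

open Subgroup Cfsg Cfsg.Agent.ZN Cfsg.Agent.Lib.SL2Mat
open Cfsg.Agent.Omega.HOne.NSMod Cfsg.Agent.Omega.HOne.NSSide Cfsg.Agent.Omega.HOne.NSPair Cfsg.Agent.Omega.HOne.NSDat
open Cfsg.Agent.Omega.NatPair (ap ap_add ap_mul ap_one ap_inj ext2 ap_zero' ap_one' ap_inv_ap ap_ap_inv)
open Cfsg.Agent.Omega.BTwo (cj mem_cj conj_mem_cj card_cj cj_mul isPGroup_cj)

universe u

variable {G : Type u} [Group G] {F : Type} [Field F]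
  {T T' L L' A A' U U' : Subgroup G} {π π' : G → Fin 2 → F} {e f g e' f' g' : F → G} {s : G → F}

/-- `t ∈ T` centralising `g(F)` centralises `e(F)` -/
theorem cen_e [Finite G] [Finite F] (b : Base T T' L L' A A' U U' π π' e f g e' f' g') {t : G} (ht : t ∈ T)
    (hc : ∀ y, t * g y = g y * t) (z : F) : t * e z = e z * t := by
  have htL := b.TL ht
  have hgi : ∀ y y', g y = g y' → y = y' := by
    intro y y' h
    have h1 := b.p.φ.g_add (y - y') y'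
    rw [sub_add_cancel, h] at h1
    exact sub_eq_zero.1 (b.g1 _ (right_eq_mul.1 h1))
  obtain ⟨a, ha, haI⟩ := b.exists_n 1
  -- the conjugate of `a`
  obtain ⟨B, hB⟩ := b.p.s.r.is_conj htL haI
  obtain ⟨b', rfl⟩ := b.p.s.fz _ (mul_mem (mul_mem ht (b.A'T ha)) (inv_mem ht)) B hB
  obtain ⟨κ, rfl⟩ := b.p.sq b'
  have key : ∀ x : F, ∃ ζ x', t * e x * t⁻¹ = e ζ ∧ ζ = κ ^ 2 * x' ∧ x = κ * x' := by
    intro x
    obtain ⟨ζ, hζ⟩ := b.p.norm_e b.g1 ht x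
    have hv : t * f x * t⁻¹ ∈ A := b.p.s.r.Vn t htL _ (b.fA x)
    refine ⟨ζ, π (t * f x * t⁻¹) 0, hζ, ?_⟩
    have h1 := b.act_n haI (b.fA x)
    have h2 := b.act_n hB hv
    have hf : π (f x) 0 = x := by rw [b.p.φ.fπ]; rfl
    rw [hf, one_pow, one_mul] at h1
    have e1 : t * a * t⁻¹ * (t * f x * t⁻¹) * (t * a * t⁻¹)⁻¹ = (t * e x * t⁻¹) * (t * g x * t⁻¹) * (t * f x * t⁻¹) := by
      calc t * a * t⁻¹ * (t * f x * t⁻¹) * (t * a * t⁻¹)⁻¹ = t * (a * f x * a⁻¹) * t⁻¹ := by group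
        _ = _ := by rw [h1]; group
    rw [e1, hζ, fix_of_comm (hc x)] at h2
    obtain ⟨h3, h4⟩ := b.p.φ.eg_inj b.p.s.r (mul_right_cancel h2)
    exact ⟨h3, hgi _ _ h4⟩
  have hκ : κ ≠ 0 := by
    rintro rfl
    obtain ⟨_, x', -, -, h⟩ := key 1
    rw [zero_mul] at h
    exact one_ne_zero h
  have key2 : ∀ x : F, t * e x * t⁻¹ = e (κ * x) := by
    intro x
    obtain ⟨ζ, x', h1, h2, h3⟩ := key x
    rw [h1, h2, h3]
    congr 1; ring
  have hpow : ∀ (k : ℕ) (x : F), t ^ k * e x * (t ^ k)⁻¹ = e (κ ^ k * x) := by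
    intro k
    induction k with
    | zero => intro x; simp
    | succ k ih =>
      intro x
      have e1 : t ^ (k + 1) * e x * (t ^ (k + 1))⁻¹ = t ^ k * (t * e x * t⁻¹) * (t ^ k)⁻¹ := by
        rw [pow_succ]; group
      rw [e1, key2, ih, pow_succ, mul_assoc]
  obtain ⟨k, hk⟩ := b.T2 ⟨t, ht⟩
  have hk' : t ^ 2 ^ k = 1 := congrArg Subtype.val hk
  have h1 := hpow (2 ^ k) 1
  rw [hk', one_mul, inv_one, mul_one, mul_one] at h1
  have h2 := b.p.φ.e_inj b.p.s.r h1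
  have h3 : κ = 1 := by
    have two := b.p.s.r.two
    have : CharP F 2 := CharTwo.of_one_ne_zero_of_two_eq_zero one_ne_zero two
    have h4 : (κ - 1) ^ 2 ^ k = 0 := by
      rw [sub_pow_char_pow, ← h2, one_pow, sub_self]
    exact sub_eq_zero.1 (pow_eq_zero_iff (pow_ne_zero k two_ne_zero) |>.1 h4)
  have h5 := key2 z
  rw [h3, one_mul] at h5
  exact comm_of_fix h5

/-- A 2-subgroup of `C` is conjugate in `C` into a Sylow 2-subgroup of `C`. -/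
theorem exists_conj_le_syl [Finite G] {C T X : Subgroup G} (hX : X ≤ C) (hTp : IsPGroup 2 T)
    (hXp : IsPGroup 2 X) (hidx : ¬ 2 ∣ T.relIndex C) : ∃ c ∈ C, cj c X ≤ T := by
  have : Fact (Nat.Prime 2) := ⟨Nat.prime_two⟩
  have hS' : IsPGroup 2 (T.subgroupOf C) := hTp.comap_of_injective C.subtype Subtype.val_injective
  have hX' : IsPGroup 2 (X.subgroupOf C) := hXp.comap_of_injective C.subtype Subtype.val_injective
  obtain ⟨Q, hQ⟩ := hX'.exists_le_sylow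
  obtain ⟨c, hc⟩ := MulAction.exists_smul_eq C Q (hS'.toSylow hidx)
  refine ⟨c, c.2, ?_⟩
  rintro _ ⟨y, hy, rfl⟩
  have h1 : (⟨y, hX hy⟩ : C) ∈ (Q : Subgroup C) := hQ (Subgroup.mem_subgroupOf.2 hy)
  have h2 : c * ⟨y, hX hy⟩ * c⁻¹ ∈ ((c • Q : Sylow 2 C) : Subgroup C) := by
    rw [Sylow.coe_subgroup_smul, mem_pointwise_smul_iff_inv_smul_mem]
    have e3 : (MulAut.conj c)⁻¹ • (c * ⟨y, hX hy⟩ * c⁻¹) = ⟨y, hX hy⟩ := by
      rw [← map_inv, MulAut.smul_def, MulAut.conj_apply]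
      group
    rw [e3]
    exact h1
  rw [hc] at h2
  exact h2

/-- **Burnside's argument modulo `K`**: `P` Sylow in `H`, abelian modulo `K`, `h x h⁻¹ ≡ y`: then `m x m⁻¹ ≡ y` for some `m ∈ N_H(P)`. -/
theorem burn [Finite G] {H K P : Subgroup G} (hPH : P ≤ H) (hP : IsPGroup 2 P) (hs : ¬ 2 ∣ P.relIndex H)
    (hKn : H ≤ normalizer (K : Set G)) (hab : ∀ x ∈ P, ∀ y ∈ P, x * y * x⁻¹ * y⁻¹ ∈ K) {x y h : G} (hx : x ∈ P)
    (hy : y ∈ P) (hh : h ∈ H) (hxy : h * x * h⁻¹ * y⁻¹ ∈ K) :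
    ∃ m ∈ H, (∀ z ∈ P, m * z * m⁻¹ ∈ P) ∧ m * x * m⁻¹ * y⁻¹ ∈ K := by
  have hcK : ∀ c ∈ H, ∀ k ∈ K, c * k * c⁻¹ ∈ K := fun c hc k hk => (mem_normalizer_iff.1 (hKn hc) k).1 hk
  let C : Subgroup G :=
    { carrier := {c | c ∈ H ∧ c * y * c⁻¹ * y⁻¹ ∈ K}
      one_mem' := ⟨one_mem _, by simp⟩
      mul_mem' := by
        rintro c d ⟨hc, hc'⟩ ⟨hd, hd'⟩
        refine ⟨mul_mem hc hd, ?_⟩
        have e1 : c * d * y * (c * d)⁻¹ * y⁻¹ = c * (d * y * d⁻¹ * y⁻¹) * c⁻¹ * (c * y * c⁻¹ * y⁻¹) := by group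
        rw [e1]
        exact mul_mem (hcK c hc _ hd') hc'
      inv_mem' := by
        rintro c ⟨hc, hc'⟩
        refine ⟨inv_mem hc, ?_⟩
        have h1 := inv_mem (hcK c⁻¹ (inv_mem hc) _ hc')
        have e1 : (c⁻¹ * (c * y * c⁻¹ * y⁻¹) * c⁻¹⁻¹)⁻¹ = c⁻¹ * y * c * y⁻¹ := by group
        rw [e1] at h1
        rw [inv_inv]; exact h1 }
  have hCH : C ≤ H := fun c hc => hc.1
  have hPC : P ≤ C := fun z hz => ⟨hPH hz, hab z hz y hy⟩
  have hPC' : cj h P ≤ C := by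
    rintro _ ⟨z, hz, rfl⟩
    refine ⟨mul_mem (mul_mem hh (hPH hz)) (inv_mem hh), ?_⟩
    change h * z * h⁻¹ * y * (h * z * h⁻¹)⁻¹ * y⁻¹ ∈ K
    -- `y ≡ h x h⁻¹`
    obtain ⟨κ, hκ⟩ : ∃ κ, κ = h * x * h⁻¹ * y⁻¹ := ⟨_, rfl⟩
    have hκK : κ ∈ K := by rw [hκ]; exact hxy
    have e2 : y = κ⁻¹ * (h * x * h⁻¹) := by rw [hκ]; group
    set d := h * z * h⁻¹ with hd
    have hdH : d ∈ H := mul_mem (mul_mem hh (hPH hz)) (inv_mem hh)
    have e3 : d * y * d⁻¹ * y⁻¹ = (d * κ⁻¹ * d⁻¹) * ((h * (z * x * z⁻¹ * x⁻¹) * h⁻¹) * κ) := by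
      rw [e2, hd]; group
    rw [e3]
    exact mul_mem (hcK d hdH _ (inv_mem hκK)) (mul_mem (hcK h hh _ (hab z hz x hx)) hκK)
  have hsC : ¬ 2 ∣ P.relIndex C := by
    intro h1
    apply hs
    rw [← relIndex_mul_relIndex P C H hPC hCH]
    exact h1.mul_right _
  obtain ⟨c, hc, hcP⟩ := exists_conj_le_syl hPC' hP (isPGroup_cj hP) hsC
  refine ⟨c * h, mul_mem hc.1 hh, fun z hz => ?_, ?_⟩
  · have h1 := hcP (conj_mem_cj (g := c) (conj_mem_cj (g := h) hz))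
    have e1 : c * h * z * (c * h)⁻¹ = c * (h * z * h⁻¹) * c⁻¹ := by group
    rw [e1]; exact h1
  · have e1 : c * h * x * (c * h)⁻¹ * y⁻¹ = (c * (h * x * h⁻¹ * y⁻¹) * c⁻¹) * (c * y * c⁻¹ * y⁻¹) := by group
    rw [e1]
    exact mul_mem (hcK c hc.1 _ hxy) hc.2

end Cfsg.Agent.Omega.IId.Ns

end

section


/-!
# II.d, `k = 2`, nonsplit: (10), the end

`end_lemma` : `Sh` a Sylow 2-subgroup of `C = C_G(U U')` acting on `A` as `A'`, `T' ∩ C ≤ Sh` (up to a conjugation in `C`)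
of index at most 2, `Half L' A'`, `C_T'(A')` nonabelian: contradiction.
-/

set_option autoImplicit false
set_option linter.unusedSectionVars false
set_option linter.unusedVariables false

namespace Cfsg.Agent.Omega.IId.Ns

open Subgroup Cfsg Cfsg.Agent.ZN Cfsg.Agent.Lib.SL2Mat
open Cfsg.Agent.Omega.HOne.NSMod Cfsg.Agent.Omega.HOne.NSSide Cfsg.Agent.Omega.HOne.NSPair Cfsg.Agent.Omega.HOne.NSDat
open Cfsg.Agent.Omega.NatPair (ap ap_add ap_mul ap_one ap_inj ext2 ap_zero' ap_one' ap_inv_ap ap_ap_inv)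
open Cfsg.Agent.MinSimple.VModule (le_normalizer_o2 zc_comm zc_sq zc_le o2_isPGroup o2_le_of_sylow le_o2
  normalizer_le_normalizer_zc)
open Cfsg.Agent.Omega.BTwo (conj_mem_cj mem_cj card_cj mem_normalizer_of_conj)
open scoped commutatorElement

universe u

variable {G : Type u} [Group G] {F : Type} [Field F]

namespace EndL

/-! ### Tools -/

/-- Sylow's theorem in `N`, for a subgroup `T` with `|N : T|` odd. -/
theorem conj_into [Finite G] {N T X : Subgroup G} (hT : IsPGroup 2 T) (hd : ¬ 2 ∣ T.relIndex N)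
    (hX : IsPGroup 2 X) (hXN : X ≤ N) : ∃ c ∈ N, ∀ x ∈ X, c * x * c⁻¹ ∈ T := by
  have : Fact (Nat.Prime 2) := ⟨Nat.prime_two⟩
  have hX' : IsPGroup 2 (X.subgroupOf N) := hX.comap_subtype
  obtain ⟨S2, hS2⟩ := hX'.exists_le_sylow
  obtain ⟨c, hc⟩ := MulAction.exists_smul_eq N S2
    ((hT.comap_of_injective _ N.subtype_injective).toSylow hd)
  refine ⟨c, c.2, fun x hx => ?_⟩
  have h1 : (⟨x, hXN hx⟩ : N) ∈ (S2 : Subgroup N) := hS2 (Subgroup.mem_subgroupOf.mpr hx)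
  have h2 : c * ⟨x, hXN hx⟩ * c⁻¹ ∈ ((c • S2 : Sylow 2 N) : Subgroup N) := by
    rw [Sylow.coe_subgroup_smul]
    exact Subgroup.smul_mem_pointwise_smul _ (MulAut.conj c) _ h1
  rw [hc] at h2
  exact mem_subgroupOf.1 h2

/-- a relation between group elements and matrices compatible with the operations -/
structure Mult (R : G → Matrix.SpecialLinearGroup (Fin 2) F → Prop) : Prop where
  one : R 1 1
  mul : ∀ x y A B, R x A → R y B → R (x * y) (A * B)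
  inv : ∀ x A, R x A → R x⁻¹ A⁻¹

/-- the matrices induced by a subgroup -/
def Mult.grp {R : G → Matrix.SpecialLinearGroup (Fin 2) F → Prop} (h : Mult R) (W : Subgroup G) :
    Subgroup (Matrix.SpecialLinearGroup (Fin 2) F) where
  carrier := {A | ∃ w ∈ W, R w A}
  one_mem' := ⟨1, one_mem _, h.one⟩
  mul_mem' := by
    rintro A B ⟨x, hx, hA⟩ ⟨y, hy, hB⟩
    exact ⟨_, mul_mem hx hy, h.mul _ _ _ _ hA hB⟩
  inv_mem' := by
    rintro A ⟨x, hx, hA⟩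
    exact ⟨_, inv_mem hx, h.inv _ _ hA⟩

theorem eq_top_of_up_lo {K : Subgroup (Matrix.SpecialLinearGroup (Fin 2) F)} (h1 : ∀ b, lo b ∈ K)
    (h2 : ∀ b, up b ∈ K) (A : Matrix.SpecialLinearGroup (Fin 2) F) : A ∈ K := by
  obtain ⟨a, b, c, d, rfl⟩ := exists_up_lo A
  exact mul_mem (mul_mem (mul_mem (h2 _) (h1 _)) (h2 _)) (h1 _)

/-- a subgroup inducing `SL₂(F)` contains a perfect one -/
theorem exists_perfect [Finite G] {R : G → Matrix.SpecialLinearGroup (Fin 2) F → Prop} (h : Mult R)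
    (hω : ∃ ω : F, ω ≠ 0 ∧ ω ^ 2 ≠ 1) : ∀ (n : ℕ) (W : Subgroup G), Nat.card W = n → (∀ A, ∃ w ∈ W, R w A) →
    ∃ Y : Subgroup G, Y ≤ W ∧ ⁅Y, Y⁆ = Y ∧ ∀ A, ∃ y ∈ Y, R y A := by
  intro n
  induction n using Nat.strong_induction_on with
  | _ n ih =>
    intro W hn hW
    by_cases hp : ⁅W, W⁆ = W
    · exact ⟨W, le_rfl, hp, hW⟩
    have hle : ⁅W, W⁆ ≤ W := commutator_le_self W
    have hlt : Nat.card ↥⁅W, W⁆ < n := by
      rw [← hn]
      by_contra hc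
      exact hp (eq_of_le_of_card_ge hle (not_lt.1 hc))
    obtain ⟨ω, h0, h1⟩ := hω
    have hcm : ∀ A B, A * B * A⁻¹ * B⁻¹ ∈ h.grp ⁅W, W⁆ := by
      intro A B
      obtain ⟨x, hx, hA⟩ := hW A
      obtain ⟨y, hy, hB⟩ := hW B
      exact ⟨x * y * x⁻¹ * y⁻¹, commutator_mem_commutator hx hy,
        h.mul _ _ _ _ (h.mul _ _ _ _ (h.mul _ _ _ _ hA hB) (h.inv _ _ hA)) (h.inv _ _ hB)⟩
    have hω2 : ω ^ 2 - 1 ≠ 0 := sub_ne_zero.2 h1
    have hω3 : ω⁻¹ ^ 2 - 1 ≠ 0 := by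
      intro hc
      apply h1
      have h2 := sub_eq_zero.1 hc
      rw [inv_pow, inv_eq_one] at h2
      exact h2
    obtain ⟨Y, hY, h2, h3⟩ := ih _ hlt ⁅W, W⁆ rfl (fun A => by
      refine eq_top_of_up_lo (K := h.grp ⁅W, W⁆) (fun b => ?_) (fun b => ?_) A
      · have h2 := hcm (dg ω h0) (lo (b / (ω⁻¹ ^ 2 - 1)))
        have e1 : dg ω h0 * lo (b / (ω⁻¹ ^ 2 - 1)) * (dg ω h0)⁻¹ * (lo (b / (ω⁻¹ ^ 2 - 1)))⁻¹ = lo b := by
          have e2 : dg ω h0 * lo (b / (ω⁻¹ ^ 2 - 1)) * (dg ω h0)⁻¹ = lo (ω⁻¹ ^ 2 * (b / (ω⁻¹ ^ 2 - 1))) := by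
            rw [mul_inv_eq_iff_eq_mul]
            apply ext_ent <;> simp [ent_mul]
            field_simp
          rw [e2, lo_inv, lo_mul]
          congr 1
          field_simp
          ring
        rwa [e1] at h2
      · have h2 := hcm (dg ω h0) (up (b / (ω ^ 2 - 1)))
        have e1 : dg ω h0 * up (b / (ω ^ 2 - 1)) * (dg ω h0)⁻¹ * (up (b / (ω ^ 2 - 1)))⁻¹ = up b := by
          rw [dg_up, mul_inv_cancel_right, up_inv, up_mul]
          congr 1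
          field_simp
          ring
        rwa [e1] at h2)
    exact ⟨Y, hY.trans hle, h2, h3⟩

/-- a perfect group acts trivially on `Q / J`, `|Q : J| ≤ 4` -/
theorem comm_le_of_four [Finite G] {Q J Y : Subgroup G} (hY : ⁅Y, Y⁆ = Y)
    (hYQ : ∀ y ∈ Y, ∀ q ∈ Q, y * q * y⁻¹ ∈ Q) (hYJ : ∀ y ∈ Y, ∀ q ∈ J, y * q * y⁻¹ ∈ J)
    (h4 : J.relIndex Q ≤ 4) : ∀ y ∈ Y, ∀ q ∈ Q, q⁻¹ * (y * q * y⁻¹) ∈ J := by
  let act : MulAction Y (Q ⧸ J.subgroupOf Q) :=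
    { smul := fun y => Quotient.map' (fun q : Q => (⟨y * q * (y : G)⁻¹, hYQ y y.2 q q.2⟩ : Q)) (by
        intro a b hab
        rw [QuotientGroup.leftRel_apply, mem_subgroupOf] at hab ⊢
        have h1 := hYJ y y.2 _ hab
        have e1 : ((⟨y * a * (y : G)⁻¹, hYQ y y.2 a a.2⟩ : Q)⁻¹ * ⟨y * b * (y : G)⁻¹, hYQ y y.2 b b.2⟩ : Q) =
            (y : G) * ((a⁻¹ * b : Q) : G) * (y : G)⁻¹ := by
          push_cast
          group
        rw [e1]; exact h1)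
      one_smul := by
        intro x
        induction x using Quotient.inductionOn' with
        | _ q =>
          change Quotient.mk'' _ = Quotient.mk'' _
          congr 1
          apply Subtype.ext
          change ((1 : Y) : G) * q * ((1 : Y) : G)⁻¹ = q
          rw [Subgroup.coe_one, one_mul, inv_one, mul_one]
      mul_smul := by
        intro y z x
        induction x using Quotient.inductionOn' with
        | _ q =>
          change Quotient.mk'' _ = Quotient.mk'' _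
          congr 1
          apply Subtype.ext
          change ((y * z : Y) : G) * q * ((y * z : Y) : G)⁻¹ = y * (z * q * (z : G)⁻¹) * (y : G)⁻¹
          rw [Subgroup.coe_mul]
          group }
  intro y hy q hq
  have h1 := Schreier.Tools.perm_eq_one hY (α := Q ⧸ J.subgroupOf Q) h4 (MulAction.toPermHom Y _) ⟨y, hy⟩
    (QuotientGroup.mk ⟨q, hq⟩)
  have h2 : (QuotientGroup.mk (⟨y * q * y⁻¹, hYQ y hy q hq⟩ : Q) : Q ⧸ J.subgroupOf Q) = QuotientGroup.mk ⟨q, hq⟩ := h1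
  have h3 := QuotientGroup.eq.1 h2.symm
  rw [mem_subgroupOf] at h3
  exact h3

/-- a perfect group acts trivially on `Q / A` if it does on `J / A`, `|Q : J| ≤ 4` -/
theorem comm_le_mod [Finite G] {Q J Y A : Subgroup G} (hY : ⁅Y, Y⁆ = Y) (hQA : Q ≤ normalizer (A : Set G))
    (hYA : Y ≤ normalizer (A : Set G)) (hAJ : A ≤ J) (hYQ : ∀ y ∈ Y, ∀ q ∈ Q, y * q * y⁻¹ ∈ Q)
    (hJ : ∀ y ∈ Y, ∀ q ∈ J, y * q * y⁻¹ * q⁻¹ ∈ A) (hQJ : ∀ q ∈ Q, ∀ j ∈ J, q * j * q⁻¹ ∈ J)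
    (h4 : J.relIndex Q ≤ 4) : ∀ y ∈ Y, ∀ q ∈ Q, y * q * y⁻¹ * q⁻¹ ∈ A := by
  have hYJ : ∀ y ∈ Y, ∀ q ∈ J, y * q * y⁻¹ ∈ J := by
    intro y hy q hq
    have h1 := mul_mem (hAJ (hJ y hy q hq)) hq
    rwa [inv_mul_cancel_right] at h1
  have h1 := comm_le_of_four hY hYQ hYJ h4
  have h2 : ⁅Y, Q⁆ ≤ J := by
    rw [commutator_le]
    intro y hy q hq
    have h3 := hQJ q hq _ (h1 y hy q hq)
    have e1 : q * (q⁻¹ * (y * q * y⁻¹)) * q⁻¹ = ⁅y, q⁆ := by rw [commutatorElement_def]; group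
    rwa [e1] at h3
  have h3 : ⁅J, Y⁆ ≤ A := by
    rw [commutator_comm, commutator_le]
    intro y hy j hj
    exact hJ y hy j hj
  have h4 : ⁅⁅Y, Q⁆, Y⁆ ≤ A := (commutator_mono h2 le_rfl).trans h3
  have h5 : ⁅⁅Y, Y⁆, Q⁆ ≤ A := by
    refine SignalizersComponents.PerfectGoingUp.three_subgroups_mod hYA hYA hQA h4 ?_
    rwa [commutator_comm Q Y]
  rw [hY] at h5
  intro y hy q hq
  exact h5 (commutator_mem_commutator hy hq)

/-! ### The action of `⟨cj c₀ A', ...⟩` on `A` -/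

section like

variable {T T' L L' A A' U U' : Subgroup G} {π π' : G → Fin 2 → F} {e f g e' f' g' : F → G} {s : G → F}

/-- `w` acts on `A` as an element of `L` inducing `M` -/
def Like (L A U : Subgroup G) (π : G → Fin 2 → F) (w : G) (M : Matrix.SpecialLinearGroup (Fin 2) F) : Prop :=
  ∃ x, Is L A U π x M ∧ ∀ v ∈ A, w * v * w⁻¹ = x * v * x⁻¹

theorem like_mult (r : Rig L A U π) : Mult (Like L A U π) where
  one := ⟨1, r.is_one, fun _ _ => rfl⟩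
  mul := by
    rintro w w' M M' ⟨x, hx, h⟩ ⟨x', hx', h'⟩
    refine ⟨x * x', r.is_mul hx hx', fun v hv => ?_⟩
    have e1 : w * w' * v * (w * w')⁻¹ = w * (w' * v * w'⁻¹) * w⁻¹ := by group
    rw [e1, h' v hv, h _ (r.Vn x' hx'.mem v hv)]
    group
  inv := by
    rintro w M ⟨x, hx, h⟩
    refine ⟨x⁻¹, r.is_inv hx, fun v hv => ?_⟩
    have h1 := h _ (r.Vn x⁻¹ (inv_mem hx.mem) v hv)
    have e1 : x * (x⁻¹ * v * x⁻¹⁻¹) * x⁻¹ = v := by group
    rw [e1] at h1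
    calc w⁻¹ * v * w⁻¹⁻¹ = w⁻¹ * (w * (x⁻¹ * v * x⁻¹⁻¹) * w⁻¹) * w := by rw [h1]; group
      _ = _ := by group

/-- elements with the same matrix act in the same way -/
theorem Like.eq (r : Rig L A U π) {w w' : G} {M : Matrix.SpecialLinearGroup (Fin 2) F} (h : Like L A U π w M)
    (h' : Like L A U π w' M) {v : G} (hv : v ∈ A) : w * v * w⁻¹ = w' * v * w'⁻¹ := by
  obtain ⟨x, hx, h⟩ := h
  obtain ⟨x', hx', h'⟩ := h'
  rw [h v hv, h' v hv, r.is_eq hx hx' v hv]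

theorem Like.conj (r : Rig L A U π) {w : G} {M : Matrix.SpecialLinearGroup (Fin 2) F} (h : Like L A U π w M)
    {v : G} (hv : v ∈ A) : w * v * w⁻¹ ∈ A := by
  obtain ⟨x, hx, h⟩ := h
  rw [h v hv]
  exact r.Vn x hx.mem v hv

variable (b : Base T T' L L' A A' U U' π π' e f g e' f' g')

theorem cc_symm (U U' : Subgroup G) : CC U' U = CC U U' := inf_comm _ _

include b

/-- `A' ≤ O₂(C_G(U U'))` -/
theorem A'O [Finite G] : A' ≤ o2 (CC U U') := by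
  have h1 : CC U U' ≤ normalizer (U' : Set G) := inf_le_right.trans (centralizer_le_normalizer _)
  have h2 : CC U U' ≤ normalizer ((o2 (normalizer (U' : Set G)) ⊓ CC U U' : Subgroup G) : Set G) := by
    intro x hx
    apply mem_normalizer_of_conj
    intro y hy
    rw [mem_inf] at hy ⊢
    exact ⟨(mem_normalizer_iff.1 (le_normalizer_o2 _ (h1 hx)) y).1 hy.1,
      mul_mem (mul_mem hx hy.2) (inv_mem hx)⟩
  exact (le_inf (b.AZ'.trans (zc_le _)) b.A'C).trans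
    (le_o2 inf_le_right ((o2_isPGroup _).to_le inf_le_left) h2)

theorem A'T' [Finite G] : A' ≤ T' := (A'O b).trans b.OT'

/-- a conjugate by `c ∈ C` of `n ∈ A'` acts on `A` as `n` -/
theorem act_cj (c : Core T L A A' U U' π e g s) {c₀ : G} (hc₀ : c₀ ∈ CC U U') {n : G} (hn : n ∈ A') {t : F}
    (hI : Is L A U π n (lo (t ^ 2))) {v : G} (hv : v ∈ A) :
    (c₀ * n * c₀⁻¹) * v * (c₀ * n * c₀⁻¹)⁻¹ = e (t ^ 2 * π v 0) * g (t * π v 0) * v := by
  have hcU : c₀ ∈ centralizer (U : Set G) := hc₀.1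
  have h1 : c₀⁻¹ * v * c₀⁻¹⁻¹ ∈ UG A U := c.MU c₀⁻¹ (inv_mem hcU) v (c.AU hv)
  have h2 := c.s_act t n hn hI _ h1
  have h3 : s (c₀⁻¹ * v * c₀⁻¹⁻¹) = π v 0 := c.s_conj c₀⁻¹ (inv_mem hc₀) v hv
  rw [h3] at h2
  have h4 : c₀ * e (t ^ 2 * π v 0) * c₀⁻¹ = e (t ^ 2 * π v 0) := fix_of_comm (cc_r hc₀ (b.eU' _))
  have h5 : c₀ * g (t * π v 0) * c₀⁻¹ = g (t * π v 0) := fix_of_comm (cc_l hc₀ (b.gU _))
  calc (c₀ * n * c₀⁻¹) * v * (c₀ * n * c₀⁻¹)⁻¹ = c₀ * (n * (c₀⁻¹ * v * c₀⁻¹⁻¹) * n⁻¹) * c₀⁻¹ := by group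
    _ = (c₀ * e (t ^ 2 * π v 0) * c₀⁻¹) * (c₀ * g (t * π v 0) * c₀⁻¹) * v := by rw [h2]; group
    _ = _ := by rw [h4, h5]

theorem like_cj (c : Core T L A A' U U' π e g s) {c₀ : G} (hc₀ : c₀ ∈ CC U U') {n : G} (hn : n ∈ A') {t : F}
    (hI : Is L A U π n (lo (t ^ 2))) : Like L A U π (c₀ * n * c₀⁻¹) (lo (t ^ 2)) :=
  ⟨n, hI, fun v hv => by rw [act_cj b c hc₀ hn hI hv, b.act_n hI hv]⟩

/-- `[A', T' ∩ C] ≤ U U'` -/
theorem comm_TC [Finite F] {n x : G} (hn : n ∈ A') (hx : x ∈ T') (hC : x ∈ CC U U') :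
    ∃ u ∈ U, ∃ u' ∈ U', n * x * n⁻¹ * x⁻¹ = u * u' := by
  obtain ⟨t, ht⟩ := b.symm.tau hx (by rw [cc_symm]; exact hC)
  have h1 := ht n hn
  refine ⟨(e' (t ^ 2 * π' n 0))⁻¹, inv_mem (b.symm.eU' _), (g' (t * π' n 0))⁻¹, inv_mem (b.symm.gU _), ?_⟩
  have h2 : n * x * n⁻¹ * x⁻¹ = n * (x * n * x⁻¹)⁻¹ := by group
  rw [h2, h1]
  have h3 := b.A'c (b.p.s'.r.DV (b.symm.gU (t * π' n 0))) (b.symm.eA (t ^ 2 * π' n 0))
  calc n * (e' (t ^ 2 * π' n 0) * g' (t * π' n 0) * n)⁻¹ = (e' (t ^ 2 * π' n 0) * g' (t * π' n 0))⁻¹ := by group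
    _ = (g' (t * π' n 0) * e' (t ^ 2 * π' n 0))⁻¹ := by rw [h3]
    _ = _ := by group

end like

end EndL

/-- **(10)** -/
theorem end_lemma [Finite G] [Finite F] {T T' L L' A A' U U' : Subgroup G} {π π' : G → Fin 2 → F}
    {e f g e' f' g' : F → G} {s : G → F} (hG : IsCharacteristicTwoType G) (h4 : 4 ≤ Nat.card F)
    (b : Base T T' L L' A A' U U' π π' e f g e' f' g') (c : Core T L A A' U U' π e g s) {Sh : Subgroup G}
    (hp : IsPGroup 2 Sh) (hC : Sh ≤ CC U U') (hsy : ¬ 2 ∣ Sh.relIndex (CC U U'))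
    (hact : ∀ x ∈ Sh, ∃ t : F, ∀ v ∈ A, x * v * x⁻¹ = e (t ^ 2 * π v 0) * g (t * π v 0) * v)
    {c₀ : G} (hc₀ : c₀ ∈ CC U U') (hle : Omega.BTwo.cj c₀ (T' ⊓ CC U U') ≤ Sh)
    (h2 : Nat.card Sh ≤ 2 * Nat.card ↥(T' ⊓ CC U U')) (hhalf : Half L' A')
    (hna : ∃ x ∈ T' ⊓ centralizer (A' : Set G), ∃ y ∈ T' ⊓ centralizer (A' : Set G), x * y ≠ y * x) : False := by
  have r := b.p.s.r
  have hAA : ∀ v ∈ A, ∀ w ∈ A, v * w = w * v := r.Vc
  -- `A` and `Sh`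
  have hAO : A ≤ o2 (CC U U') := c.AU.trans c.UO
  have hOS : o2 (CC U U') ≤ Sh := o2_le_of_sylow hp hsy
  have hcO : ∀ z ∈ CC U U', ∀ x ∈ o2 (CC U U'), z * x * z⁻¹ ∈ o2 (CC U U') := fun z hz x hx =>
    (mem_normalizer_iff.1 (le_normalizer_o2 _ hz) x).1 hx
  have hShA : ∀ x ∈ Sh, ∀ v ∈ A, x * v * x⁻¹ ∈ A := by
    intro x hx v hv
    obtain ⟨t, ht⟩ := hact x hx
    rw [ht v hv]
    exact mul_mem (mul_mem (b.eA _) (b.gA _)) hv
  have hShN : Sh ≤ normalizer (A : Set G) := fun x hx => mem_normalizer_of_conj (hShA x hx)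
  have hNC : normalizer (A : Set G) ≤ normalizer (centralizer (A : Set G) : Set G) := by
    intro x hx
    apply mem_normalizer_of_conj
    intro y hy
    rw [mem_centralizer_iff] at hy ⊢
    intro v hv
    have h1 : x⁻¹ * v * x ∈ A := by
      have := (mem_normalizer_iff.1 (inv_mem hx) v).1 hv
      rwa [inv_inv] at this
    have h3 := hy _ h1
    calc v * (x * y * x⁻¹) = x * (x⁻¹ * v * x * y) * x⁻¹ := by group
      _ = x * (y * (x⁻¹ * v * x)) * x⁻¹ := by rw [h3]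
      _ = _ := by group
  have hCC : centralizer (A : Set G) ≤ CC U U' := fun x hx =>
    ⟨mem_centralizer_iff.2 fun u hu => mem_centralizer_iff.1 hx u (b.UA hu),
      mem_centralizer_iff.2 fun u hu => mem_centralizer_iff.1 hx u (b.U'A hu)⟩
  -- `Q` is a Sylow 2-subgroup of `C_G(A)`
  set Q : Subgroup G := Sh ⊓ centralizer (A : Set G) with hQ
  have hQ2 : IsPGroup 2 Q := hp.to_le inf_le_left
  have hQA : ∀ q ∈ Q, ∀ a ∈ A, q * a = a * q := fun q hq a ha => (mem_centralizer_iff.1 hq.2 a ha).symm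
  have hQodd : ¬ 2 ∣ Q.relIndex (centralizer (A : Set G)) := by
    intro hd
    apply hsy
    rw [hQ, inf_relIndex_right, ← Cv.XNorm.relIndex_sup_eq (hShN.trans hNC)] at hd
    have h1 := relIndex_mul_relIndex Sh (centralizer (A : Set G) ⊔ Sh) (CC U U') le_sup_right (sup_le hCC hC)
    rw [← h1]
    exact hd.mul_right _
  have hShQ : ∀ x ∈ Sh, ∀ q ∈ Q, x * q * x⁻¹ ∈ Q := fun x hx q hq =>
    mem_inf.2 ⟨mul_mem (mul_mem hx (mem_inf.1 hq).1) (inv_mem hx),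
      (mem_normalizer_iff.1 (hNC (hShN hx)) q).1 (mem_inf.1 hq).2⟩
  have hAQ : A ≤ Q := fun a ha => mem_inf.2 ⟨hOS (hAO ha), mem_centralizer_iff.2 fun v hv => hAA v hv a ha⟩
  -- the Weyl element `l`, normalising `Q`
  obtain ⟨n, hn⟩ := b.exists_wm
  have hnA : n ∈ normalizer (A : Set G) := mem_normalizer_of_conj fun v hv => r.Vn n hn.mem v hv
  obtain ⟨z, hz, hzQ⟩ := EndL.conj_into hQ2 hQodd (X := Omega.BTwo.cj n Q) (hQ2.map _) (by
      intro x hx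
      have h1 := (mem_normalizer_iff.1 (hNC hnA) _).1 (mem_inf.1 (mem_cj.1 hx)).2
      have e1 : n * (n⁻¹ * x * n) * n⁻¹ = x := by group
      rwa [e1] at h1)
  obtain ⟨l, hl⟩ : ∃ l, l = z * n := ⟨_, rfl⟩
  have hlQ : l ∈ normalizer (Q : Set G) := mem_normalizer_of_conj fun q hq => by
    have h1 := hzQ _ (conj_mem_cj (g := n) hq)
    have e1 : z * (n * q * n⁻¹) * z⁻¹ = l * q * l⁻¹ := by rw [hl]; group
    rwa [e1] at h1
  have hlL : EndL.Like L A U π l (wm 1 one_ne_zero) := by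
    refine ⟨n, hn, fun v hv => ?_⟩
    have h1 : z * (n * v * n⁻¹) * z⁻¹ = n * v * n⁻¹ :=
      fix_of_comm (mem_centralizer_iff.1 hz _ (r.Vn n hn.mem v hv)).symm
    calc l * v * l⁻¹ = z * (n * v * n⁻¹) * z⁻¹ := by rw [hl]; group
      _ = _ := h1
  have hlA : l ∈ normalizer (A : Set G) := mem_normalizer_of_conj fun v hv => hlL.conj r hv
  have inv_norm : ∀ {X : Subgroup G} {x : G}, x ∈ normalizer (X : Set G) → ∀ {y : G}, y ∈ X → x⁻¹ * y * x ∈ X := by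
    intro X x hx y hy
    have := (mem_normalizer_iff.1 (inv_mem hx) y).1 hy
    rwa [inv_inv] at this
  have norm_c : ∀ {X : Subgroup G} {x : G}, x ∈ normalizer (X : Set G) → ∀ {y : G}, y ∈ X → x * y * x⁻¹ ∈ X := by
    intro X x hx y hy
    exact (mem_normalizer_iff.1 hx y).1 hy
  -- `J`
  set J₁ : Subgroup G := Q ⊓ Omega.BTwo.cj c₀ (T' ⊓ CC U U') with hJ₁
  set J₂ : Subgroup G := Omega.BTwo.cj l J₁ with hJ₂
  have hOC : o2 (CC U U') ≤ CC U U' := Cfsg.Agent.MinSimple.VModule.o2_le _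
  have hAJ₁ : A ≤ J₁ := by
    intro a ha
    refine mem_inf.2 ⟨hAQ ha, mem_cj.2 ?_⟩
    have h1 := hcO _ (inv_mem hc₀) a (hAO ha)
    rw [inv_inv] at h1
    exact mem_inf.2 ⟨b.OT' h1, hOC h1⟩
  have hAJ₂ : A ≤ J₂ := fun a ha => mem_cj.2 (hAJ₁ (inv_norm hlA ha))
  have hJ₁Q : J₁ ≤ Q := inf_le_left
  have hJ₂Q : J₂ ≤ Q := by
    intro x hx
    have h1 := norm_c hlQ (hJ₁Q (mem_cj.1 hx))
    have e1 : l * (l⁻¹ * x * l) * l⁻¹ = x := by group
    rwa [e1] at h1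
  -- index at most 2
  have hi0 : (Omega.BTwo.cj c₀ (T' ⊓ CC U U')).relIndex Sh ≤ 2 := by
    have h1 : Nat.card ↥(Omega.BTwo.cj c₀ (T' ⊓ CC U U')) * (Omega.BTwo.cj c₀ (T' ⊓ CC U U')).relIndex Sh =
        Nat.card Sh := by
      rw [Subgroup.relIndex, ← Nat.card_congr (Subgroup.subgroupOfEquivOfLe hle).toEquiv]
      exact Subgroup.card_mul_index _
    rw [card_cj] at h1
    have h3 : 0 < Nat.card ↥(T' ⊓ CC U U') := Nat.card_pos
    rw [← h1, mul_comm 2] at h2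
    exact Nat.le_of_mul_le_mul_left h2 h3
  have hi1 : J₁.relIndex Q ≤ 2 := by
    rw [hJ₁, inf_relIndex_left]
    refine (relIndex_le_of_le_right inf_le_left ?_).trans hi0
    unfold relIndex
    exact index_ne_zero_of_finite
  have hi2 : J₂.relIndex Q ≤ 2 := by
    have h1 : Omega.BTwo.cj l Q = Q := Omega.BTwo.cj_eq_self_iff.2 hlQ
    have h3 : (Omega.BTwo.cj l J₁).relIndex (Omega.BTwo.cj l Q) = J₁.relIndex Q := by
      unfold Omega.BTwo.cj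
      exact relIndex_map_map_of_injective _ _ (MulAut.conj l).injective
    rw [h1] at h3
    rw [hJ₂, h3]
    exact hi1
  have hn1 : ∀ q ∈ Q, ∀ j ∈ J₁, q * j * q⁻¹ ∈ J₁ := by
    have h1 : (J₁.subgroupOf Q).Normal := by
      have h3 : (J₁.subgroupOf Q).index ≤ 2 := hi1
      have h5 : (J₁.subgroupOf Q).index ≠ 0 := index_ne_zero_of_finite
      have h6 : (J₁.subgroupOf Q).index = 1 ∨ (J₁.subgroupOf Q).index = 2 := by omega
      rcases h6 with h6 | h6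
      · rw [index_eq_one] at h6
        rw [h6]; infer_instance
      · exact normal_of_index_eq_two h6
    intro q hq j hj
    have h3 := h1.conj_mem ⟨j, hJ₁Q hj⟩ (mem_subgroupOf.2 hj) ⟨q, hq⟩
    exact mem_subgroupOf.1 h3
  have hn2 : ∀ q ∈ Q, ∀ j ∈ J₂, q * j * q⁻¹ ∈ J₂ := by
    intro q hq j hj
    rw [hJ₂, mem_cj] at hj ⊢
    have h1 := hn1 _ (inv_norm hlQ hq) _ hj
    have e1 : l⁻¹ * q * l * (l⁻¹ * j * l) * (l⁻¹ * q * l)⁻¹ = l⁻¹ * (q * j * q⁻¹) * l := by group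
    rwa [e1] at h1
  set J : Subgroup G := J₁ ⊓ J₂ with hJ
  have hAJ : A ≤ J := le_inf hAJ₁ hAJ₂
  have hiJ : J.relIndex Q ≤ 4 :=
    relIndex_inf_le.trans ((Nat.mul_le_mul hi1 hi2).trans (by norm_num))
  have hnJ : ∀ q ∈ Q, ∀ j ∈ J, q * j * q⁻¹ ∈ J := fun q hq j hj =>
    mem_inf.2 ⟨hn1 q hq j (mem_inf.1 hj).1, hn2 q hq j (mem_inf.1 hj).2⟩
  -- the group `W`
  have hUA : U ≤ A := b.UA
  have hU'A : U' ≤ A := b.U'A
  have hA'C : A' ≤ T' ⊓ CC U U' := le_inf (EndL.A'T' b) b.A'C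
  have hcSh : ∀ x ∈ A', c₀ * x * c₀⁻¹ ∈ Sh := fun x hx => hle (conj_mem_cj (hA'C hx))
  have hcJ : ∀ x ∈ A', ∀ j ∈ J₁, (c₀ * x * c₀⁻¹) * j * (c₀ * x * c₀⁻¹)⁻¹ * j⁻¹ ∈ A := by
    intro x hx j hj
    have h1 := mem_inf.1 (mem_cj.1 (mem_inf.1 hj).2)
    obtain ⟨u, hu, u', hu', h3⟩ := EndL.comm_TC b hx h1.1 h1.2
    have e1 : (c₀ * x * c₀⁻¹) * j * (c₀ * x * c₀⁻¹)⁻¹ * j⁻¹ =
        c₀ * (x * (c₀⁻¹ * j * c₀) * x⁻¹ * (c₀⁻¹ * j * c₀)⁻¹) * c₀⁻¹ := by group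
    have h5 : c₀ * u * c₀⁻¹ = u := fix_of_comm (cc_l hc₀ hu)
    have h6 : c₀ * u' * c₀⁻¹ = u' := fix_of_comm (cc_r hc₀ hu')
    have e2 : c₀ * (u * u') * c₀⁻¹ = (c₀ * u * c₀⁻¹) * (c₀ * u' * c₀⁻¹) := by group
    rw [e1, h3, e2, h5, h6]
    exact mul_mem (hUA hu) (hU'A hu')
  -- the subgroup of all good elements
  let Z₁ : Subgroup G :=
    { carrier := {w | w ∈ normalizer (Q : Set G) ∧ w ∈ normalizer (A : Set G) ∧ ∀ j ∈ J, w * j * w⁻¹ * j⁻¹ ∈ A}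
      one_mem' := ⟨one_mem _, one_mem _, fun j _ => by
        have e1 : (1 : G) * j * 1⁻¹ * j⁻¹ = 1 := by group
        rw [e1]; exact one_mem _⟩
      mul_mem' := by
        rintro x y ⟨hx1, hx2, hx3⟩ ⟨hy1, hy2, hy3⟩
        refine ⟨mul_mem hx1 hy1, mul_mem hx2 hy2, fun j hj => ?_⟩
        have e1 : x * y * j * (x * y)⁻¹ * j⁻¹ = (x * (y * j * y⁻¹ * j⁻¹) * x⁻¹) * (x * j * x⁻¹ * j⁻¹) := by group
        rw [e1]
        exact mul_mem (norm_c hx2 (hy3 j hj)) (hx3 j hj)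
      inv_mem' := by
        rintro x ⟨hx1, hx2, hx3⟩
        refine ⟨inv_mem hx1, inv_mem hx2, fun j hj => ?_⟩
        have e1 : x⁻¹ * j * x⁻¹⁻¹ * j⁻¹ = x⁻¹ * (x * j * x⁻¹ * j⁻¹)⁻¹ * x := by group
        rw [e1]
        exact inv_norm hx2 (inv_mem (hx3 j hj)) }
  obtain ⟨W, hW⟩ : ∃ W : Subgroup G, W = Omega.BTwo.cj c₀ A' ⊔ Omega.BTwo.cj l (Omega.BTwo.cj c₀ A') := ⟨_, rfl⟩
  have hWZ : W ≤ Z₁ := by
    rw [hW]
    have h1 : ∀ x ∈ A', c₀ * x * c₀⁻¹ ∈ normalizer (Q : Set G) ∧ c₀ * x * c₀⁻¹ ∈ normalizer (A : Set G) ∧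
        ∀ j ∈ J₁, (c₀ * x * c₀⁻¹) * j * (c₀ * x * c₀⁻¹)⁻¹ * j⁻¹ ∈ A := fun x hx =>
      ⟨mem_normalizer_of_conj (hShQ _ (hcSh x hx)), hShN (hcSh x hx), hcJ x hx⟩
    refine sup_le ?_ ?_
    · rintro _ ⟨x, hx, rfl⟩
      obtain ⟨h3, h5, h6⟩ := h1 x hx
      exact ⟨h3, h5, fun j hj => h6 j (mem_inf.1 hj).1⟩
    · rintro _ ⟨_, ⟨x, hx, rfl⟩, rfl⟩
      obtain ⟨h3, h5, h6⟩ := h1 x hx
      change l * (c₀ * x * c₀⁻¹) * l⁻¹ ∈ Z₁
      refine ⟨mul_mem (mul_mem hlQ h3) (inv_mem hlQ), mul_mem (mul_mem hlA h5) (inv_mem hlA), fun j hj => ?_⟩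
      have h7 := norm_c hlA (h6 _ (mem_cj.1 (mem_inf.1 hj).2))
      have e1 : l * ((c₀ * x * c₀⁻¹) * (l⁻¹ * j * l) * (c₀ * x * c₀⁻¹)⁻¹ * (l⁻¹ * j * l)⁻¹) * l⁻¹ =
        l * (c₀ * x * c₀⁻¹) * l⁻¹ * j * (l * (c₀ * x * c₀⁻¹) * l⁻¹)⁻¹ * j⁻¹ := by group
      rwa [e1] at h7
  -- `W` induces `SL₂(F)`
  have two := r.two
  have hm := EndL.like_mult r
  have hlo : ∀ β, ∃ w ∈ Omega.BTwo.cj c₀ A', EndL.Like L A U π w (lo β) := by
    intro β
    obtain ⟨t, rfl⟩ := b.p.sq β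
    obtain ⟨x, hx, hxI⟩ := b.exists_n t
    exact ⟨_, conj_mem_cj hx, EndL.like_cj b c hc₀ hx hxI⟩
  have hWall : ∀ M, ∃ w ∈ W, EndL.Like L A U π w M := by
    intro M
    refine EndL.eq_top_of_up_lo (K := hm.grp W) (fun β => ?_) (fun β => ?_) M
    · obtain ⟨w, hw, h1⟩ := hlo β
      exact ⟨w, by rw [hW]; exact mem_sup_left hw, h1⟩
    · obtain ⟨w, hw, h1⟩ := hlo (-β)
      refine ⟨l * w * l⁻¹, by rw [hW]; exact mem_sup_right (conj_mem_cj hw), ?_⟩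
      have h3 := hm.mul _ _ _ _ (hm.mul _ _ _ _ hlL h1) (hm.inv _ _ hlL)
      have h5 : wm (1 : F) one_ne_zero * lo (-β) * (wm 1 one_ne_zero)⁻¹ = up β := by
        rw [wm_lo, one_pow, mul_one, neg_neg, mul_inv_cancel_right]
      rwa [h5] at h3
  have hω : ∃ ω : F, ω ≠ 0 ∧ ω ^ 2 ≠ 1 := by
    obtain ⟨ω, h0, h1⟩ := b.p.ω
    refine ⟨ω, h0, fun h3 => h1 ?_⟩
    have h5 : (ω - 1) ^ 2 = 0 := by linear_combination h3 + (1 - ω) * two
    exact sub_eq_zero.1 (pow_eq_zero_iff two_ne_zero |>.1 h5)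
  obtain ⟨Y, hYW, hYp, hYall⟩ := EndL.exists_perfect hm hω _ W rfl hWall
  -- `Y` is trivial on `Q / A`
  have hYQA : ∀ y ∈ Y, ∀ q ∈ Q, y * q * y⁻¹ * q⁻¹ ∈ A := by
    have hQN : Q ≤ normalizer (A : Set G) := inf_le_left.trans hShN
    refine EndL.comm_le_mod hYp hQN (fun y hy => (hWZ (hYW hy)).2.1) hAJ
      (fun y hy q hq => norm_c (hWZ (hYW hy)).1 hq) (fun y hy => (hWZ (hYW hy)).2.2) hnJ hiJ
  -- `K`
  obtain ⟨K, hK⟩ : ∃ K : Subgroup G, K = closure {x | ∃ d ∈ T' ⊓ centralizer (A' : Set G), x = d * d} := ⟨_, rfl⟩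
  have hKT : K ≤ T' := by
    rw [hK, closure_le]
    rintro _ ⟨d, hd, rfl⟩
    exact mul_mem (mem_inf.1 hd).1 (mem_inf.1 hd).1
  have hK2 : IsPGroup 2 K := b.T2'.to_le hKT
  have hK1 : K ≠ ⊥ := by
    intro h0
    obtain ⟨x, hx, y, hy, hxy⟩ := hna
    apply hxy
    have hsq : ∀ d ∈ T' ⊓ centralizer (A' : Set G), d * d = 1 := by
      intro d hd
      rw [← mem_bot, ← h0, hK]
      exact subset_closure ⟨d, hd, rfl⟩
    have h1 := hsq x hx
    have h3 := hsq y hy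
    have h5 := hsq _ (mul_mem hx hy)
    calc x * y = x * (x * y * (x * y)) * y := by rw [h5]; group
      _ = (x * x) * y * x * (y * y) := by group
      _ = y * x := by rw [h1, h3]; group
  have hLK : L' ≤ normalizer (K : Set G) := by
    intro x hx
    apply mem_normalizer_of_conj
    intro y hy
    rw [hK] at hy
    induction hy using closure_induction with
    | mem y hy =>
      obtain ⟨d, hd, rfl⟩ := hy
      have h1 := norm_c (b.QL' hx) hd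
      have e1 : x * (d * d) * x⁻¹ = (x * d * x⁻¹) * (x * d * x⁻¹) := by group
      rw [e1, hK]
      exact subset_closure ⟨_, h1, rfl⟩
    | one => rw [mul_one, mul_inv_cancel]; exact one_mem _
    | mul y z _ _ h1 h3 =>
      have e1 : x * (y * z) * x⁻¹ = (x * y * x⁻¹) * (x * z * x⁻¹) := by group
      rw [e1]; exact mul_mem h1 h3
    | inv y _ h1 =>
      have e1 : x * y⁻¹ * x⁻¹ = (x * y * x⁻¹)⁻¹ := by group
      rw [e1]; exact inv_mem h1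
  have hAz := hhalf _ hLK (Cfsg.Agent.MinSimple.Basic.char2_normalizer hG hK2 hK1)
  -- `Y` centralises `K ^ c₀`
  have hYK : ∀ y ∈ Y, ∀ k ∈ K, y * (c₀ * k * c₀⁻¹) = (c₀ * k * c₀⁻¹) * y := by
    intro y hy k hk
    rw [hK] at hk
    induction hk using closure_induction with
    | mem k hk =>
      obtain ⟨d, hd, rfl⟩ := hk
      have hdC : d ∈ CC U U' := by
        rw [← EndL.cc_symm]; exact b.symm.QC hd
      have hdSh : c₀ * d * c₀⁻¹ ∈ Sh := hle (conj_mem_cj (mem_inf.2 ⟨(mem_inf.1 hd).1, hdC⟩))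
      obtain ⟨t, ht⟩ := hact _ hdSh
      obtain ⟨x, hx, hxI⟩ := b.exists_n t
      have hxc := hcSh x hx
      set q := (c₀ * x * c₀⁻¹)⁻¹ * (c₀ * d * c₀⁻¹) with hq
      have hqQ : q ∈ Q := by
        refine mem_inf.2 ⟨mul_mem (inv_mem hxc) hdSh, mem_centralizer_iff.2 fun v hv => ?_⟩
        have h1 := ht v hv
        have h3 := EndL.act_cj b c hc₀ hx hxI hv
        have h5 : q * v * q⁻¹ = v := by
          calc q * v * q⁻¹ = (c₀ * x * c₀⁻¹)⁻¹ * ((c₀ * d * c₀⁻¹) * v * (c₀ * d * c₀⁻¹)⁻¹) * (c₀ * x * c₀⁻¹) := by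
                rw [hq]; group
            _ = (c₀ * x * c₀⁻¹)⁻¹ * ((c₀ * x * c₀⁻¹) * v * (c₀ * x * c₀⁻¹)⁻¹) * (c₀ * x * c₀⁻¹) := by rw [h1, h3]
            _ = v := by group
        exact (comm_of_fix h5).symm
      have hxd : x * d = d * x := mem_centralizer_iff.1 (mem_inf.1 hd).2 x hx
      have hxx : x * x = 1 := b.p.s'.r.Vs x hx
      have hqq : c₀ * (d * d) * c₀⁻¹ = q * q := by
        have e1 : q * q = c₀ * (x⁻¹ * d * (x⁻¹ * d)) * c₀⁻¹ := by rw [hq]; group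
        rw [e1]
        have h1 : x⁻¹ = x := b.p.s'.r.inv hx
        rw [h1]
        calc c₀ * (d * d) * c₀⁻¹ = c₀ * ((x * x) * d * d) * c₀⁻¹ := by rw [hxx, one_mul]
          _ = c₀ * (x * (x * d) * d) * c₀⁻¹ := by group
          _ = c₀ * (x * (d * x) * d) * c₀⁻¹ := by rw [hxd]
          _ = _ := by group
      rw [hqq]
      have h1 := hYQA y hy q hqQ
      set a := y * q * y⁻¹ * q⁻¹ with ha
      have h3 : y * q * y⁻¹ = a * q := by rw [ha]; group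
      have h5 := hQA q hqQ a h1
      have h6 : a * a = 1 := r.Vs a h1
      have h7 : y * (q * q) * y⁻¹ = q * q := by
        calc y * (q * q) * y⁻¹ = (y * q * y⁻¹) * (y * q * y⁻¹) := by group
          _ = a * (q * a) * q := by rw [h3]; group
          _ = (a * a) * q * q := by rw [h5]; group
          _ = q * q := by rw [h6, one_mul]
      exact comm_of_fix h7
    | one =>
      have e1 : c₀ * 1 * c₀⁻¹ = 1 := by group
      rw [e1, mul_one, one_mul]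
    | mul k k' _ _ h1 h3 =>
      have e1 : c₀ * (k * k') * c₀⁻¹ = (c₀ * k * c₀⁻¹) * (c₀ * k' * c₀⁻¹) := by group
      rw [e1]
      exact (Commute.mul_right h1 h3).eq
    | inv k _ h1 =>
      have e1 : c₀ * k⁻¹ * c₀⁻¹ = (c₀ * k * c₀⁻¹)⁻¹ := by group
      rw [e1]
      exact (Commute.inv_right h1).eq
  -- `cj c₀ (zc (o2 N(K)))` is normalised by `Y`
  obtain ⟨W₀, hW₀⟩ : ∃ W₀ : Subgroup G, W₀ = Omega.BTwo.cj c₀ (zc (o2 (normalizer (K : Set G)))) := ⟨_, rfl⟩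
  have hYn : ∀ y ∈ Y, ∀ u ∈ W₀, y * u * y⁻¹ ∈ W₀ := by
    intro y hy u hu
    rw [hW₀, mem_cj] at hu ⊢
    have h1 : c₀⁻¹ * y * c₀ ∈ normalizer (K : Set G) := by
      apply mem_normalizer_of_conj
      intro k hk
      have h3 := hYK y hy k hk
      have e1 : c₀⁻¹ * y * c₀ * k * (c₀⁻¹ * y * c₀)⁻¹ = c₀⁻¹ * (y * (c₀ * k * c₀⁻¹)) * y⁻¹ * c₀ := by group
      rw [e1, h3]
      have e2 : c₀⁻¹ * (c₀ * k * c₀⁻¹ * y) * y⁻¹ * c₀ = k := by group
      rw [e2]; exact hk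
    have h3 := normalizer_le_normalizer_zc _ (le_normalizer_o2 _ h1)
    have h5 := norm_c h3 hu
    have e1 : c₀⁻¹ * y * c₀ * (c₀⁻¹ * u * c₀) * (c₀⁻¹ * y * c₀)⁻¹ = c₀⁻¹ * (y * u * y⁻¹) * c₀ := by group
    rwa [e1] at h5
  have hfixC : ∀ u ∈ A', (c₀⁻¹ * u * c₀ = u) → u ∈ W₀ := by
    intro u hu h1
    rw [hW₀, mem_cj, h1]
    exact hAz hu
  have hUA' : U ≤ A' := b.symm.U'A
  have hU'A' : U' ≤ A' := b.symm.UA
  have hUW : U ≤ W₀ := fun u hu => hfixC u (hUA' hu) (fix_of_comm' (cc_l hc₀ hu))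
  have hU'W : U' ≤ W₀ := fun u hu => hfixC u (hU'A' hu) (fix_of_comm' (cc_r hc₀ hu))
  have hAW : A ≤ W₀ := by
    refine b.A_le hn (fun z => hU'W (b.eU' z)) (fun z => ?_) hUW
    obtain ⟨y, hy, hyL⟩ := hYall (wm 1 one_ne_zero)
    have h1 := hyL.eq r ⟨n, hn, fun _ _ => rfl⟩ (b.eA z)
    rw [← h1]
    exact hYn y hy _ (hU'W (b.eU' z))
  -- the end
  obtain ⟨x, hx, hxI⟩ := b.exists_n 1
  have hxW : c₀ * x * c₀⁻¹ ∈ W₀ := by
    rw [hW₀]; exact conj_mem_cj (hAz hx)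
  have hab : ∀ u ∈ W₀, ∀ v ∈ W₀, u * v = v * u := by
    intro u hu v hv
    rw [hW₀, mem_cj] at hu hv
    have h1 := zc_comm _ _ hu _ hv
    calc u * v = c₀ * ((c₀⁻¹ * u * c₀) * (c₀⁻¹ * v * c₀)) * c₀⁻¹ := by group
      _ = c₀ * ((c₀⁻¹ * v * c₀) * (c₀⁻¹ * u * c₀)) * c₀⁻¹ := by rw [h1]
      _ = v * u := by group
  have h1 := EndL.act_cj b c hc₀ hx hxI (b.fA 1)
  rw [fix_of_comm (hab _ hxW _ (hAW (b.fA 1))), b.p.φ.fπ] at h1
  simp only [Matrix.cons_val_zero, mul_one, one_pow] at h1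
  have h3 : e 0 * g 0 = e 1 * g 1 := by
    rw [b.p.φ.e0, b.p.φ.g0, mul_one]
    exact (right_eq_mul.1 h1).symm
  exact zero_ne_one (b.p.φ.eg_inj r h3).1

end Cfsg.Agent.Omega.IId.Ns

end

end

-- merged: Cfsg.Agent.Mrg.Omega.HOne.NSK.Lin
section

/-!
# WrCv, nonsplit `P`, `k = 2` (helper882), (9d): linear algebra

`F` is a finite field of characteristic 2.

* `scalar_of_fun` : an additive `α : F → F` such that each `z ↦ μ α (μ z)` is `α + scalar` or scalar, is a scalar, or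
  `|F| = 4` and `α z = c (z² + z) + l z`;
* `scalar` : a group `Γ` of additive permutations of `F²` containing `SL₂(F)`, whose 2-subgroups have order `≤ 2 |F|`,
  without elements of order 4: if `w ∈ Γ` is `(z, x) ↦ (z, x + α z)` then `α` is a scalar;
* `scalar_of_act` : the same for a group acting on `Y / B ≅ F²`.
-/

set_option autoImplicit false
set_option linter.unusedSectionVars false

namespace Cfsg.Agent.Omega.HOne.NSK

open Subgroup Cfsg.Agent.Omega.NatPair Cfsg.Agent.Lib.SL2Mat Cfsg.Agent.Omega.HOne.NSMod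

variable {F : Type*} [Field F] [CharP F 2]

theorem two_self (x : F) : x + x = 0 := CharTwo.add_self_eq_zero x

theorem fun_zero {α : F → F} (ha : ∀ x y, α (x + y) = α x + α y) : α 0 = 0 := by
  have h := ha 0 0
  rw [add_zero] at h
  exact left_eq_add.1 h

/-- the normalised case `α 1 = 0` -/
theorem fun_core {α : F → F} (ha : ∀ x y, α (x + y) = α x + α y) (h1 : α 1 = 0)
    (hm : ∀ μ : F, μ ≠ 0 → ∃ c, (∀ z, μ * α (μ * z) = α z + c * z) ∨ (∀ z, μ * α (μ * z) = c * z)) :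
    (∀ z, α z = 0) ∨ ∃ c : F, c ≠ 0 ∧ (∀ z, α z = c * (z ^ 2 + z)) ∧ (∀ z : F, z ^ 4 = z) ∧ ∃ z : F, z ^ 2 ≠ z := by
  by_cases h0 : ∀ z, α z = 0
  · exact Or.inl h0
  right
  have hz0 := fun_zero ha
  have key : ∀ μ : F, μ ≠ 0 → ∀ z, μ * α (μ * z) = α z + μ * α μ * z := by
    intro μ hμ
    obtain ⟨c, hc | hc⟩ := hm μ hμ
    · have h2 := hc 1
      rw [mul_one, mul_one, h1, zero_add] at h2
      intro z
      rw [hc, h2]
    · exfalso
      apply h0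
      have h2 := hc μ⁻¹
      rw [mul_inv_cancel₀ hμ, h1, mul_zero] at h2
      have h3 : c = 0 := by
        rcases mul_eq_zero.1 h2.symm with h | h
        · exact h
        · exact absurd h (inv_ne_zero hμ)
      intro z
      have h4 := hc (μ⁻¹ * z)
      rw [mul_inv_cancel_left₀ hμ, h3, zero_mul] at h4
      exact (mul_eq_zero.1 h4).resolve_left hμ
  have sym : ∀ z μ : F, z ≠ 0 → μ ≠ 0 → z * α z * (1 + μ ^ 2) = μ * α μ * (1 + z ^ 2) := by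
    intro z μ hz hμ
    have h2 := key μ hμ z
    have h3 := key z hz μ
    rw [mul_comm z μ] at h3
    have h5 := two_self (z * α z)
    have h6 := two_self (μ * α μ)
    have h7 := two_self (z * μ * α (μ * z))
    linear_combination z * h2 - μ * h3 + h5 - h6
  push Not at h0
  obtain ⟨m, hm0⟩ := h0
  have hm1 : m ≠ 0 := fun e => hm0 (by rw [e, hz0])
  have hm2 : m ≠ 1 := fun e => hm0 (by rw [e, h1])
  have hone : ∀ z : F, z ≠ 1 → (1 + z ^ 2) ≠ 0 := by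
    intro z hz h
    apply hz
    have h2 : (z + 1) ^ 2 = 0 := by
      have := two_self z
      linear_combination h + this
    have h3 := pow_eq_zero_iff (two_ne_zero) |>.1 h2
    have := two_self (1 : F)
    linear_combination h3 - this
  have htwo : (2 : F) = 0 := CharTwo.two_eq_zero
  obtain ⟨c, hc⟩ : ∃ c : F, c = m * α m / (1 + m ^ 2) := ⟨_, rfl⟩
  have hc0 : c ≠ 0 := by rw [hc]; exact div_ne_zero (mul_ne_zero hm1 hm0) (hone m hm2)
  have hval : ∀ z : F, z ≠ 0 → z * α z = c * (1 + z ^ 2) := by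
    intro z hz
    rw [hc, div_mul_eq_mul_div, eq_div_iff (hone m hm2)]
    exact sym z m hz hm1
  have hroot : ∀ z : F, z ≠ 0 → z ≠ 1 → z ^ 2 + z + 1 = 0 := by
    intro z hz hz1
    have h2 := hval z hz
    have h3 := hval (z + 1) (fun h => hz1 (by
      have := two_self (1 : F)
      linear_combination h - this))
    rw [ha, h1, add_zero] at h3
    have h4 : c * (z ^ 2 + z + 1) = 0 := by
      linear_combination -((z + 1) * h2 - z * h3) + c * (z + z ^ 2) * htwo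
    exact (mul_eq_zero.1 h4).resolve_left hc0
  refine ⟨c, hc0, ?_, ?_, m, ?_⟩
  · intro z
    by_cases hz : z = 0
    · rw [hz, hz0]; ring
    by_cases hz1 : z = 1
    · rw [hz1, h1]
      have := two_self c
      linear_combination - this
    · have h2 := hroot z hz hz1
      have h3 := hval z hz
      apply mul_left_cancel₀ hz
      rw [h3]
      linear_combination -c * (z - 1) * h2
  · intro z
    by_cases hz : z = 0
    · rw [hz]; ring
    by_cases hz1 : z = 1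
    · rw [hz1]; ring
    · have h2 := hroot z hz hz1
      have e1 := two_self z
      linear_combination (z ^ 2 - z) * h2
  · intro h
    have h2 := hroot m hm1 hm2
    have e1 := two_self m
    have : (1 : F) = 0 := by linear_combination h2 - h - e1
    exact one_ne_zero this

theorem apply_inv_self {X : Type*} (e : Equiv.Perm X) (x : X) : e (e⁻¹ x) = x := by
  rw [← Equiv.Perm.mul_apply, mul_inv_cancel]; rfl

theorem ap_up (a : F) (x : Fin 2 → F) : ap (up a) x = ![x 0 + a * x 1, x 1] := by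
  apply ext2
  · rw [ap_zero']; simp
  · rw [ap_one']; simp

/-- the unipotent elements of `Γ` -/
def uni (Γ : Subgroup (Equiv.Perm (Fin 2 → F))) : Subgroup (Equiv.Perm (Fin 2 → F)) where
  carrier := {γ | γ ∈ Γ ∧ ∃ α : F → F, ∀ v, γ v = ![v 0, v 1 + α (v 0)]}
  one_mem' := ⟨one_mem _, fun _ => 0, fun v => by
    apply ext2 <;> simp⟩
  mul_mem' := by
    rintro a b ⟨ha, α, hα⟩ ⟨hb, β, hβ⟩
    refine ⟨mul_mem ha hb, fun z => β z + α z, fun v => ?_⟩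
    rw [Equiv.Perm.mul_apply, hβ, hα]
    apply ext2
    · simp
    · simp only [Matrix.cons_val_zero, Matrix.cons_val_one]; ring
  inv_mem' := by
    rintro a ⟨ha, α, hα⟩
    refine ⟨inv_mem ha, α, fun v => ?_⟩
    apply a.injective
    rw [apply_inv_self, hα]
    apply ext2
    · simp
    · simp only [Matrix.cons_val_zero, Matrix.cons_val_one]
      rw [add_assoc, two_self, add_zero]

/-- the scalar unipotent elements of `Γ` -/
def sca (Γ : Subgroup (Equiv.Perm (Fin 2 → F))) : Subgroup (Equiv.Perm (Fin 2 → F)) where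
  carrier := {γ | γ ∈ Γ ∧ ∃ l : F, ∀ v, γ v = ![v 0, v 1 + l * v 0]}
  one_mem' := ⟨one_mem _, 0, fun v => by
    apply ext2 <;> simp⟩
  mul_mem' := by
    rintro a b ⟨ha, α, hα⟩ ⟨hb, β, hβ⟩
    refine ⟨mul_mem ha hb, β + α, fun v => ?_⟩
    rw [Equiv.Perm.mul_apply, hβ, hα]
    apply ext2
    · simp
    · simp only [Matrix.cons_val_zero, Matrix.cons_val_one]; ring
  inv_mem' := by
    rintro a ⟨ha, α, hα⟩
    refine ⟨inv_mem ha, α, fun v => ?_⟩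
    apply a.injective
    rw [apply_inv_self, hα]
    apply ext2
    · simp
    · simp only [Matrix.cons_val_zero, Matrix.cons_val_one]
      rw [add_assoc, two_self, add_zero]

theorem sca_le (Γ : Subgroup (Equiv.Perm (Fin 2 → F))) : sca Γ ≤ uni Γ := by
  rintro γ ⟨h1, l, h2⟩
  exact ⟨h1, fun z => l * z, h2⟩

theorem uni_sq {Γ : Subgroup (Equiv.Perm (Fin 2 → F))} {γ : Equiv.Perm (Fin 2 → F)} (h : γ ∈ uni Γ) : γ * γ = 1 := by
  obtain ⟨-, α, hα⟩ := h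
  apply Equiv.ext
  intro v
  rw [Equiv.Perm.mul_apply, hα, hα]
  apply ext2
  · simp
  · simp only [Matrix.cons_val_zero, Matrix.cons_val_one]
    rw [add_assoc, two_self, add_zero]
    rfl

/-- **(9d)** -/
theorem scalar [Finite F] (Γ : Subgroup (Equiv.Perm (Fin 2 → F)))
    (hadd : ∀ γ ∈ Γ, ∀ x y, γ (x + y) = γ x + γ y)
    (hSL : ∀ A : Matrix.SpecialLinearGroup (Fin 2) F, ∃ γ ∈ Γ, ∀ v, γ v = ap A v)
    (h2 : ∀ T : Subgroup (Equiv.Perm (Fin 2 → F)), T ≤ Γ → (∀ t ∈ T, t * t = 1) → Nat.card T ≤ 2 * Nat.card F)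
    (h4 : ∀ γ ∈ Γ, γ ^ 4 = 1 → γ ^ 2 = 1)
    {w : Equiv.Perm (Fin 2 → F)} (hw : w ∈ Γ) {α : F → F} (hα : ∀ v, w v = ![v 0, v 1 + α (v 0)]) :
    ∃ l : F, ∀ z, α z = l * z := by
  -- `α` is additive
  have ha : ∀ x y, α (x + y) = α x + α y := by
    intro x y
    have h := hadd w hw ![x, 0] ![y, 0]
    rw [hα, hα, hα] at h
    have h1 := congrFun h 1
    simpa using h1
  have hSfin : Finite (Equiv.Perm (Fin 2 → F)) := inferInstance
  -- the order of `sca Γ`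
  have hlo : ∀ l : F, ∃ γ ∈ sca Γ, ∀ v, γ v = ![v 0, v 1 + l * v 0] := by
    intro l
    obtain ⟨γ, hγ, h⟩ := hSL (lo l)
    have h' : ∀ v, γ v = ![v 0, v 1 + l * v 0] := fun v => by
      rw [h, ap_lo, add_comm]
    exact ⟨γ, ⟨hγ, l, h'⟩, h'⟩
  have hcard : Nat.card F ≤ Nat.card (sca Γ) := by
    choose φ hφ1 hφ2 using hlo
    refine Nat.card_le_card_of_injective (fun l => (⟨φ l, hφ1 l⟩ : sca Γ)) ?_
    intro l l' h
    have h1 : φ l = φ l' := congrArg Subtype.val h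
    have h3 : φ l ![1, 0] = φ l' ![1, 0] := by rw [h1]
    rw [hφ2, hφ2] at h3
    simpa using congrFun h3 1
  by_contra hcon
  have hwS : w ∉ sca Γ := by
    rintro ⟨-, l, hl⟩
    apply hcon
    refine ⟨l, fun z => ?_⟩
    have h3 := hl ![z, 0]
    rw [hα] at h3
    simpa using congrFun h3 1
  have hwU : w ∈ uni Γ := ⟨hw, α, hα⟩
  -- index 2
  have hidx : (sca Γ).relIndex (uni Γ) = 2 := by
    have h3 : Nat.card (uni Γ) ≤ 2 * Nat.card F := h2 _ (fun γ h => h.1) fun t ht => uni_sq ht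
    have h5 : Nat.card (sca Γ) * (sca Γ).relIndex (uni Γ) = Nat.card (uni Γ) := by
      rw [relIndex, ← Nat.card_congr (subgroupOfEquivOfLe (sca_le Γ)).toEquiv]
      exact card_mul_index _
    have h6 : (sca Γ).relIndex (uni Γ) ≠ 1 := fun h => hwS (relIndex_eq_one.1 h hwU)
    have h7 : (sca Γ).relIndex (uni Γ) ≠ 0 := index_ne_zero_of_finite
    have h8 : 0 < Nat.card F := Nat.card_pos
    have h9 : (sca Γ).relIndex (uni Γ) ≤ 2 := by
      by_contra hc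
      push Not at hc
      have h10 : Nat.card F * 3 ≤ Nat.card (sca Γ) * (sca Γ).relIndex (uni Γ) := Nat.mul_le_mul hcard hc
      omega
    omega
  have hmem : ∀ w' ∈ uni Γ, w * w' ∈ sca Γ ∨ w' ∈ sca Γ := by
    intro w' hw'
    by_contra hc
    push Not at hc
    have h3 := @mul_mem_iff_of_index_two _ _ _ hidx (⟨w, hwU⟩ : uni Γ) ⟨w', hw'⟩
    rw [mem_subgroupOf, mem_subgroupOf, mem_subgroupOf] at h3
    exact hc.1 (h3.2 ⟨fun h => absurd h hwS, fun h => absurd h hc.2⟩)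
  have hm : ∀ μ : F, μ ≠ 0 → ∃ c, (∀ z, μ * α (μ * z) = α z + c * z) ∨ (∀ z, μ * α (μ * z) = c * z) := by
    intro μ hμ
    obtain ⟨d, hd, hdv⟩ := hSL (dg μ⁻¹ (inv_ne_zero hμ))
    have hdv' : ∀ v, d v = ![μ⁻¹ * v 0, μ * v 1] := fun v => by rw [hdv, ap_dg, inv_inv]
    have hdi : ∀ v : Fin 2 → F, d⁻¹ v = ![μ * v 0, μ⁻¹ * v 1] := by
      intro v
      apply d.injective
      rw [apply_inv_self, hdv']
      apply ext2 <;> simp [hμ]
    have hw' : ∀ v, (d * w * d⁻¹) v = ![v 0, v 1 + μ * α (μ * v 0)] := by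
      intro v
      rw [Equiv.Perm.mul_apply, Equiv.Perm.mul_apply, hdi, hα, hdv']
      apply ext2
      · simp [hμ]
      · simp only [Matrix.cons_val_zero, Matrix.cons_val_one]
        rw [mul_add, mul_inv_cancel_left₀ hμ]
    have hwu' : d * w * d⁻¹ ∈ uni Γ := ⟨mul_mem (mul_mem hd hw) (inv_mem hd), fun z => μ * α (μ * z), hw'⟩
    rcases hmem _ hwu' with ⟨-, l, hl⟩ | ⟨-, l, hl⟩
    · refine ⟨l, Or.inl fun z => ?_⟩
      have h3 := hl ![z, 0]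
      rw [Equiv.Perm.mul_apply, hw', hα] at h3
      have h5 := congrFun h3 1
      simp only [Matrix.cons_val_zero, Matrix.cons_val_one, zero_add] at h5
      have h6 := two_self (α z)
      linear_combination h5 - h6
    · refine ⟨l, Or.inr fun z => ?_⟩
      have h3 := hl ![z, 0]
      rw [hw'] at h3
      simpa using congrFun h3 1
  -- normalise
  obtain ⟨a, haa⟩ : ∃ a, a = α 1 := ⟨_, rfl⟩
  have hβ := fun_core (α := fun z => α z - a * z) (fun x y => by rw [ha]; ring) (by rw [haa, mul_one, sub_self])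
    (by
      intro μ hμ
      obtain ⟨c, hc | hc⟩ := hm μ hμ
      · refine ⟨c + a - μ * (a * μ), Or.inl fun z => ?_⟩
        linear_combination hc z
      · refine ⟨c - μ * (a * μ), Or.inr fun z => ?_⟩
        linear_combination hc z)
  rcases hβ with hβ | ⟨c, hc0, hc, hz4, m, hm2⟩
  · exact hcon ⟨a, fun z => sub_eq_zero.1 (hβ z)⟩
  -- an element of order 4
  have hc' : ∀ z, α z = c * (z ^ 2 + z) + a * z := fun z => by
    have := hc z
    linear_combination this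
  obtain ⟨L, hL, hLv⟩ := hSL (lo a)
  obtain ⟨U, hU, hUv⟩ := hSL (up c⁻¹)
  have htwo : (2 : F) = 0 := CharTwo.two_eq_zero
  have hg : ∀ z y : F, (U * L * w) ![z, c * y] = ![y + z ^ 2, c * (y + z ^ 2 + z)] := by
    intro z y
    rw [Equiv.Perm.mul_apply, Equiv.Perm.mul_apply, hα, hLv, ap_lo, hUv, ap_up]
    simp only [Matrix.cons_val_zero, Matrix.cons_val_one]
    rw [hc']
    apply ext2
    · simp only [Matrix.cons_val_zero]
      field_simp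
      linear_combination (z * c + a * z) * htwo
    · simp only [Matrix.cons_val_one, Matrix.cons_val_zero]
      linear_combination (a * z) * htwo
  have hg2 : ∀ z y : F, ((U * L * w) ^ 2) ![z, c * y] = ![z ^ 2 + y ^ 2 + y, c * y ^ 2] := by
    intro z y
    rw [pow_two, Equiv.Perm.mul_apply, hg, hg]
    apply ext2
    · simp only [Matrix.cons_val_zero]
      linear_combination hz4 z + (z + z ^ 2 * y) * htwo
    · simp only [Matrix.cons_val_one, Matrix.cons_val_zero]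
      linear_combination c * hz4 z + (c * (z + z ^ 2 + y + z ^ 2 * y)) * htwo
  have hgΓ : U * L * w ∈ Γ := mul_mem (mul_mem hU hL) hw
  have hg4 : (U * L * w) ^ 4 = 1 := by
    apply Equiv.ext
    intro v
    have e : v = ![v 0, c * (c⁻¹ * v 1)] := by
      apply ext2
      · rfl
      · simp [hc0]
    have e4 : (U * L * w) ^ 4 = (U * L * w) ^ 2 * (U * L * w) ^ 2 := by rw [← pow_add]
    rw [e4, Equiv.Perm.mul_apply]
    show ((U * L * w) ^ 2) (((U * L * w) ^ 2) v) = v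
    conv_lhs => rw [e]
    rw [hg2, hg2]
    have h5 := hz4 (c⁻¹ * v 1)
    have h6 := hz4 (v 0)
    apply ext2
    · simp only [Matrix.cons_val_zero]
      linear_combination h6 + (((c⁻¹ * v 1) ^ 4 + (c⁻¹ * v 1) ^ 2 + (v 0) ^ 2 * (c⁻¹ * v 1) ^ 2 +
        (v 0) ^ 2 * (c⁻¹ * v 1) + (c⁻¹ * v 1) ^ 3)) * htwo
    · simp only [Matrix.cons_val_one, Matrix.cons_val_zero]
      calc c * ((c⁻¹ * v 1) ^ 2) ^ 2 = c * (c⁻¹ * v 1) ^ 4 := by ring
        _ = c * (c⁻¹ * v 1) := by rw [h5]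
        _ = v 1 := by rw [mul_inv_cancel_left₀ hc0]
  have h5 := h4 _ hgΓ hg4
  have h6 := hg2 0 m
  rw [h5] at h6
  have h7 := congrFun h6 1
  have h8 : c * m = c * m ^ 2 := h7
  exact hm2 (mul_left_cancel₀ hc0 h8).symm

/-! ### The group version -/

section act

variable {G : Type*} [Group G] {Y B X : Subgroup G} {π : G → Fin 2 → F}

omit [CharP F 2] in
theorem pi_conj (hmul : ∀ y ∈ Y, ∀ y' ∈ Y, π (y * y') = π y + π y') (hker : ∀ y ∈ Y, π y = 0 ↔ y ∈ B)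
    {x : G} (hxY : ∀ y ∈ Y, x * y * x⁻¹ ∈ Y) (hxB : ∀ y ∈ B, x * y * x⁻¹ ∈ B) {y y' : G} (hy : y ∈ Y) (hy' : y' ∈ Y)
    (h : π y = π y') : π (x * y * x⁻¹) = π (x * y' * x⁻¹) := by
  have h1 : π (y⁻¹ * y') = 0 := by
    have h2 := hmul y hy (y⁻¹ * y') (mul_mem (inv_mem hy) hy')
    rw [mul_inv_cancel_left, ← h] at h2
    exact left_eq_add.1 h2
  have h2 : y⁻¹ * y' ∈ Y := mul_mem (inv_mem hy) hy'
  have h3 : y⁻¹ * y' ∈ B := (hker _ h2).1 h1
  have h4 := hxB _ h3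
  have h5 : π (x * (y⁻¹ * y') * x⁻¹) = 0 := (hker _ (hxY _ h2)).2 h4
  have e : x * y' * x⁻¹ = x * y * x⁻¹ * (x * (y⁻¹ * y') * x⁻¹) := by group
  rw [e, hmul _ (hxY _ hy) _ (hxY _ h2), h5, add_zero]

/-- **(9d)** in the group: `X` acts on `Y / B ≅ F²` (coordinates `π`). -/
theorem scalar_of_act [Finite G] [Finite F] (hmul : ∀ y ∈ Y, ∀ y' ∈ Y, π (y * y') = π y + π y')
    (hker : ∀ y ∈ Y, π y = 0 ↔ y ∈ B) (hsurj : ∀ v : Fin 2 → F, ∃ y ∈ Y, π y = v)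
    (hXY : ∀ x ∈ X, ∀ y ∈ Y, x * y * x⁻¹ ∈ Y) (hXB : ∀ x ∈ X, ∀ y ∈ B, x * y * x⁻¹ ∈ B)
    (hSL : ∀ A : Matrix.SpecialLinearGroup (Fin 2) F, ∃ x ∈ X, ∀ y ∈ Y, π (x * y * x⁻¹) = ap A (π y))
    (C : Subgroup G) (hC : ∀ c ∈ C, ∀ y ∈ Y, π (c * y * c⁻¹) = π y)
    (h2 : ∀ T : Subgroup G, T ≤ X → IsPGroup 2 T → C.relIndex T ≤ 2 * Nat.card F)
    (h4 : ∀ T : Subgroup G, T ≤ X → IsPGroup 2 T → ∀ x ∈ T, x * x ∈ C)
    {w : G} (hw : w ∈ X) {α : F → F} (hα : ∀ y ∈ Y, π (w * y * w⁻¹) = ![π y 0, π y 1 + α (π y 0)]) :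
    ∃ l : F, ∀ z, α z = l * z := by
  classical
  have hp2 : Fact (Nat.Prime 2) := ⟨Nat.prime_two⟩
  choose s hsY hs using hsurj
  have hdep : ∀ x ∈ X, ∀ y ∈ Y, π (x * s (π y) * x⁻¹) = π (x * y * x⁻¹) := fun x hx y hy =>
    pi_conj hmul hker (hXY x hx) (hXB x hx) (hsY _) hy (hs _)
  let f : X → (Fin 2 → F) → (Fin 2 → F) := fun x v => π (x * s v * (x : G)⁻¹)
  have hf : ∀ (x : X) (y : G), y ∈ Y → f x (π y) = π (x * y * (x : G)⁻¹) := fun x y hy => hdep x x.2 y hy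
  have hfm : ∀ (x x' : X) (v : Fin 2 → F), f (x * x') v = f x (f x' v) := by
    intro x x' v
    have h1 : f x' v = π (x' * s v * (x' : G)⁻¹) := rfl
    rw [h1, hf x _ (hXY x' x'.2 _ (hsY v))]
    show π ((x * x' : G) * s v * (x * x' : G)⁻¹) = _
    congr 1; group
  have hf1 : ∀ v, f 1 v = v := by
    intro v
    show π ((1 : G) * s v * (1 : G)⁻¹) = v
    rw [one_mul, inv_one, mul_one, hs]
  let ρ : X →* Equiv.Perm (Fin 2 → F) :=
    MonoidHom.mk' (fun x => ⟨f x, f x⁻¹, fun v => by rw [← hfm, inv_mul_cancel, hf1], fun v => by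
      rw [← hfm, mul_inv_cancel, hf1]⟩) (fun x x' => Equiv.ext fun v => hfm x x' v)
  have hρ : ∀ (x : X) (y : G), y ∈ Y → ρ x (π y) = π (x * y * (x : G)⁻¹) := hf
  have hρC : ∀ x : X, (x : G) ∈ C → ρ x = 1 := by
    intro x hx
    apply Equiv.ext
    intro v
    have h1 := hρ x (s v) (hsY v)
    rw [hs, hC _ hx _ (hsY v), hs] at h1
    exact h1
  -- 2-subgroups of the image lift
  have hlift : ∀ T' : Subgroup (Equiv.Perm (Fin 2 → F)), T' ≤ ρ.range → IsPGroup 2 T' →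
      ∃ T : Subgroup G, T ≤ X ∧ IsPGroup 2 T ∧ (∀ t' ∈ T', ∃ x : X, (x : G) ∈ T ∧ ρ x = t') ∧
        ∀ x : X, (x : G) ∈ T → ρ x ∈ T' := by
    intro T' hT' hp
    let K : Subgroup X := T'.comap ρ
    let g : K →* T' := (ρ.comp K.subtype).codRestrict T' fun k => k.2
    have hg : Function.Surjective g := by
      rintro ⟨t', ht'⟩
      obtain ⟨x, hx⟩ := hT' ht'
      exact ⟨⟨x, by show ρ x ∈ T'; rw [hx]; exact ht'⟩, Subtype.ext hx⟩
    obtain ⟨Q⟩ : Nonempty (Sylow 2 K) := inferInstance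
    have hQ : (Q.mapSurjective hg : Subgroup T') = ⊤ := by
      have h1 : IsPGroup 2 (⊤ : Subgroup T') := hp.to_subgroup ⊤
      exact ((Q.mapSurjective hg).is_maximal' h1 le_top).symm
    refine ⟨((Q : Subgroup K).map K.subtype).map X.subtype, ?_, ?_, ?_, ?_⟩
    · rintro _ ⟨x, -, rfl⟩
      exact x.2
    · exact (Q.isPGroup'.map K.subtype).map X.subtype
    · intro t' ht'
      have h1 : (⟨t', ht'⟩ : T') ∈ (Q.mapSurjective hg : Subgroup T') := by rw [hQ]; exact mem_top _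
      obtain ⟨k, hk, hk'⟩ := h1
      exact ⟨k, ⟨k, ⟨k, hk, rfl⟩, rfl⟩, congrArg Subtype.val hk'⟩
    · rintro x ⟨x', ⟨k, hk, hkx⟩, hx'⟩
      have e : x' = x := Subtype.ext hx'
      rw [← e, ← hkx]
      exact k.2
  refine scalar ρ.range ?_ ?_ ?_ ?_ (w := ρ ⟨w, hw⟩) ⟨⟨w, hw⟩, rfl⟩ (α := α) ?_
  · rintro _ ⟨x, rfl⟩ v v'
    have h1 := hρ x (s v * s v') (mul_mem (hsY v) (hsY v'))
    rw [hmul _ (hsY v) _ (hsY v'), hs, hs] at h1
    rw [h1]
    have e : (x : G) * (s v * s v') * (x : G)⁻¹ = (x * s v * (x : G)⁻¹) * (x * s v' * (x : G)⁻¹) := by group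
    rw [e, hmul _ (hXY x x.2 _ (hsY v)) _ (hXY x x.2 _ (hsY v'))]
    rfl
  · intro A
    obtain ⟨x, hx, h1⟩ := hSL A
    refine ⟨ρ ⟨x, hx⟩, ⟨⟨x, hx⟩, rfl⟩, fun v => ?_⟩
    have h3 := h1 (s v) (hsY v)
    rw [hs] at h3
    exact h3
  · intro T' hT' hsq
    have hp : IsPGroup 2 T' := fun t => ⟨1, by
      apply Subtype.ext
      rw [pow_one, pow_two]
      exact hsq t t.2⟩
    obtain ⟨T, hTX, hTp, hT1, hT2⟩ := hlift T' hT' hp
    refine le_trans ?_ (h2 T hTX hTp)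
    -- `T → T'` factors through `T / (T ∩ C)`
    let θ : T →* T' := MonoidHom.mk' (fun t => ⟨ρ ⟨t, hTX t.2⟩, hT2 _ t.2⟩) (fun a b => Subtype.ext (by
      show ρ (⟨a, hTX a.2⟩ * ⟨b, hTX b.2⟩) = _
      rw [map_mul]; rfl))
    have hθ : Function.Surjective θ := by
      rintro ⟨t', ht'⟩
      obtain ⟨x, hx, hx'⟩ := hT1 t' ht'
      exact ⟨⟨x, hx⟩, Subtype.ext hx'⟩
    have hk : C.subgroupOf T ≤ θ.ker := by
      intro t ht
      rw [MonoidHom.mem_ker]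
      exact Subtype.ext (hρC ⟨t, hTX t.2⟩ ht)
    have h3 : Nat.card T' = θ.ker.index := by
      rw [Subgroup.index_ker, MonoidHom.range_eq_top.2 hθ, Subgroup.card_top]
    rw [h3, relIndex]
    exact Nat.le_of_dvd (Nat.pos_of_ne_zero index_ne_zero_of_finite) (index_dvd_of_le hk)
  · rintro _ ⟨x, rfl⟩ hx4
    have hp : IsPGroup 2 (zpowers (ρ x)) := by
      rintro ⟨_, ⟨k, rfl⟩⟩
      refine ⟨2, Subtype.ext ?_⟩
      show ((ρ x) ^ k) ^ (2 ^ 2) = 1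
      rw [← zpow_natCast, ← zpow_mul, mul_comm, zpow_mul, zpow_natCast]
      norm_num
      rw [hx4, one_zpow]
    have hle : zpowers (ρ x) ≤ ρ.range := by
      rw [zpowers_le]; exact ⟨x, rfl⟩
    obtain ⟨T, hTX, hTp, hT1, -⟩ := hlift _ hle hp
    obtain ⟨x', hx', e⟩ := hT1 _ (mem_zpowers _)
    have h5 := hρC (x' * x') (h4 T hTX hTp x' hx')
    rw [map_mul, e] at h5
    rw [pow_two, h5]
  · intro v
    have h3 := hα (s v) (hsY v)
    rw [hs] at h3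
    exact h3

end act

end Cfsg.Agent.Omega.HOne.NSK

end

-- merged: Cfsg.Agent.Mrg.Omega.IId.Ns.NineB
section

section


/-!
# II.d, `k = 2`, nonsplit: the group `GG = ⟨X, w, T ∩ C⟩` on `Y = A (w A w⁻¹) = A B`
-/

set_option autoImplicit false
set_option linter.unusedSectionVars false

namespace Cfsg.Agent.Omega.IId.Ns

open Subgroup Cfsg Cfsg.Agent.ZN Cfsg.Agent.Lib.SL2Mat
open Cfsg.Agent.Omega.HOne.NSMod Cfsg.Agent.Omega.HOne.NSSide Cfsg.Agent.Omega.HOne.NSPair Cfsg.Agent.Omega.HOne.NSDat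
open Cfsg.Agent.Omega.NatPair (ap ap_add ap_mul ap_one ap_inj ext2 ap_zero' ap_one' ap_inv_ap ap_ap_inv)
open Cfsg.Agent.Omega.BTwo (cj mem_cj conj_mem_cj card_cj cj_mul isPGroup_cj mem_normalizer_of_conj)

universe u

variable {G : Type u} [Group G] {F : Type} [Field F]
  {T T' L L' A A' U U' : Subgroup G} {π π' : G → Fin 2 → F} {e f g e' f' g' : F → G} {s : G → F}

/-- The situation of (9): `w ∈ C`, `w ∈ N(T) - T`, `T⟨w⟩` a 2-group. -/
structure NW (T T' L L' A A' U U' : Subgroup G) (π π' : G → Fin 2 → F) (e f g e' f' g' : F → G) (s : G → F)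
    (w n : G) : Prop where
  b : Base T T' L L' A A' U U' π π' e f g e' f' g'
  c : Core T L A A' U U' π e g s
  O' : A' ≤ o2 (CC U U')
  wC : w ∈ CC U U'
  wT : w ∈ normalizer (T : Set G)
  w2 : w * w ∈ T
  tw : IsPGroup 2 ↥(T ⊔ zpowers w)
  nT : w ∉ T
  hn : Is L A U π n (wm 1 one_ne_zero)

namespace NW

variable [Finite G] [Finite F] {w n : G} (h : NW T T' L L' A A' U U' π π' e f g e' f' g' s w n)

/-- `Y = A (w A w⁻¹)` -/
def Y (A : Subgroup G) (w : G) : Subgroup G := A ⊔ cj w A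

/-- `B = C_Y(X)` -/
def B (A A' U : Subgroup G) (w n : G) : Subgroup G := Y A w ⊓ K0 A A' U n

/-- `S₀ = T ∩ C` -/
def S0 (T U U' : Subgroup G) : Subgroup G := T ⊓ CC U U'

/-- `X = ⟨A', n⁻¹ A' n⟩` -/
def X (A' : Subgroup G) (n : G) : Subgroup G := A' ⊔ cj n⁻¹ A'

/-- `GG = ⟨X, T ∩ C, w⟩` -/
def GG (T A' U U' : Subgroup G) (w n : G) : Subgroup G := X A' n ⊔ (S0 T U U' ⊔ zpowers w)

/-- the kernel on `Y` -/
def KK (T A A' U U' : Subgroup G) (w n : G) : Subgroup G := GG T A' U U' w n ⊓ centralizer (Y A w : Set G)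

include h

theorem nM : n ∈ centralizer (U : Set G) := mem_centralizer_iff.2 fun u hu => (h.hn.cen u hu).symm

theorem nM' : n⁻¹ ∈ centralizer (U : Set G) := inv_mem h.nM

theorem AY : A ≤ Y A w := le_sup_left

theorem wAY {a : G} (ha : a ∈ A) : w * a * w⁻¹ ∈ Y A w := le_sup_right (a := A) (conj_mem_cj ha)

theorem Y_le : Y A w ≤ UG A U :=
  sup_le h.c.AU (by rintro _ ⟨a, ha, rfl⟩; exact h.c.MU w h.wC.1 a (h.c.AU ha))

theorem Yc {x y : G} (hx : x ∈ Y A w) (hy : y ∈ Y A w) : x * y = y * x := h.c.ab x (h.Y_le hx) y (h.Y_le hy)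

/-- `T` normalises `C` -/
theorem TC {t : G} (ht : t ∈ T) {x : G} (hx : x ∈ CC U U') : t * x * t⁻¹ ∈ CC U U' := by
  have hU : ∀ y ∈ T, ∀ u ∈ U, y * u * y⁻¹ ∈ U := fun y hy u hu => h.b.p.s.r.Dn y (h.b.TL hy) u hu
  have hU' : ∀ y ∈ T, ∀ u ∈ U', y * u * y⁻¹ ∈ U' := by
    intro y hy u hu
    obtain ⟨z, rfl⟩ := h.b.p.φ'.ND u (h.b.p.s'.r.DV hu) hu
    -- `g'(F) = e(F)`
    have hsurj : ∀ z, ∃ y, g' z = e y := by
      choose θ hθ using h.b.c1
      have hθi : Function.Injective θ := fun x y hxy => h.b.p.φ.e_inj h.b.p.s.r (by rw [hθ, hθ, hxy])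
      intro z
      obtain ⟨x, rfl⟩ := Finite.surjective_of_injective hθi z
      exact ⟨x, (hθ x).symm⟩
    obtain ⟨x, hx⟩ := hsurj z
    rw [hx]
    obtain ⟨z', hz'⟩ := h.b.p.norm_e h.b.g1 hy x
    rw [hz']; exact h.b.eU' z'
  refine ⟨mem_centralizer_iff.2 fun u hu => ?_, mem_centralizer_iff.2 fun u hu => ?_⟩
  · have h1 := hU t⁻¹ (inv_mem ht) u hu
    rw [inv_inv] at h1
    have h2 := cc_l hx h1
    calc u * (t * x * t⁻¹) = t * ((t⁻¹ * u * t) * x) * t⁻¹ := by group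
      _ = t * (x * (t⁻¹ * u * t)) * t⁻¹ := by rw [h2]
      _ = _ := by group
  · have h1 := hU' t⁻¹ (inv_mem ht) u hu
    rw [inv_inv] at h1
    have h2 := cc_r hx h1
    calc u * (t * x * t⁻¹) = t * ((t⁻¹ * u * t) * x) * t⁻¹ := by group
      _ = t * (x * (t⁻¹ * u * t)) * t⁻¹ := by rw [h2]
      _ = _ := by group

/-- `w` normalises `S₀` -/
theorem wS {y : G} (hy : y ∈ S0 T U U') : w * y * w⁻¹ ∈ S0 T U U' :=
  mem_inf.2 ⟨(mem_normalizer_iff.1 h.wT y).1 hy.1, mul_mem (mul_mem h.wC hy.2) (inv_mem h.wC)⟩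

theorem wS' {y : G} (hy : y ∈ S0 T U U') : w⁻¹ * y * w ∈ S0 T U U' := by
  have h1 := (mem_normalizer_iff.1 (inv_mem h.wT) y).1 hy.1
  rw [inv_inv] at h1
  exact mem_inf.2 ⟨h1, mul_mem (mul_mem (inv_mem h.wC) hy.2) h.wC⟩

theorem wwS : w * w ∈ S0 T U U' := ⟨h.w2, mul_mem h.wC h.wC⟩

/-- `C_T(A)` centralises `Y` -/
theorem QY {q : G} (hq : q ∈ T ⊓ centralizer (A : Set G)) {y : G} (hy : y ∈ Y A w) : q * y = y * q := by
  have h1 : Y A w ≤ centralizer ({q} : Set G) := by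
    refine sup_le (fun a ha => ?_) ?_
    · rw [mem_centralizer_iff]
      rintro _ rfl
      exact (mem_centralizer_iff.1 hq.2 a ha).symm
    · rintro _ ⟨a, ha, rfl⟩
      change w * a * w⁻¹ ∈ _
      rw [mem_centralizer_iff]
      rintro _ rfl
      exact comm_Q h.b h.c h.O' h.wC h.wT hq ha
  exact mem_centralizer_iff.1 (h1 hy) q rfl

/-- `S₀` acts on `Y` as `A'` -/
theorem actS {y : G} (hy : y ∈ S0 T U U') : ∃ t : F, (∀ v ∈ A, y * v * y⁻¹ = e (t ^ 2 * π v 0) * g (t * π v 0) * v) ∧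
    ∀ u ∈ Y A w, y * u * y⁻¹ = e (t ^ 2 * s u) * g (t * s u) * u := by
  obtain ⟨t, ht⟩ := h.b.tau hy.1 hy.2
  refine ⟨t, ht, fun u hu => ?_⟩
  obtain ⟨k, hk, hkI⟩ := h.b.exists_n t
  have hq : k⁻¹ * y ∈ T ⊓ centralizer (A : Set G) := by
    refine mem_inf.2 ⟨mul_mem (inv_mem (h.b.A'T hk)) hy.1, mem_centralizer_iff.2 fun v hv => ?_⟩
    have h1 := ht v hv
    have h2 := h.b.act_n hkI hv
    have h3 : k⁻¹ * (y * v * y⁻¹) * k = v := by
      rw [h1, ← h2]; group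
    calc v * (k⁻¹ * y) = (k⁻¹ * (y * v * y⁻¹) * k) * (k⁻¹ * y) := by rw [h3]
      _ = _ := by group
  have h4 := h.QY hq hu
  have h5 := h.c.s_act t k hk hkI u (h.Y_le hu)
  calc y * u * y⁻¹ = k * ((k⁻¹ * y) * u) * (k⁻¹ * y)⁻¹ * k⁻¹ := by group
    _ = k * u * k⁻¹ := by rw [h4]; group
    _ = _ := h5

/-- the parameter is determined -/
theorem t_inj {t t' : F} (h1 : e (t ^ 2 * π (f 1) 0) * g (t * π (f 1) 0) = e (t' ^ 2 * π (f 1) 0) * g (t' * π (f 1) 0)) :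
    t = t' := by
  have hf : π (f 1) 0 = 1 := by rw [h.b.p.φ.fπ]; rfl
  rw [hf, mul_one, mul_one, mul_one, mul_one] at h1
  have h2 := (h.b.p.φ.eg_inj h.b.p.s.r h1).1
  have two := h.b.p.s.r.two
  have h3 : (t - t') ^ 2 = 0 := by linear_combination h2 + (t' ^ 2 - t * t') * two
  exact sub_eq_zero.1 (pow_eq_zero_iff two_ne_zero |>.1 h3)

/-- `Y = A B` -/
theorem Y_dec {u : G} (hu : u ∈ Y A w) : ∃ a ∈ A, ∃ k ∈ B A A' U w n, u = a * k := by
  have hBA : B A A' U w n ≤ normalizer (A : Set G) := by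
    intro k hk
    rw [mem_normalizer_iff]
    intro a
    constructor
    · intro ha
      rw [h.Yc hk.1 (h.AY ha), mul_inv_cancel_right]; exact ha
    · intro ha
      have h1 := h.Yc hk.1 (h.AY ha)
      have h2 : a = k⁻¹ * (k * a * k⁻¹) * k := by group
      have h3 : k⁻¹ * (k * a * k⁻¹) * k = k * a * k⁻¹ := by
        rw [mul_assoc, ← h1, inv_mul_cancel_left]
      rw [h2, h3]; exact ha
  have h1 : Y A w ≤ A ⊔ B A A' U w n := by
    refine sup_le le_sup_left ?_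
    rintro _ ⟨a, ha, rfl⟩
    change w * a * w⁻¹ ∈ _
    have haU := h.c.AU ha
    have hwa : w * a * w⁻¹ ∈ UG A U := h.c.MU w h.wC.1 a haU
    have hd : a⁻¹ * (w * a * w⁻¹) ∈ UG A U := mul_mem (inv_mem haU) hwa
    have hs : s (a⁻¹ * (w * a * w⁻¹)) = 0 := by
      rw [h.c.s_add _ (inv_mem haU) _ hwa, h.c.s_conj w h.wC a ha, h.c.s_A _ (inv_mem ha), h.b.p.s.r.map_inv ha]
      simp
    obtain ⟨z, hz⟩ := dec_ker h.b h.c h.hn hd hs
    have e1 : w * a * w⁻¹ = (a * e z) * ((e z)⁻¹ * (a⁻¹ * (w * a * w⁻¹))) := by group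
    rw [e1]
    refine mul_mem (le_sup_left (a := A) (mul_mem ha (h.b.eA z))) (le_sup_right (a := A) (mem_inf.2 ⟨?_, hz⟩))
    exact mul_mem (inv_mem (h.AY (h.b.eA z))) (mul_mem (inv_mem (h.AY ha)) (h.wAY ha))
  have h2 : u ∈ ((A ⊔ B A A' U w n : Subgroup G) : Set G) := h1 hu
  rw [coe_mul_of_right_le_normalizer_left _ _ hBA] at h2
  obtain ⟨a, ha, k, hk, rfl⟩ := h2
  exact ⟨a, ha, k, hk, rfl⟩

/-- `s = 0` on `B` -/
theorem sB {k : G} (hk : k ∈ B A A' U w n) : s k = 0 :=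
  ((mem_K0_iff h.b h.c h.hn (h.Y_le hk.1)).1 hk.2).1

/-- `X` centralises `B` -/
theorem XB {x : G} (hx : x ∈ X A' n) {k : G} (hk : k ∈ B A A' U w n) : x * k = k * x := by
  have h1 : X A' n ≤ centralizer ({k} : Set G) := by
    refine sup_le (fun a ha => ?_) (fun a ha => ?_)
    · rw [mem_centralizer_iff]
      rintro _ rfl
      exact ((mem_K0.1 hk.2).2.1 a ha).symm
    · rw [mem_centralizer_iff]
      rintro _ rfl
      exact (mem_centralizer_iff.1 hk.2.2 a ha).symm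
  exact (mem_centralizer_iff.1 (h1 hx) k rfl).symm

/-- `X ≤ L` -/
theorem XL : X A' n ≤ L :=
  sup_le (h.b.A'T.trans h.b.TL) (by
    rintro _ ⟨a, ha, rfl⟩
    exact mul_mem (mul_mem (inv_mem h.hn.mem) (h.b.TL (h.b.A'T ha))) (by simpa using h.hn.mem))

/-- `X ≤ C(U)` -/
theorem XM : X A' n ≤ centralizer (U : Set G) :=
  sup_le (fun a ha => (h.b.A'C ha).1) (by
    rintro _ ⟨a, ha, rfl⟩
    exact mul_mem (mul_mem h.nM' (h.b.A'C ha).1) (inv_mem h.nM'))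

/-- `X` normalises `Y` -/
theorem XY {x : G} (hx : x ∈ X A' n) {u : G} (hu : u ∈ Y A w) : x * u * x⁻¹ ∈ Y A w := by
  obtain ⟨a, ha, k, hk, rfl⟩ := h.Y_dec hu
  have h1 : x * a * x⁻¹ ∈ A := h.b.p.s.r.Vn x (h.XL hx) a ha
  have e1 : x * (a * k) * x⁻¹ = (x * a * x⁻¹) * (x * k * x⁻¹) := by group
  rw [e1, fix_of_comm (h.XB hx hk)]
  exact mul_mem (h.AY h1) hk.1

theorem SY {x : G} (hx : x ∈ S0 T U U') {u : G} (hu : u ∈ Y A w) : x * u * x⁻¹ ∈ Y A w := by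
  obtain ⟨t, -, h1⟩ := h.actS hx
  rw [h1 u hu]
  exact mul_mem (mul_mem (h.AY (h.b.eA _)) (h.AY (h.b.gA _))) hu

theorem wY {u : G} (hu : u ∈ Y A w) : w * u * w⁻¹ ∈ Y A w := by
  have h1 : cj w (Y A w) ≤ Y A w := by
    unfold Y
    rw [BTwo.cj_sup]
    refine sup_le le_sup_right ?_
    rintro _ ⟨_, ⟨a, ha, rfl⟩, rfl⟩
    change w * (w * a * w⁻¹) * w⁻¹ ∈ _
    have e1 : w * (w * a * w⁻¹) * w⁻¹ = (w * w) * a * (w * w)⁻¹ := by group
    rw [e1]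
    exact le_sup_left (a := A) (h.b.p.s.r.Vn _ (h.b.TL h.w2) a ha)
  exact h1 (conj_mem_cj hu)

/-- `GG` normalises `Y` -/
theorem GY : GG T A' U U' w n ≤ normalizer (Y A w : Set G) := by
  refine sup_le (fun x hx => mem_normalizer_of_conj fun u hu => h.XY hx hu)
    (sup_le (fun x hx => mem_normalizer_of_conj fun u hu => h.SY hx hu) ?_)
  rw [zpowers_le]
  exact mem_normalizer_of_conj fun u hu => h.wY hu

theorem GY' {x : G} (hx : x ∈ GG T A' U U' w n) {u : G} (hu : u ∈ Y A w) : x * u * x⁻¹ ∈ Y A w :=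
  (mem_normalizer_iff.1 (h.GY hx) u).1 hu

theorem GM : GG T A' U U' w n ≤ centralizer (U : Set G) :=
  sup_le h.XM (sup_le (fun _ hx => hx.2.1) (by rw [zpowers_le]; exact h.wC.1))

theorem XG : X A' n ≤ GG T A' U U' w n := le_sup_left

theorem SG : S0 T U U' ≤ GG T A' U U' w n := le_sup_left.trans le_sup_right

theorem wG : w ∈ GG T A' U U' w n :=
  (le_sup_right.trans (le_sup_right (a := X A' n)) : zpowers w ≤ GG T A' U U' w n) (mem_zpowers w)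

theorem ShG : S0 T U U' ⊔ zpowers w ≤ GG T A' U U' w n := le_sup_right

theorem KG : KK T A A' U U' w n ≤ GG T A' U U' w n := inf_le_left

theorem mem_KK {x : G} : x ∈ KK T A A' U U' w n ↔ x ∈ GG T A' U U' w n ∧ ∀ u ∈ Y A w, x * u = u * x := by
  unfold KK
  rw [mem_inf, mem_centralizer_iff]
  exact ⟨fun ⟨h1, h2⟩ => ⟨h1, fun u hu => (h2 u hu).symm⟩, fun ⟨h1, h2⟩ => ⟨h1, fun u hu => (h2 u hu).symm⟩⟩

/-- `KK` is normal in `GG` -/
theorem GK : GG T A' U U' w n ≤ normalizer (KK T A A' U U' w n : Set G) := by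
  intro x hx
  refine mem_normalizer_of_conj fun k hk => ?_
  rw [h.mem_KK] at hk ⊢
  refine ⟨mul_mem (mul_mem hx hk.1) (inv_mem hx), fun u hu => ?_⟩
  have h1 : x⁻¹ * u * x ∈ Y A w := by
    have := h.GY' (inv_mem hx) hu
    rwa [inv_inv] at this
  have h2 := hk.2 _ h1
  calc x * k * x⁻¹ * u = x * (k * (x⁻¹ * u * x)) * x⁻¹ := by group
    _ = x * (x⁻¹ * u * x * k) * x⁻¹ := by rw [h2]
    _ = _ := by group

/-- `C_T(A) ≤ KK` -/
theorem QK : T ⊓ centralizer (A : Set G) ≤ KK T A A' U U' w n := by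
  intro q hq
  rw [h.mem_KK]
  exact ⟨h.SG ⟨hq.1, h.b.QC hq⟩, fun u hu => h.QY hq hu⟩

end NW

end Cfsg.Agent.Omega.IId.Ns

end

section


/-!
# II.d, `k = 2`, nonsplit: (9c) `w² ∈ KK`
-/

set_option autoImplicit false
set_option linter.unusedSectionVars false

namespace Cfsg.Agent.Omega.IId.Ns

open Subgroup Cfsg Cfsg.Agent.ZN Cfsg.Agent.Lib.SL2Mat
open Cfsg.Agent.Omega.HOne.NSMod Cfsg.Agent.Omega.HOne.NSSide Cfsg.Agent.Omega.HOne.NSPair Cfsg.Agent.Omega.HOne.NSDat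
open Cfsg.Agent.Omega.NatPair (ap ap_add ap_mul ap_one ap_inj ext2 ap_zero' ap_one' ap_inv_ap ap_ap_inv)
open Cfsg.Agent.Omega.BTwo (cj mem_cj conj_mem_cj card_cj cj_mul mem_normalizer_of_conj cj_eq_self_iff)

universe u

variable {G : Type u} [Group G] {F : Type} [Field F]
  {T T' L L' A A' U U' : Subgroup G} {π π' : G → Fin 2 → F} {e f g e' f' g' : F → G} {s : G → F}

/-- the elements of `H` commuting with `y` modulo `K` -/
def cenMod (H K : Subgroup G) (hK : H ≤ normalizer (K : Set G)) (y : G) : Subgroup G where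
  carrier := {c | c ∈ H ∧ c * y * c⁻¹ * y⁻¹ ∈ K}
  one_mem' := ⟨one_mem _, by simp⟩
  mul_mem' := by
    rintro c d ⟨hc, hc'⟩ ⟨hd, hd'⟩
    refine ⟨mul_mem hc hd, ?_⟩
    have e1 : c * d * y * (c * d)⁻¹ * y⁻¹ = c * (d * y * d⁻¹ * y⁻¹) * c⁻¹ * (c * y * c⁻¹ * y⁻¹) := by group
    rw [e1]
    exact mul_mem ((mem_normalizer_iff.1 (hK hc) _).1 hd') hc'
  inv_mem' := by
    rintro c ⟨hc, hc'⟩
    refine ⟨inv_mem hc, ?_⟩
    have e1 : c⁻¹ * y * c⁻¹⁻¹ * y⁻¹ = (c⁻¹ * (c * y * c⁻¹ * y⁻¹) * c⁻¹⁻¹)⁻¹ := by group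
    rw [e1]
    exact inv_mem ((mem_normalizer_iff.1 (hK (inv_mem hc)) _).1 hc')

theorem Base.U'_e [Finite F] (b : Base T T' L L' A A' U U' π π' e f g e' f' g') {u : G} (hu : u ∈ U') :
    ∃ z, u = e z := by
  obtain ⟨z, rfl⟩ := b.p.φ'.ND u (b.p.s'.r.DV hu) hu
  choose θ hθ using b.c1
  have hθi : Function.Injective θ := fun x y hxy => b.p.φ.e_inj b.p.s.r (by rw [hθ, hθ, hxy])
  obtain ⟨x, rfl⟩ := Finite.surjective_of_injective hθi z
  exact ⟨x, (hθ x).symm⟩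

theorem Base.U_g (b : Base T T' L L' A A' U U' π π' e f g e' f' g') {u : G} (hu : u ∈ U) :
    ∃ z, u = g z := b.p.φ.ND u (b.p.s.r.DV hu) hu

namespace NW

variable [Finite G] [Finite F] {w n : G} (h : NW T T' L L' A A' U U' π π' e f g e' f' g' s w n)

/-- `Sh = S₀ ⟨w⟩` -/
def Sh (T U U' : Subgroup G) (w : G) : Subgroup G := S0 T U U' ⊔ zpowers w

include h

/-- lifts of `SL₂` in `X` -/
theorem X_lift (M : Matrix.SpecialLinearGroup (Fin 2) F) : ∃ x ∈ X A' n, Is L A U π x M := by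
  have r := h.b.p.s.r
  have h1 : ∀ b : F, ∃ x ∈ X A' n, Is L A U π x (lo b) := fun b => by
    obtain ⟨a, ha, hI⟩ := h.b.p.s.full b
    exact ⟨a, (le_sup_left : A' ≤ X A' n) ha, hI⟩
  have h2 : ∀ b : F, ∃ x ∈ X A' n, Is L A U π x (up b) := fun b => by
    obtain ⟨a, ha, hI⟩ := h.b.p.s.full (-b)
    refine ⟨n⁻¹ * a * n, ?_, ?_⟩
    · have := conj_mem_cj (g := n⁻¹) ha
      rw [inv_inv] at this
      exact (le_sup_right : cj n⁻¹ A' ≤ X A' n) this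
    · have h3 := r.is_mul (r.is_mul (r.is_inv h.hn) hI) h.hn
      have h4 : (wm (1 : F) one_ne_zero)⁻¹ * lo (-b) * wm 1 one_ne_zero = up b := by
        rw [mul_assoc, inv_mul_eq_iff_eq_mul]
        apply ext_ent <;> simp [ent_mul]
      rwa [h4] at h3
  obtain ⟨a, b, c, d, rfl⟩ := exists_up_lo M
  obtain ⟨x1, hx1, i1⟩ := h2 a
  obtain ⟨x2, hx2, i2⟩ := h1 b
  obtain ⟨x3, hx3, i3⟩ := h2 c
  obtain ⟨x4, hx4, i4⟩ := h1 d
  exact ⟨x1 * x2 * x3 * x4, mul_mem (mul_mem (mul_mem hx1 hx2) hx3) hx4,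
    r.is_mul (r.is_mul (r.is_mul i1 i2) i3) i4⟩

/-- `S₀` centralises `B` -/
theorem SB {x : G} (hx : x ∈ S0 T U U') {k : G} (hk : k ∈ B A A' U w n) : x * k = k * x := by
  obtain ⟨t, -, h1⟩ := h.actS hx
  have h2 := h1 k hk.1
  rw [h.sB hk, mul_zero, mul_zero, h.b.p.φ.e0, h.b.p.φ.g0, one_mul, one_mul] at h2
  exact comm_of_fix h2

/-- what centralises `A` and `B` is in `KK` -/
theorem mem_KK' {x : G} (hx : x ∈ GG T A' U U' w n) (hA : ∀ a ∈ A, x * a * x⁻¹ = a)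
    (hB : ∀ k ∈ B A A' U w n, x * k = k * x) : x ∈ KK T A A' U U' w n := by
  rw [h.mem_KK]
  refine ⟨hx, fun u hu => ?_⟩
  obtain ⟨a, ha, k, hk, rfl⟩ := h.Y_dec hu
  rw [← mul_assoc, comm_of_fix (hA a ha), mul_assoc, hB k hk, mul_assoc]

/-- elements of `X` with the same action on `A` agree modulo `KK` -/
theorem X_KK {x y : G} (hx : x ∈ X A' n) (hy : y ∈ X A' n) {M : Matrix.SpecialLinearGroup (Fin 2) F}
    (hxM : Is L A U π x M) (hyM : Is L A U π y M) : x * y⁻¹ ∈ KK T A A' U U' w n := by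
  refine h.mem_KK' (h.XG (mul_mem hx (inv_mem hy))) (fun a ha => ?_) fun k hk => ?_
  · have h1 : y⁻¹ * a * y ∈ A := by
      have := h.b.p.s.r.Vn y⁻¹ (inv_mem hyM.mem) a ha
      rwa [inv_inv] at this
    have h2 := h.b.p.s.r.is_eq hxM hyM _ h1
    calc x * y⁻¹ * a * (x * y⁻¹)⁻¹ = x * (y⁻¹ * a * y) * x⁻¹ := by group
      _ = y * (y⁻¹ * a * y) * y⁻¹ := h2
      _ = a := by group
  · exact h.XB (mul_mem hx (inv_mem hy)) hk

theorem KKn {x k : G} (hx : x ∈ GG T A' U U' w n) (hk : k ∈ KK T A A' U U' w n) :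
    x * k * x⁻¹ ∈ KK T A A' U U' w n := (mem_normalizer_iff.1 (h.GK hx) k).1 hk

theorem ShG' : Sh T U U' w ≤ GG T A' U U' w n := h.ShG

/-- the elements of `Sh` -/
theorem Sh_dec {x : G} (hx : x ∈ Sh T U U' w) : x ∈ S0 T U U' ∨ ∃ y ∈ S0 T U U', x = w * y := by
  have h1 : zpowers w ≤ normalizer (S0 T U U' : Set G) := by
    rw [zpowers_le]
    exact mem_normalizer_of_conj fun y hy => h.wS hy
  have h2 : x ∈ ((zpowers w ⊔ S0 T U U' : Subgroup G) : Set G) := by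
    rw [sup_comm]; exact hx
  rw [coe_mul_of_left_le_normalizer_right _ _ h1] at h2
  obtain ⟨z, ⟨i, rfl⟩, y, hy, rfl⟩ := h2
  change w ^ i * y ∈ _ ∨ _
  rcases Int.even_or_odd' i with ⟨j, hj | hj⟩
  · left
    have e1 : w ^ i = (w * w) ^ j := by rw [hj, zpow_mul, zpow_two]
    rw [e1]
    exact mul_mem (zpow_mem h.wwS j) hy
  · right
    have e1 : w ^ i = w * (w * w) ^ j := by rw [hj, add_comm, zpow_add, zpow_one, zpow_mul, zpow_two]
    refine ⟨(w * w) ^ j * y, mul_mem (zpow_mem h.wwS j) hy, ?_⟩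
    change w ^ i * y = _
    rw [e1, mul_assoc]

theorem Sh_T : Sh T U U' w ≤ T ⊔ zpowers w := sup_le_sup_right inf_le_left _

theorem Sh2 : IsPGroup 2 (Sh T U U' w) := h.tw.to_le h.Sh_T

theorem wSh : w ∈ Sh T U U' w := (le_sup_right : zpowers w ≤ Sh T U U' w) (mem_zpowers w)

theorem SSh : S0 T U U' ≤ Sh T U U' w := le_sup_left

/-- `T ⟨w⟩` is a Sylow 2-subgroup of `G`, `Sh = T ⟨w⟩ ∩ C(U)` is a Sylow 2-subgroup of `C(U)`. -/
theorem sylC : ¬ 2 ∣ (Sh T U U' w).relIndex (centralizer (U : Set G)) := by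
  have : Fact (Nat.Prime 2) := ⟨Nat.prime_two⟩
  set Th : Subgroup G := T ⊔ zpowers w with hTh
  have hwn : zpowers w ≤ normalizer (T : Set G) := by rw [zpowers_le]; exact h.wT
  -- `|Th| = 2 |T|`
  have hlt : T < Th := lt_of_le_of_ne le_sup_left fun he => h.nT (by
    rw [he]; exact (le_sup_right : zpowers w ≤ Th) (mem_zpowers w))
  have hcard : 2 * Nat.card T ≤ Nat.card Th := by
    have h1 := Subgroup.card_dvd_of_le hlt.le
    obtain ⟨m, hm⟩ := h1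
    have h2 : m ≠ 0 := by
      rintro rfl
      rw [mul_zero] at hm
      exact Nat.card_pos.ne' hm
    have h3 : m ≠ 1 := by
      rintro rfl
      rw [mul_one] at hm
      exact hlt.ne (Subgroup.eq_of_le_of_card_ge hlt.le hm.le)
    rw [hm, mul_comm]
    exact Nat.mul_le_mul_left _ (by omega)
  obtain ⟨Q, hQ⟩ := h.tw.exists_le_sylow
  have hQT : (Q : Subgroup G) = Th := by
    have h1 := h.b.two Q Q.isPGroup' (hlt.le.trans hQ)
    exact (Subgroup.eq_of_le_of_card_ge hQ (h1.trans hcard)).symm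
  -- `Th` normalises `U`
  have hN : Th ≤ normalizer (U : Set G) := by
    refine sup_le (fun t ht => mem_normalizer_of_conj fun u hu => h.b.p.s.r.Dn t (h.b.TL ht) u hu) ?_
    rw [zpowers_le]
    exact centralizer_le_normalizer _ h.wC.1
  have h1 : ¬ 2 ∣ ((Q : Subgroup G) ⊓ normalizer (U : Set G)).relIndex (normalizer (U : Set G)) := by
    have e1 : (Q : Subgroup G) ⊓ normalizer (U : Set G) = Q := inf_eq_left.2 (by rw [hQT]; exact hN)
    rw [e1]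
    intro h2
    exact Q.not_dvd_index (h2.trans (relIndex_dvd_index_of_le (by rw [hQT]; exact hN)))
  have h2 := Cfsg.Agent.Lib.GoldschmidtFusion.not_dvd_relIndex_centralizer Q h1
  have h3 : centralizer (U : Set G) ⊓ (Q : Subgroup G) ≤ Sh T U U' w := by
    rintro x ⟨hx1, hx2⟩
    rw [hQT] at hx2
    have h4 : x ∈ ((T ⊔ zpowers w : Subgroup G) : Set G) := hx2
    rw [coe_mul_of_right_le_normalizer_left _ _ hwn] at h4
    obtain ⟨t, ht, z, hz, rfl⟩ := h4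
    have hz' : z ∈ CC U U' := (zpowers_le.2 h.wC) hz
    have ht' : t ∈ centralizer (U : Set G) := by
      have hz1 : z ∈ centralizer (U : Set G) := hz'.1
      have h5 : t * z * z⁻¹ ∈ centralizer (U : Set G) := mul_mem hx1 (inv_mem hz1)
      rwa [mul_inv_cancel_right] at h5
    have ht2 : t ∈ S0 T U U' := by
      refine ⟨ht, ht', mem_centralizer_iff.2 fun u hu => ?_⟩
      obtain ⟨y, rfl⟩ := h.b.U'_e hu
      exact (cen_e h.b ht (fun y => (mem_centralizer_iff.1 ht' _ (h.b.gU y)).symm) y).symm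
    exact mul_mem (h.SSh ht2) ((le_sup_right : zpowers w ≤ Sh T U U' w) hz)
  intro h4
  exact h2 (h4.trans (relIndex_dvd_of_le_left _ h3))

theorem syl : ¬ 2 ∣ (Sh T U U' w).relIndex (GG T A' U U' w n) :=
  Cfsg.Agent.Lib.EssentialFusion.not_dvd_relIndex_of_le h.ShG' h.GM h.sylC

omit h in
/-- `x` acts on `A` as the element of `A'` with parameter `t` -/
def Par (A : Subgroup G) (π : G → Fin 2 → F) (e g : F → G) (x : G) (t : F) : Prop :=
  ∀ v ∈ A, x * v * x⁻¹ = e (t ^ 2 * π v 0) * g (t * π v 0) * v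

theorem par_uniq {x : G} {t t' : F} (h1 : Par A π e g x t) (h2 : Par A π e g x t') : t = t' := by
  have h3 := h1 (f 1) (h.b.p.φ.fV 1)
  rw [h2 (f 1) (h.b.p.φ.fV 1)] at h3
  exact h.t_inj (mul_right_cancel h3).symm

theorem exists_par {x : G} (hx : x ∈ S0 T U U') : ∃ t, Par A π e g x t := h.b.tau hx.1 hx.2

theorem par_Y {x : G} (hx : x ∈ S0 T U U') {t : F} (ht : Par A π e g x t) {u : G} (hu : u ∈ Y A w) :
    x * u * x⁻¹ = e (t ^ 2 * s u) * g (t * s u) * u := by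
  obtain ⟨t', h1, h2⟩ := h.actS hx
  rw [h.par_uniq ht h1]
  exact h2 u hu

theorem par_KK {x y : G} (hx : x ∈ S0 T U U') (hy : y ∈ S0 T U U') {t : F} (h1 : Par A π e g x t)
    (h2 : Par A π e g y t) : x⁻¹ * y ∈ KK T A A' U U' w n := by
  have hx1 : x ∈ T := hx.1
  have hy1 : y ∈ T := hy.1
  refine h.QK (mem_inf.2 ⟨mul_mem (inv_mem hx1) hy1, mem_centralizer_iff.2 fun v hv => ?_⟩)
  have h3 : x * v * x⁻¹ = y * v * y⁻¹ := (h1 v hv).trans (h2 v hv).symm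
  calc v * (x⁻¹ * y) = x⁻¹ * (x * v * x⁻¹) * y := by group
    _ = x⁻¹ * (y * v * y⁻¹) * y := by rw [h3]
    _ = _ := by group

theorem par_KK' {x y : G} (hx : x ∈ S0 T U U') (hy : y ∈ S0 T U U') {t : F} (h1 : Par A π e g x t)
    (h2 : Par A π e g y t) : x * y⁻¹ ∈ KK T A A' U U' w n := by
  have h3 := h.KKn (h.SG hy) (h.par_KK hy hx h2 h1)
  have e1 : y * (y⁻¹ * x) * y⁻¹ = x * y⁻¹ := by group
  rwa [e1] at h3

theorem par_zero {x : G} (hx : x ∈ S0 T U U') (h1 : Par A π e g x 0) : x ∈ KK T A A' U U' w n := by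
  have h2 : Par A π e g (1 : G) 0 := fun v _ => by
    have h0 : (0 : F) ^ 2 = 0 := by norm_num
    rw [h0, zero_mul, h.b.p.φ.e0, h.b.p.φ.g0]; group
  have h3 := h.par_KK (one_mem _) hx h2 h1
  rwa [inv_one, one_mul] at h3

theorem par_mul {x y : G} (hx : x ∈ CC U U') {t t' : F} (h1 : Par A π e g x t)
    (h2 : Par A π e g y t') : Par A π e g (x * y) (t + t') := by
  intro v hv
  have h3 := h2 v hv
  have hex : ∀ z, x * e z = e z * x := fun z => cc_r hx (h.b.eU' z)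
  have hgx : ∀ z, x * g z = g z * x := fun z => cc_l hx (h.b.gU z)
  have two := h.b.p.s.r.two
  have e2 : (t + t') ^ 2 * π v 0 = t' ^ 2 * π v 0 + t ^ 2 * π v 0 := by linear_combination t * t' * π v 0 * two
  have e3 : (t + t') * π v 0 = t' * π v 0 + t * π v 0 := by ring
  have h4 := h1 v hv
  calc x * y * v * (x * y)⁻¹ = x * (y * v * y⁻¹) * x⁻¹ := by group
    _ = x * (e (t' ^ 2 * π v 0) * g (t' * π v 0) * v) * x⁻¹ := by rw [h3]
    _ = (x * e (t' ^ 2 * π v 0)) * g (t' * π v 0) * v * x⁻¹ := by group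
    _ = e (t' ^ 2 * π v 0) * (x * g (t' * π v 0)) * v * x⁻¹ := by rw [hex]; group
    _ = e (t' ^ 2 * π v 0) * g (t' * π v 0) * (x * v * x⁻¹) := by rw [hgx]; group
    _ = e (t' ^ 2 * π v 0) * (g (t' * π v 0) * e (t ^ 2 * π v 0)) * g (t * π v 0) * v := by rw [h4]; group
    _ = e (t' ^ 2 * π v 0) * (e (t ^ 2 * π v 0) * g (t' * π v 0)) * g (t * π v 0) * v := by
      rw [h.b.Ac (h.b.gA _) (h.b.eA _)]
    _ = e ((t + t') ^ 2 * π v 0) * g ((t + t') * π v 0) * v := by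
      rw [e2, e3, h.b.p.φ.e_add, h.b.p.φ.g_add]; group

theorem par_w {x : G} (hx : x ∈ S0 T U U') {t : F} (ht : Par A π e g x t) : Par A π e g (w⁻¹ * x * w) t := by
  intro v hv
  have h1 := h.par_Y hx ht (h.wAY hv)
  rw [h.c.s_conj w h.wC v hv] at h1
  have hew : ∀ z, w * e z = e z * w := fun z => cc_r h.wC (h.b.eU' z)
  have hgw : ∀ z, w * g z = g z * w := fun z => cc_l h.wC (h.b.gU z)
  have e1 : w⁻¹ * x * w * v * (w⁻¹ * x * w)⁻¹ = w⁻¹ * (x * (w * v * w⁻¹) * x⁻¹) * w := by group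
  rw [e1, h1]
  calc w⁻¹ * (e (t ^ 2 * π v 0) * g (t * π v 0) * (w * v * w⁻¹)) * w
      = w⁻¹ * (e (t ^ 2 * π v 0) * (g (t * π v 0) * w)) * v := by group
    _ = w⁻¹ * ((e (t ^ 2 * π v 0) * w) * g (t * π v 0)) * v := by rw [← hgw]; group
    _ = _ := by rw [← hew]; group

/-- squares in `S₀` -/
theorem sq_S {x y : G} (hx : x ∈ S0 T U U') (hy : y ∈ S0 T U U') {t : F} (h1 : Par A π e g x t)
    (h2 : Par A π e g y t) : x * y ∈ KK T A A' U U' w n := by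
  refine h.par_zero (mul_mem hx hy) ?_
  have h3 := h.par_mul hx.2 h1 h2
  have e1 : t + t = 0 := by have := h.b.p.s.r.two; linear_combination t * this
  rwa [e1] at h3

/-- squares in `Sh` -/
theorem sq_Sh {x : G} (hx : x ∈ Sh T U U' w) :
    x * x ∈ KK T A A' U U' w n ∨ x * x * (w * w)⁻¹ ∈ KK T A A' U U' w n := by
  rcases h.Sh_dec hx with hx | ⟨y, hy, rfl⟩
  · obtain ⟨t, ht⟩ := h.exists_par hx
    exact Or.inl (h.sq_S hx hx ht ht)
  · right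
    obtain ⟨t, ht⟩ := h.exists_par hy
    have h1 := h.sq_S (h.wS' hy) hy (h.par_w hy ht) ht
    have h2 := h.KKn (mul_mem h.wG h.wG) h1
    have e1 : w * w * (w⁻¹ * y * w * y) * (w * w)⁻¹ = w * y * (w * y) * (w * w)⁻¹ := by group
    rwa [e1] at h2

/-- `Sh` is abelian modulo `KK` -/
theorem ab_Sh {x y : G} (hx : x ∈ Sh T U U' w) (hy : y ∈ Sh T U U' w) :
    x * y * x⁻¹ * y⁻¹ ∈ KK T A A' U U' w n := by
  have hSS : ∀ x ∈ S0 T U U', ∀ y ∈ S0 T U U', x * y * x⁻¹ * y⁻¹ ∈ KK T A A' U U' w n := by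
    intro x hx y hy
    obtain ⟨t, ht⟩ := h.exists_par hx
    obtain ⟨t', ht'⟩ := h.exists_par hy
    have h1 := h.par_mul hx.2 ht ht'
    have h2 := h.par_mul hy.2 ht' ht
    rw [add_comm] at h2
    have h3 := h.par_KK' (mul_mem hx hy) (mul_mem hy hx) h1 h2
    have e1 : x * y * (y * x)⁻¹ = x * y * x⁻¹ * y⁻¹ := by group
    rwa [e1] at h3
  have hwS : ∀ y ∈ S0 T U U', w * y * w⁻¹ * y⁻¹ ∈ KK T A A' U U' w n := by
    intro y hy
    obtain ⟨t, ht⟩ := h.exists_par hy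
    have h1 := h.par_KK' hy (h.wS' hy) ht (h.par_w hy ht)
    have h2 := h.KKn h.wG h1
    have e1 : w * (y * (w⁻¹ * y * w)⁻¹) * w⁻¹ = w * y * w⁻¹ * y⁻¹ := by group
    rwa [e1] at h2
  have hc : ∀ {x y : G}, x * y * x⁻¹ * y⁻¹ ∈ KK T A A' U U' w n → y * x * y⁻¹ * x⁻¹ ∈ KK T A A' U U' w n := by
    intro x y h1
    have e1 : y * x * y⁻¹ * x⁻¹ = (x * y * x⁻¹ * y⁻¹)⁻¹ := by group
    rw [e1]; exact inv_mem h1
  have h1 : ∀ y ∈ S0 T U U', Sh T U U' w ≤ cenMod (GG T A' U U' w n) (KK T A A' U U' w n) h.GK y := by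
    intro y hy
    refine sup_le (fun x hx => ⟨h.SG hx, hSS x hx y hy⟩) ?_
    rw [zpowers_le]
    exact ⟨h.wG, hwS y hy⟩
  have h2 : Sh T U U' w ≤ cenMod (GG T A' U U' w n) (KK T A A' U U' w n) h.GK w := by
    refine sup_le (fun x hx => ⟨h.SG hx, hc (hwS x hx)⟩) ?_
    rw [zpowers_le]
    refine ⟨h.wG, ?_⟩
    have e1 : w * w * w⁻¹ * w⁻¹ = 1 := by group
    rw [e1]; exact one_mem _
  have h3 : Sh T U U' w ≤ cenMod (GG T A' U U' w n) (KK T A A' U U' w n) h.GK x := by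
    refine sup_le (fun y hy => ⟨h.SG hy, hc (h1 y hy hx).2⟩) ?_
    rw [zpowers_le]
    exact ⟨h.wG, hc (h2 hx).2⟩
  exact hc (h3 hy).2

/-- **(9c)** -/
theorem ww : w * w ∈ KK T A A' U U' w n := by
  by_contra hn
  obtain ⟨t, ht⟩ := h.exists_par h.wwS
  have ht0 : t ≠ 0 := by
    rintro rfl
    exact hn (h.par_zero h.wwS ht)
  obtain ⟨a, ha0, ha1⟩ := h.b.p.ω
  have r := h.b.p.s.r
  obtain ⟨x, hxX, hx⟩ := h.X_lift (dg a⁻¹ (inv_ne_zero ha0))
  obtain ⟨m, hm, hmI⟩ := h.b.exists_n t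
  obtain ⟨m', hm', hm'I⟩ := h.b.exists_n (a * t)
  have hA'S : A' ≤ S0 T U U' := fun y hy => ⟨h.b.A'T hy, h.b.A'C hy⟩
  have hpm : Par A π e g m t := fun v hv => h.b.act_n hmI hv
  have hpm' : Par A π e g m' (a * t) := fun v hv => h.b.act_n hm'I hv
  -- `x m x⁻¹ = m'` modulo `KK`
  have h1 : x * m * x⁻¹ * m'⁻¹ ∈ KK T A A' U U' w n := by
    refine h.X_KK (mul_mem (mul_mem hxX ((le_sup_left : A' ≤ X A' n) hm)) (inv_mem hxX))
      ((le_sup_left : A' ≤ X A' n) hm') (M := lo ((a * t) ^ 2)) ?_ hm'I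
    have h2 := r.is_mul (r.is_mul hx hmI) (r.is_inv hx)
    have h3 : dg a⁻¹ (inv_ne_zero ha0) * lo (t ^ 2) * (dg a⁻¹ (inv_ne_zero ha0))⁻¹ = lo ((a * t) ^ 2) := by
      rw [mul_inv_eq_iff_eq_mul]
      apply ext_ent <;> simp [ent_mul]
      field_simp
    rwa [h3] at h2
  have h2 : w * w * m⁻¹ ∈ KK T A A' U U' w n := h.par_KK' h.wwS (hA'S hm) ht hpm
  have h3 : x * (w * w) * x⁻¹ * m'⁻¹ ∈ KK T A A' U U' w n := by
    have h4 := mul_mem (h.KKn (h.XG hxX) h2) h1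
    have e1 : x * (w * w * m⁻¹) * x⁻¹ * (x * m * x⁻¹ * m'⁻¹) = x * (w * w) * x⁻¹ * m'⁻¹ := by group
    rwa [e1] at h4
  obtain ⟨c, hcG, hcP, hc⟩ := burn h.ShG' h.Sh2 h.syl h.GK (fun x hx y hy => h.ab_Sh hx hy)
    (h.SSh h.wwS) (h.SSh (hA'S hm')) (h.XG hxX) h3
  have h5 := hcP w h.wSh
  have e2 : c * w * c⁻¹ * (c * w * c⁻¹) = c * (w * w) * c⁻¹ := by group
  rcases h.sq_Sh h5 with h6 | h6
  · rw [e2] at h6
    -- `m' ∈ KK`
    have h7 : m' ∈ KK T A A' U U' w n := by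
      have := mul_mem (inv_mem hc) h6
      have e3 : (c * (w * w) * c⁻¹ * m'⁻¹)⁻¹ * (c * (w * w) * c⁻¹) = m' := by group
      rwa [e3] at this
    have h8 : Par A π e g m' 0 := fun v hv => by
      have h0 : (0 : F) ^ 2 = 0 := by norm_num
      rw [h0, zero_mul, h.b.p.φ.e0, h.b.p.φ.g0, one_mul, one_mul]
      exact fix_of_comm ((h.mem_KK.1 h7).2 v (h.AY hv))
    have h9 := h.par_uniq hpm' h8
    exact mul_ne_zero ha0 ht0 h9
  · rw [e2] at h6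
    -- `w² m'⁻¹ ∈ KK`
    have h7 : w * w * m'⁻¹ ∈ KK T A A' U U' w n := by
      have h8 := mul_mem (inv_mem h6) hc
      have e3 : ∀ a b d : G, (a * b⁻¹)⁻¹ * (a * d) = b * d := fun a b d => by group
      rwa [e3] at h8
    have h8 : Par A π e g (w * w) (a * t) := fun v hv => by
      have h9 := (h.mem_KK.1 h7).2 _ (h.AY (show m' * v * m'⁻¹ ∈ A from r.Vn m' (h.b.TL (h.b.A'T hm')) v hv))
      rw [← hpm' v hv]
      calc w * w * v * (w * w)⁻¹ = (w * w * m'⁻¹) * (m' * v * m'⁻¹) * (w * w * m'⁻¹)⁻¹ := by group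
        _ = m' * v * m'⁻¹ := fix_of_comm h9
    have h9 := h.par_uniq ht h8
    apply ha1
    have h10 : a * t = 1 * t := by rw [one_mul]; exact h9.symm
    exact mul_right_cancel₀ ht0 h10

end NW

end Cfsg.Agent.Omega.IId.Ns

end

section


/-!
# II.d, `k = 2`, nonsplit: (9d) `w` acts on `A` as an element of `A'`
-/

set_option autoImplicit false
set_option linter.unusedSectionVars false

namespace Cfsg.Agent.Omega.IId.Ns

open Subgroup Cfsg Cfsg.Agent.ZN Cfsg.Agent.Lib.SL2Mat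
open Cfsg.Agent.Omega.HOne.NSMod Cfsg.Agent.Omega.HOne.NSSide Cfsg.Agent.Omega.HOne.NSPair Cfsg.Agent.Omega.HOne.NSDat
open Cfsg.Agent.Omega.NatPair (ap ap_add ap_mul ap_one ap_inj ext2 ap_zero' ap_one' ap_inv_ap ap_ap_inv)
open Cfsg.Agent.Omega.BTwo (cj mem_cj conj_mem_cj card_cj cj_mul mem_normalizer_of_conj cj_eq_self_iff)

universe u

variable {G : Type u} [Group G] {F : Type} [Field F]
  {T T' L L' A A' U U' : Subgroup G} {π π' : G → Fin 2 → F} {e f g e' f' g' : F → G} {s : G → F}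

/-- coordinates on `Y / B` -/
def pt (s : G → F) (n : G) (u : G) : Fin 2 → F := ![s u, s (n * u * n⁻¹)]

/-- If `D / K` is a 2-group, `K ≤ D` normal in `H`, `S` Sylow in `H`, then `D ≤ K (S ∩ D)`. -/
theorem le_sup_syl [Finite G] {H D K S : Subgroup G} (hDH : D ≤ H) (hn : H ≤ normalizer (D : Set G))
    (hK : H ≤ normalizer (K : Set G)) (hs : ¬ 2 ∣ S.relIndex H) (hSH : S ≤ H)
    (h2 : ∀ x ∈ D, x * x ∈ K) {x : G} (hx : x ∈ D) : ∃ k ∈ K, ∃ y ∈ S ⊓ D, x = k * y := by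
  have hp : Fact (Nat.Prime 2) := ⟨Nat.prime_two⟩
  have hKn : (K.subgroupOf D).Normal := by
    constructor
    intro a ha b
    rw [mem_subgroupOf] at ha ⊢
    exact (mem_normalizer_iff.1 (hK (hDH b.2)) _).1 ha
  have hq : IsPGroup 2 (D ⧸ K.subgroupOf D) := by
    intro y
    obtain ⟨x, rfl⟩ := QuotientGroup.mk_surjective y
    refine ⟨1, ?_⟩
    rw [← QuotientGroup.mk_pow, QuotientGroup.eq_one_iff, mem_subgroupOf, pow_one, pow_two]
    exact h2 x x.2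
  obtain ⟨m, hm⟩ := IsPGroup.iff_card.mp hq
  have h1 : K.relIndex D = 2 ^ m := hm
  have h3 : (K ⊔ (S ⊓ D)).relIndex D ∣ 2 ^ m := by
    rw [← h1]
    exact Subgroup.relIndex_dvd_of_le_left D le_sup_left
  have hDn : (D.subgroupOf H).Normal := by
    rw [normal_subgroupOf_iff_le_normalizer hDH]; exact hn
  have h4 : S.relIndex D ∣ S.relIndex H := by
    have e1 : S.relIndex D = (S.subgroupOf H).relIndex (D.subgroupOf H) := by rw [relIndex_subgroupOf hDH]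
    have e2 : S.relIndex H = (S.subgroupOf H).index := rfl
    rw [e1, e2]
    exact Cfsg.Agent.Lib.GoldschmidtFusion.relIndex_dvd_index_of_normal_right _ _
  have h5 : (K ⊔ (S ⊓ D)).relIndex D ∣ S.relIndex D := by
    rw [← inf_relIndex_right S D]
    exact Subgroup.relIndex_dvd_of_le_left D le_sup_right
  have h6 : (K ⊔ (S ⊓ D)).relIndex D = 1 := by
    obtain ⟨i, -, hi⟩ := (Nat.dvd_prime_pow Nat.prime_two).1 h3
    rcases Nat.eq_zero_or_pos i with rfl | hi0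
    · rw [hi]; rfl
    · exfalso
      apply hs
      refine dvd_trans ?_ (h5.trans h4)
      rw [hi]
      exact dvd_pow_self 2 hi0.ne'
  have h7 : D ≤ K ⊔ (S ⊓ D) := relIndex_eq_one.1 h6
  have h8 : x ∈ ((K ⊔ (S ⊓ D) : Subgroup G) : Set G) := h7 hx
  rw [coe_mul_of_right_le_normalizer_left _ _ (inf_le_left.trans (hSH.trans hK))] at h8
  obtain ⟨k, hk, y, hy, rfl⟩ := h8
  exact ⟨k, hk, y, hy, rfl⟩

namespace NW

variable [Finite G] [Finite F] {w n : G} (h : NW T T' L L' A A' U U' π π' e f g e' f' g' s w n)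

include h

theorem A'S : A' ≤ S0 T U U' := fun _ hy => ⟨h.b.A'T hy, h.b.A'C hy⟩

/-- `|Sh : KK ∩ Sh| ≤ 2 q` -/
theorem card_Sh : (KK T A A' U U' w n).relIndex (Sh T U U' w) ≤ 2 * Nat.card F := by
  classical
  choose nt hnt hntI using fun t : F => h.b.exists_n t
  have hmem : ∀ p : Bool × F, (if p.1 then w else 1) * nt p.2 ∈ Sh T U U' w := by
    rintro ⟨b, t⟩
    refine mul_mem ?_ (h.SSh (h.A'S (hnt t)))
    cases b
    · simp
    · simpa using h.wSh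
  let φ : Bool × F → (Sh T U U' w) ⧸ (KK T A A' U U' w n).subgroupOf (Sh T U U' w) :=
    fun p => QuotientGroup.mk ⟨_, hmem p⟩
  have hS : ∀ y ∈ S0 T U U', ∃ t, (nt t)⁻¹ * y ∈ KK T A A' U U' w n := by
    intro y hy
    obtain ⟨t, ht⟩ := h.exists_par hy
    exact ⟨t, h.par_KK (h.A'S (hnt t)) hy (fun v hv => h.b.act_n (hntI t) hv) ht⟩
  have hφ : Function.Surjective φ := by
    intro q
    obtain ⟨⟨x, hx⟩, rfl⟩ := QuotientGroup.mk_surjective q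
    rcases h.Sh_dec hx with h1 | ⟨y, hy, rfl⟩
    · obtain ⟨t, ht⟩ := hS x h1
      refine ⟨(false, t), ?_⟩
      rw [QuotientGroup.eq, mem_subgroupOf]
      simpa using ht
    · obtain ⟨t, ht⟩ := hS y hy
      refine ⟨(true, t), ?_⟩
      rw [QuotientGroup.eq, mem_subgroupOf]
      have e1 : (w * nt t)⁻¹ * (w * y) = (nt t)⁻¹ * y := by group
      simpa [e1] using ht
  have h1 := Nat.card_le_card_of_surjective φ hφ
  rw [Nat.card_prod] at h1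
  have h2 : Nat.card Bool = 2 := by simp
  rw [h2] at h1
  exact h1

theorem into_Sh {R : Subgroup G} (hR : R ≤ GG T A' U U' w n) (hp : IsPGroup 2 R) :
    ∃ c ∈ GG T A' U U' w n, cj c R ≤ Sh T U U' w := exists_conj_le_syl hR h.Sh2 hp h.syl

theorem card_2 {R : Subgroup G} (hR : R ≤ GG T A' U U' w n) (hp : IsPGroup 2 R) :
    (KK T A A' U U' w n).relIndex R ≤ 2 * Nat.card F := by
  obtain ⟨c, hc, hcR⟩ := h.into_Sh hR hp
  have h1 : (cj c (KK T A A' U U' w n)).relIndex (cj c R) = (KK T A A' U U' w n).relIndex R :=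
    Subgroup.relIndex_map_map_of_injective _ _ (MulAut.conj c).injective
  rw [← h1, cj_eq_self_iff.2 (h.GK hc)]
  exact (relIndex_le_of_le_right hcR (Nat.pos_iff_ne_zero.1 (Nat.pos_of_ne_zero (by
    exact index_ne_zero_of_finite)))).trans h.card_Sh

theorem sq_Sh' {x : G} (hx : x ∈ Sh T U U' w) : x * x ∈ KK T A A' U U' w n := by
  rcases h.sq_Sh hx with h1 | h1
  · exact h1
  · have h2 := mul_mem h1 h.ww
    rwa [inv_mul_cancel_right] at h2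

theorem sq_2 {R : Subgroup G} (hR : R ≤ GG T A' U U' w n) (hp : IsPGroup 2 R) {x : G} (hx : x ∈ R) :
    x * x ∈ KK T A A' U U' w n := by
  obtain ⟨c, hc, hcR⟩ := h.into_Sh hR hp
  have h1 := h.sq_Sh' (hcR (conj_mem_cj hx))
  have h2 := h.KKn (inv_mem hc) h1
  have e1 : c⁻¹ * (c * x * c⁻¹ * (c * x * c⁻¹)) * c⁻¹⁻¹ = x * x := by group
  rwa [e1] at h2

theorem w_eU {a : G} (ha : a ∈ A) (h0 : π a 0 = 0) : w * a = a * w := by
  have h1 : (e (π a 1))⁻¹ * a ∈ U := by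
    refine h.b.mem_U (mul_mem (inv_mem (h.b.eA _)) ha) ?_
    rw [h.b.p.s.r.mul _ (inv_mem (h.b.eA _)) _ ha, h.b.p.s.r.map_inv (h.b.eA _), h.b.p.φ.eπ]
    apply ext2
    · simp [h0]
    · simp
  have h2 := cc_l h.wC h1
  have h3 := cc_r h.wC (h.b.eU' (π a 1))
  calc w * a = w * e (π a 1) * ((e (π a 1))⁻¹ * a) := by group
    _ = e (π a 1) * (w * ((e (π a 1))⁻¹ * a)) := by rw [h3]; group
    _ = _ := by rw [h2]; group

/-- `w` centralises `B` -/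
theorem wB {k : G} (hk : k ∈ B A A' U w n) : w * k = k * w := by
  have h1 : k ∈ ((A ⊔ cj w A : Subgroup G) : Set G) := hk.1
  have hn1 : cj w A ≤ normalizer (A : Set G) := by
    rintro _ ⟨a, ha, rfl⟩
    change w * a * w⁻¹ ∈ _
    refine mem_normalizer_of_conj fun b hb => ?_
    rw [h.Yc (h.wAY ha) (h.AY hb), mul_inv_cancel_right]; exact hb
  rw [coe_mul_of_right_le_normalizer_left _ _ hn1] at h1
  obtain ⟨a, ha, x, ⟨c, hc, rfl⟩, hk'⟩ := h1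
  have hk'' : k = a * (w * c * w⁻¹) := hk'.symm
  have haU := h.c.AU ha
  have hcU := h.c.AU hc
  have hwc : w * c * w⁻¹ ∈ UG A U := h.c.MU w h.wC.1 c hcU
  have h0 := h.sB hk
  rw [hk'', h.c.s_add _ haU _ hwc, h.c.s_A a ha, h.c.s_conj w h.wC c hc] at h0
  have h2 : w * (a * c) = a * c * w := h.w_eU (mul_mem ha hc) (by
    rw [h.b.p.s.r.mul a ha c hc]; exact h0)
  -- `k = (a c) (c⁻¹ (w c w⁻¹))`
  have h3 : w * (c⁻¹ * (w * c * w⁻¹)) * w⁻¹ = c⁻¹ * (w * c * w⁻¹) := by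
    have h4 := fix_of_comm ((h.mem_KK.1 h.ww).2 c (h.AY hc))
    have h5 : (w * c * w⁻¹)⁻¹ = w * c * w⁻¹ := inv_eq_of_mul_eq_one_left (h.c.sq _ hwc)
    have h6 : c⁻¹ = c := h.b.Ai hc
    calc w * (c⁻¹ * (w * c * w⁻¹)) * w⁻¹ = (w * c * w⁻¹)⁻¹ * (w * w * c * (w * w)⁻¹) := by group
      _ = (w * c * w⁻¹) * c := by rw [h4, h5]
      _ = c * (w * c * w⁻¹) := h.c.ab _ hwc _ hcU
      _ = _ := by rw [h6]
  have h7 : k = (a * c) * (c⁻¹ * (w * c * w⁻¹)) := by rw [hk'']; group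
  have h8 : w * k * w⁻¹ = k := by
    calc w * k * w⁻¹ = (w * (a * c) * w⁻¹) * (w * (c⁻¹ * (w * c * w⁻¹)) * w⁻¹) := by rw [h7]; group
      _ = k := by rw [fix_of_comm h2, h3, ← h7]
  exact comm_of_fix h8

/-- `GG` centralises `B` -/
theorem GB {x : G} (hx : x ∈ GG T A' U U' w n) {k : G} (hk : k ∈ B A A' U w n) : x * k = k * x := by
  have h1 : GG T A' U U' w n ≤ centralizer (B A A' U w n : Set G) := by
    refine sup_le (fun x hx => mem_centralizer_iff.2 fun k hk => (h.XB hx hk).symm)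
      (sup_le (fun x hx => mem_centralizer_iff.2 fun k hk => (h.SB hx hk).symm) ?_)
    rw [zpowers_le]
    exact mem_centralizer_iff.2 fun k hk => (h.wB hk).symm
  exact (mem_centralizer_iff.1 (h1 hx) k hk).symm

/-! ### coordinates -/

theorem pt_A {a : G} (ha : a ∈ A) : pt s n a = π a := by
  have h1 : n * a * n⁻¹ ∈ A := h.b.p.s.r.Vn n h.hn.mem a ha
  unfold pt
  rw [h.c.s_A a ha, h.c.s_A _ h1, h.b.pi_n h.hn ha]
  apply ext2 <;> simp

theorem pt_mul {u v : G} (hu : u ∈ UG A U) (hv : v ∈ UG A U) : pt s n (u * v) = pt s n u + pt s n v := by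
  unfold pt
  have e1 : n * (u * v) * n⁻¹ = (n * u * n⁻¹) * (n * v * n⁻¹) := by group
  rw [e1, h.c.s_add u hu v hv, h.c.s_add _ (h.c.MU n h.nM u hu) _ (h.c.MU n h.nM v hv)]
  apply ext2 <;> simp

theorem pt_B {u : G} (hu : u ∈ Y A w) : pt s n u = 0 ↔ u ∈ B A A' U w n := by
  unfold B
  rw [mem_inf, mem_K0_iff h.b h.c h.hn (h.Y_le hu)]
  unfold pt
  constructor
  · intro h1
    refine ⟨hu, ?_, ?_⟩
    · have := congrFun h1 0; simpa using this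
    · have := congrFun h1 1; simpa using this
  · rintro ⟨-, h1, h2⟩
    rw [h1, h2]
    apply ext2 <;> simp

theorem pt_hmul : ∀ y ∈ Y A w, ∀ y' ∈ Y A w, pt s n (y * y') = pt s n y + pt s n y' :=
  fun _ hy _ hy' => h.pt_mul (h.Y_le hy) (h.Y_le hy')

/-- the action of a lift on `Y / B` -/
theorem pt_X {x : G} (hx : x ∈ X A' n) {M : Matrix.SpecialLinearGroup (Fin 2) F} (hM : Is L A U π x M) {y : G}
    (hy : y ∈ Y A w) : pt s n (x * y * x⁻¹) = ap M (pt s n y) := by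
  obtain ⟨a, ha, k, hk, rfl⟩ := h.Y_dec hy
  have h1 : x * a * x⁻¹ ∈ A := h.b.p.s.r.Vn x hM.mem a ha
  have e1 : x * (a * k) * x⁻¹ = (x * a * x⁻¹) * (x * k * x⁻¹) := by group
  have h2 : pt s n k = 0 := (h.pt_B hk.1).2 hk
  rw [e1, fix_of_comm (h.XB hx hk), h.pt_mul (h.c.AU h1) (h.Y_le hk.1), h.pt_mul (h.c.AU ha) (h.Y_le hk.1), h2,
    add_zero, add_zero, h.pt_A h1, h.pt_A ha, hM.act a ha]

/-- `w` on `Y / B` -/
theorem pt_w {y : G} (hy : y ∈ Y A w) : pt s n (w * y * w⁻¹) =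
    ![pt s n y 0, pt s n y 1 + s (n * (w * f (pt s n y 0) * w⁻¹) * n⁻¹)] := by
  set z := pt s n y 0 with hz
  have hfA := h.b.fA z
  have hfU := h.c.AU hfA
  have hyU := h.Y_le hy
  have hr : (f z)⁻¹ * y ∈ Y A w := mul_mem (inv_mem (h.AY hfA)) hy
  have hf0 : pt s n (f z) = ![z, 0] := by rw [h.pt_A hfA, h.b.p.φ.fπ]
  have hfi : (f z)⁻¹ = f z := h.b.Ai hfA
  have h1 : pt s n ((f z)⁻¹ * y) = ![0, pt s n y 1] := by
    have two := h.b.p.s.r.two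
    rw [hfi, h.pt_mul hfU hyU, hf0]
    apply ext2
    · rw [Pi.add_apply, ← hz]
      simp only [Matrix.cons_val_zero]
      linear_combination z * two
    · simp
  have hs0 : s ((f z)⁻¹ * y) = 0 := congrFun h1 0
  obtain ⟨x, hx⟩ := dec_ker h.b h.c h.hn (h.Y_le hr) hs0
  have hxY : (e x)⁻¹ * ((f z)⁻¹ * y) ∈ Y A w := mul_mem (inv_mem (h.AY (h.b.eA x))) hr
  have hxB : (e x)⁻¹ * ((f z)⁻¹ * y) ∈ B A A' U w n := mem_inf.2 ⟨hxY, hx⟩
  have h2 : w * ((f z)⁻¹ * y) = (f z)⁻¹ * y * w := by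
    have h3 := h.wB hxB
    have h4 := cc_r h.wC (h.b.eU' x)
    calc w * ((f z)⁻¹ * y) = w * e x * ((e x)⁻¹ * ((f z)⁻¹ * y)) := by group
      _ = e x * (w * ((e x)⁻¹ * ((f z)⁻¹ * y))) := by rw [h4]; group
      _ = _ := by rw [h3]; group
  have h5 : w * y * w⁻¹ = (w * f z * w⁻¹) * ((f z)⁻¹ * y) := by
    calc w * y * w⁻¹ = (w * f z * w⁻¹) * (w * ((f z)⁻¹ * y) * w⁻¹) := by group
      _ = _ := by rw [fix_of_comm h2]
  have hwf : w * f z * w⁻¹ ∈ UG A U := h.c.MU w h.wC.1 _ hfU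
  rw [h5, h.pt_mul hwf (h.Y_le hr), h1]
  have h6 : s (w * f z * w⁻¹) = z := by
    rw [h.c.s_conj w h.wC _ hfA, h.b.p.φ.fπ]; rfl
  apply ext2
  · unfold pt
    simp [h6]
  · unfold pt
    simp [add_comm]

/-- **(9d)**: `w` acts on `Y / B` as a scalar -/
theorem exists_l : ∃ l : F, ∀ z, s (n * (w * f z * w⁻¹) * n⁻¹) = l * z := by
  have hchar : CharP F 2 := CharTwo.of_one_ne_zero_of_two_eq_zero one_ne_zero h.b.p.s.r.two
  refine Cfsg.Agent.Omega.HOne.NSK.scalar_of_act (Y := Y A w) (B := B A A' U w n) (X := GG T A' U U' w n)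
    (π := pt s n) h.pt_hmul (fun y hy => h.pt_B hy) ?_ (fun x hx y hy => h.GY' hx hy) ?_ ?_
    (KK T A A' U U' w n) ?_ (fun R hR hp => h.card_2 hR hp) (fun R hR hp x hx => h.sq_2 hR hp hx) h.wG
    (α := fun z => s (n * (w * f z * w⁻¹) * n⁻¹)) (fun y hy => h.pt_w hy)
  · intro v
    obtain ⟨a, ha, hv⟩ := h.b.p.s.r.surj v
    exact ⟨a, h.AY ha, by rw [h.pt_A ha, hv]⟩
  · intro x hx y hy
    rw [fix_of_comm (h.GB hx hy)]; exact hy
  · intro M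
    obtain ⟨x, hx, hM⟩ := h.X_lift M
    exact ⟨x, h.XG hx, fun y hy => h.pt_X hx hM hy⟩
  · intro c hc y hy
    rw [fix_of_comm ((h.mem_KK.1 hc).2 y hy)]

/-! ### the elements trivial on `Y / B` -/

omit h in
/-- the elements of `GG` which are trivial on `Y / B` -/
def D0 (T A A' U U' : Subgroup G) (s : G → F) (w n : G) : Set G :=
  {x | x ∈ GG T A' U U' w n ∧ ∀ y ∈ Y A w, pt s n (x * y * x⁻¹) = pt s n y}

theorem pt_conj {x : G} (hx : x ∈ GG T A' U U' w n) {y y' : G} (hy : y ∈ Y A w) (hy' : y' ∈ Y A w)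
    (hyy : pt s n y = pt s n y') : pt s n (x * y * x⁻¹) = pt s n (x * y' * x⁻¹) :=
  Cfsg.Agent.Omega.HOne.NSK.pi_conj (Y := Y A w) (B := B A A' U w n) h.pt_hmul (fun y hy => h.pt_B hy)
    (fun y hy => h.GY' hx hy) (fun y hy => by rw [fix_of_comm (h.GB hx hy)]; exact hy) hy hy' hyy

omit h in
/-- `D0` as a subgroup -/
def D0' (h : NW T T' L L' A A' U U' π π' e f g e' f' g' s w n) : Subgroup G where
  carrier := D0 T A A' U U' s w n
  one_mem' := ⟨one_mem _, fun y _ => by rw [one_mul, inv_one, mul_one]⟩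
  mul_mem' := by
    rintro x x' ⟨hx, h1⟩ ⟨hx', h2⟩
    refine ⟨mul_mem hx hx', fun y hy => ?_⟩
    have e1 : x * x' * y * (x * x')⁻¹ = x * (x' * y * x'⁻¹) * x⁻¹ := by group
    rw [e1, h1 _ (h.GY' hx' hy), h2 y hy]
  inv_mem' := by
    rintro x ⟨hx, h1⟩
    refine ⟨inv_mem hx, fun y hy => ?_⟩
    have h2 := h1 _ (h.GY' (inv_mem hx) hy)
    have e1 : x * (x⁻¹ * y * x⁻¹⁻¹) * x⁻¹ = y := by group
    rw [e1] at h2
    exact h2.symm

theorem mem_D0 {x : G} : x ∈ h.D0' ↔ x ∈ GG T A' U U' w n ∧ ∀ y ∈ Y A w, pt s n (x * y * x⁻¹) = pt s n y := Iff.rfl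

theorem D0n : GG T A' U U' w n ≤ normalizer (h.D0' : Set G) := by
  intro x hx
  refine mem_normalizer_of_conj fun c hc => ?_
  rw [h.mem_D0] at hc ⊢
  refine ⟨mul_mem (mul_mem hx hc.1) (inv_mem hx), fun y hy => ?_⟩
  have h1 := h.GY' (inv_mem hx) hy
  have h2 := hc.2 _ h1
  have h3 := h.pt_conj hx (h.GY' hc.1 h1) h1 h2
  have e1 : x * c * x⁻¹ * y * (x * c * x⁻¹)⁻¹ = x * (c * (x⁻¹ * y * x⁻¹⁻¹) * c⁻¹) * x⁻¹ := by group
  have e2 : x * (x⁻¹ * y * x⁻¹⁻¹) * x⁻¹ = y := by group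
  rw [e1, h3, e2]

/-- `x y x⁻¹ y⁻¹ ∈ B` for `x` in `D0` -/
theorem D0_b {x : G} (hx : x ∈ h.D0') {y : G} (hy : y ∈ Y A w) : x * y * x⁻¹ * y⁻¹ ∈ B A A' U w n := by
  rw [h.mem_D0] at hx
  have h1 := h.GY' hx.1 hy
  rw [← h.pt_B (mul_mem h1 (inv_mem hy))]
  have h2 := h.pt_hmul (x * y * x⁻¹ * y⁻¹) (mul_mem h1 (inv_mem hy)) y hy
  rw [inv_mul_cancel_right, hx.2 y hy] at h2
  exact right_eq_add.1 h2

theorem D0_sq {x : G} (hx : x ∈ h.D0') : x * x ∈ KK T A A' U U' w n := by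
  have hxG := (h.mem_D0.1 hx).1
  rw [h.mem_KK]
  refine ⟨mul_mem hxG hxG, fun y hy => comm_of_fix ?_⟩
  have hb := h.D0_b hx hy
  have h1 := h.GB hxG hb
  have h2 : (x * y * x⁻¹ * y⁻¹) * (x * y * x⁻¹ * y⁻¹) = 1 := h.c.sq _ (h.Y_le hb.1)
  calc x * x * y * (x * x)⁻¹ = x * (x * y * x⁻¹ * y⁻¹) * x⁻¹ * (x * y * x⁻¹ * y⁻¹) * y := by group
    _ = (x * y * x⁻¹ * y⁻¹) * (x * y * x⁻¹ * y⁻¹) * y := by rw [fix_of_comm h1]
    _ = y := by rw [h2, one_mul]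

theorem S0_D0 {x : G} (hx : x ∈ S0 T U U') (hD : x ∈ h.D0') : x ∈ KK T A A' U U' w n := by
  obtain ⟨t, ht⟩ := h.exists_par hx
  have h1 := (h.mem_D0.1 hD).2 _ (h.AY (h.b.fA 1))
  rw [ht _ (h.b.fA 1), h.pt_mul (mul_mem (h.c.AU (h.b.eA _)) (h.c.AU (h.b.gA _))) (h.c.AU (h.b.fA 1)),
    h.pt_mul (h.c.AU (h.b.eA _)) (h.c.AU (h.b.gA _)), h.pt_A (h.b.eA _), h.pt_A (h.b.gA _), h.b.p.φ.fπ, h.b.p.φ.eπ,
    (h.b.p.s.r.ker _ (h.b.gA _)).2 (h.b.gU _)] at h1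
  have h2 := congrFun h1 1
  have h3 : t ^ 2 = 0 := by simpa using h2
  have h4 : t = 0 := pow_eq_zero_iff two_ne_zero |>.1 h3
  subst h4
  exact h.par_zero hx ht

/-- `|D0 / KK| ≤ 2` -/
theorem D0_two {x x' : G} (hx : x ∈ h.D0') (hx' : x' ∈ h.D0') (h1 : x ∉ KK T A A' U U' w n)
    (h1' : x' ∉ KK T A A' U U' w n) : x⁻¹ * x' ∈ KK T A A' U U' w n := by
  have hDG : h.D0' ≤ GG T A' U U' w n := fun y hy => (h.mem_D0.1 hy).1
  have key : ∀ x ∈ h.D0', x ∉ KK T A A' U U' w n → ∃ k ∈ KK T A A' U U' w n, ∃ y ∈ S0 T U U', x = k * (w * y) := by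
    intro x hx hxK
    obtain ⟨k, hk, y, hy, rfl⟩ := le_sup_syl hDG h.D0n h.GK h.syl h.ShG' (fun x hx => h.D0_sq hx) hx
    rcases h.Sh_dec hy.1 with h2 | ⟨y0, hy0, rfl⟩
    · exact absurd (mul_mem hk (h.S0_D0 h2 hy.2)) hxK
    · exact ⟨k, hk, y0, hy0, rfl⟩
  obtain ⟨k, hk, y, hy, rfl⟩ := key x hx h1
  obtain ⟨k', hk', y', hy', rfl⟩ := key x' hx' h1'
  have h2 : y⁻¹ * (w⁻¹ * (k⁻¹ * k') * w) * y ∈ KK T A A' U U' w n := by
    have h3 := h.KKn (inv_mem (mul_mem h.wG (h.SG hy))) (mul_mem (inv_mem hk) hk')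
    have e1 : (w * y)⁻¹ * (k⁻¹ * k') * (w * y)⁻¹⁻¹ = y⁻¹ * (w⁻¹ * (k⁻¹ * k') * w) * y := by group
    rwa [e1] at h3
  have e2 : (k * (w * y))⁻¹ * (k' * (w * y')) = y⁻¹ * (w⁻¹ * (k⁻¹ * k') * w) * y * (y⁻¹ * y') := by group
  have hKD : KK T A A' U U' w n ≤ h.D0' := by
    intro c hc
    rw [h.mem_D0]
    refine ⟨hc.1, fun u hu => ?_⟩
    rw [fix_of_comm ((h.mem_KK.1 hc).2 u hu)]
  have h4 : y⁻¹ * y' ∈ h.D0' := by
    have h5 := mul_mem (inv_mem hx) hx'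
    rw [e2] at h5
    have h6 := mul_mem (inv_mem (hKD h2)) h5
    rwa [inv_mul_cancel_left] at h6
  rw [e2]
  exact mul_mem h2 (h.S0_D0 (mul_mem (inv_mem hy) hy') h4)

/-- **(9)** `w` acts on `A` as an element of `A'`. -/
theorem main : ∃ n0 ∈ A', ∀ a ∈ A, w * a * w⁻¹ = n0 * a * n0⁻¹ := by
  obtain ⟨l, hl⟩ := h.exists_l
  obtain ⟨n0, hn0, hI⟩ := h.b.p.s.full l
  refine ⟨n0, hn0, ?_⟩
  have r := h.b.p.s.r
  have hX0 : n0 ∈ X A' n := (le_sup_left : A' ≤ X A' n) hn0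
  have hX0i : n0⁻¹ ∈ X A' n := inv_mem hX0
  have hIi := r.is_inv hI
  -- `v = n0⁻¹ w`
  have hvG : n0⁻¹ * w ∈ GG T A' U U' w n := mul_mem (h.XG hX0i) h.wG
  have hvD : n0⁻¹ * w ∈ h.D0' := by
    rw [h.mem_D0]
    refine ⟨hvG, fun y hy => ?_⟩
    have h1 := h.pt_w hy
    rw [hl] at h1
    have h2 := h.pt_X hX0i hIi (h.wY hy)
    have h3 : pt s n (w * y * w⁻¹) = ap (lo l) (pt s n y) := by
      rw [h1, ap_lo]
      apply ext2
      · simp
      · simp [add_comm]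
    have e1 : n0⁻¹ * w * y * (n0⁻¹ * w)⁻¹ = n0⁻¹ * (w * y * w⁻¹) * n0⁻¹⁻¹ := by group
    rw [e1, h2, h3, ap_inv_ap]
  suffices hK : n0⁻¹ * w ∈ KK T A A' U U' w n by
    intro a ha
    have h1 := fix_of_comm ((h.mem_KK.1 hK).2 a (h.AY ha))
    calc w * a * w⁻¹ = n0 * (n0⁻¹ * w * a * (n0⁻¹ * w)⁻¹) * n0⁻¹ := by group
      _ = _ := by rw [h1]
  by_contra hK
  have hvC : n0⁻¹ * w ∈ CC U U' := mul_mem (inv_mem (h.b.A'C hn0)) h.wC
  obtain ⟨v, hv⟩ : ∃ v, v = n0⁻¹ * w := ⟨_, rfl⟩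
  rw [← hv] at hvG hvD hK hvC
  -- `v` commutes with `x a x⁻¹ a⁻¹`
  have key : ∀ x ∈ X A' n, ∀ a ∈ A, v * (x * a * x⁻¹ * a⁻¹) = x * a * x⁻¹ * a⁻¹ * v := by
    intro x hx a ha
    have hxG := h.XG hx
    have haY := h.AY ha
    have hxa : x * a * x⁻¹ ∈ Y A w := h.XY hx haY
    have h1 : x * v * x⁻¹ ∈ h.D0' := (mem_normalizer_iff.1 (h.D0n hxG) v).1 hvD
    have h2 : x * v * x⁻¹ ∉ KK T A A' U U' w n := fun h3 => hK ((mem_normalizer_iff.1 (h.GK hxG) v).2 h3)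
    have h3 := h.D0_two hvD h1 hK h2
    have h4 := (h.mem_KK.1 h3).2 _ hxa
    have h5 : x * (v * a * v⁻¹) * x⁻¹ = v * (x * a * x⁻¹) * v⁻¹ := by
      have h6 := fix_of_comm h4
      calc x * (v * a * v⁻¹) * x⁻¹ = v * ((v⁻¹ * (x * v * x⁻¹)) * (x * a * x⁻¹) * (v⁻¹ * (x * v * x⁻¹))⁻¹) * v⁻¹ := by
            group
        _ = _ := by rw [h6]
    have hb := h.D0_b hvD haY
    obtain ⟨b, hb'⟩ : ∃ b, b = v * a * v⁻¹ * a⁻¹ := ⟨_, rfl⟩
    rw [← hb'] at hb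
    have h7 : v * a * v⁻¹ = b * a := by rw [hb']; group
    have h8 : v * (x * a * x⁻¹) * v⁻¹ = b * (x * a * x⁻¹) := by
      rw [← h5, h7]
      calc x * (b * a) * x⁻¹ = (x * b * x⁻¹) * (x * a * x⁻¹) := by group
        _ = _ := by rw [fix_of_comm (h.XB hx hb)]
    apply comm_of_fix
    have h9 : b * (x * a * x⁻¹ * a⁻¹) = x * a * x⁻¹ * a⁻¹ * b := h.Yc hb.1 (mul_mem hxa (inv_mem haY))
    calc v * (x * a * x⁻¹ * a⁻¹) * v⁻¹ = (v * (x * a * x⁻¹) * v⁻¹) * (v * a * v⁻¹)⁻¹ := by group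
      _ = b * (x * a * x⁻¹ * a⁻¹) * b⁻¹ := by rw [h8, h7]; group
      _ = _ := by rw [h9]; group
  apply hK
  refine h.mem_KK' hvG (fun a ha => fix_of_comm ?_) fun k hk => h.GB hvG hk
  -- `v` centralises `A`
  have hwm : (wm (1 : F) one_ne_zero)⁻¹ = wm 1 one_ne_zero := by
    have two := r.two
    have h1 : (-1 : F) = 1 := by linear_combination (-1 : F) * two
    rw [inv_eq_iff_mul_eq_one]
    apply ext_ent <;> simp [ent_mul, h1]
  have hni : Is L A U π n⁻¹ (wm 1 one_ne_zero) := by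
    have := r.is_inv h.hn
    rwa [hwm] at this
  have hA : A ≤ centralizer ({v} : Set G) := by
    refine h.b.A_le hni (fun z => ?_) (fun z => ?_) fun u hu => ?_
    · rw [mem_centralizer_iff]
      rintro _ rfl
      exact cc_r hvC (h.b.eU' z)
    · rw [mem_centralizer_iff]
      intro v' hv'
      rw [Set.mem_singleton_iff.1 hv']
      obtain ⟨k, hk, hkI⟩ := h.b.exists_n 1
      have hx : n⁻¹ * k * n ∈ X A' n := by
        have := conj_mem_cj (g := n⁻¹) hk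
        rw [inv_inv] at this
        exact (le_sup_right : cj n⁻¹ A' ≤ X A' n) this
      have h1 := key _ hx _ (h.b.eA z)
      have h2 : n * e z * n⁻¹ ∈ A := r.Vn n h.hn.mem _ (h.b.eA z)
      have h3 := h.b.act_n hkI h2
      have h4 : π (n * e z * n⁻¹) 0 = z := by rw [h.b.pi_n h.hn (h.b.eA z), h.b.p.φ.eπ]; simp
      rw [h4, one_pow, one_mul] at h3
      have h5 : n⁻¹ * k * n * e z * (n⁻¹ * k * n)⁻¹ * (e z)⁻¹ = n⁻¹ * e z * n * g z := by
        have h6 : n⁻¹ * g z * n = g z := fix_of_comm' (h.hn.cen _ (h.b.gU z))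
        calc n⁻¹ * k * n * e z * (n⁻¹ * k * n)⁻¹ * (e z)⁻¹
            = n⁻¹ * (k * (n * e z * n⁻¹) * k⁻¹) * (n * e z * n⁻¹)⁻¹ * n := by group
          _ = n⁻¹ * (e z * g z * (n * e z * n⁻¹)) * (n * e z * n⁻¹)⁻¹ * n := by rw [h3]
          _ = n⁻¹ * e z * n * (n⁻¹ * g z * n) := by group
          _ = _ := by rw [h6]
      rw [h5] at h1
      have h7 := cc_l hvC (h.b.gU z)
      rw [inv_inv]
      have h8 : v * (n⁻¹ * e z * n * g z) = v * (n⁻¹ * e z * n) * g z := by group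
      have h9 : n⁻¹ * e z * n * g z * v = n⁻¹ * e z * n * v * g z := by
        rw [mul_assoc, ← h7, mul_assoc, mul_assoc, mul_assoc, mul_assoc, mul_assoc]
      rw [h8, h9] at h1
      exact mul_right_cancel h1
    · rw [mem_centralizer_iff]
      rintro _ rfl
      exact cc_l hvC hu
  exact mem_centralizer_iff.1 (hA ha) v rfl

end NW

end Cfsg.Agent.Omega.IId.Ns

end

end
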